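import Groth.Agent.Lib.Ref1.Generic
import Groth.Agent.Lib.HomSh.QCoh
import Groth.Agent.Lib.ParaPair.Basic
import Mathlib.RingTheory.DiscreteValuationRing.TFAE

/-!
# Rank one coherent reflexive modules: generic rank and stalks in codimension one
-/

set_option autoImplicit false

universe u

open CategoryTheory CategoryTheory.Limits Opposite AlgebraicGeometry TopologicalSpace GrothLib.InvExt

namespace GrothLib.Ref1

variable {X : Scheme.{u}}

/-- `t` is a free generator of the stalk. -/
def Gen (F : X.Modules) (x : X) (t : F.presheaf.stalk x) : Prop :=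
  Function.Bijective fun a : X.presheaf.stalk x => a • t

theorem Gen.span {F : X.Modules} {x : X} {t : F.presheaf.stalk x} (h : Gen F x t) :
    Submodule.span (X.presheaf.stalk x) {t} = ⊤ :=
  eq_top_iff.2 fun v _ => Submodule.mem_span_singleton.2 (h.2 v)

theorem gen_of_isGen {F : X.Modules} {V : X.Opens} {e : Γ(F, V)} (he : IsGen F V e) {x : X} (hx : x ∈ V) :
    Gen F x (F.presheaf.germ V x hx e) := by
  constructor
  · intro a b hab
    obtain ⟨Ua, ha, r, rfl⟩ := TopCat.Presheaf.exists_germ_eq X.presheaf a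
    obtain ⟨Ub, hb, r', rfl⟩ := TopCat.Presheaf.exists_germ_eq X.presheaf b
    let T := Ua ⊓ Ub ⊓ V
    have hxT : x ∈ T := ⟨⟨ha, hb⟩, hx⟩
    let i₁ : T ⟶ Ua := homOfLE (inf_le_left.trans inf_le_left)
    let i₂ : T ⟶ Ub := homOfLE (inf_le_left.trans inf_le_right)
    let i₃ : T ⟶ V := homOfLE inf_le_right
    dsimp only at hab
    rw [← TopCat.Presheaf.germ_res_apply X.presheaf i₁ x hxT r,
      ← TopCat.Presheaf.germ_res_apply X.presheaf i₂ x hxT r',
      ← TopCat.Presheaf.germ_res_apply F.presheaf i₃ x hxT e, ← Mero.germ_smul, ← Mero.germ_smul] at hab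
    obtain ⟨W, hxW, i, i', heq⟩ := TopCat.Presheaf.germ_eq F.presheaf x hxT hxT _ _ hab
    obtain rfl : i = i' := Subsingleton.elim _ _
    have hW : W ≤ V := i.le.trans inf_le_right
    have hres : F.presheaf.map i.op (F.presheaf.map i₃.op e) = mres F hW e := by
      rw [← ConcreteCategory.comp_apply, ← Functor.map_comp]; rfl
    rw [Scheme.Modules.map_smul, Scheme.Modules.map_smul, hres] at heq
    have := he.smul_left_injective hW heq
    have := congrArg (X.presheaf.germ W x hxW) this
    rwa [TopCat.Presheaf.germ_res_apply, TopCat.Presheaf.germ_res_apply, TopCat.Presheaf.germ_res_apply,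
      TopCat.Presheaf.germ_res_apply] at this
  · intro v
    obtain ⟨U, hU, m, rfl⟩ := TopCat.Presheaf.exists_germ_eq F.presheaf v
    have hxT : x ∈ U ⊓ V := ⟨hU, hx⟩
    obtain ⟨c, hc⟩ := he.exists_smul_eq (inf_le_right : U ⊓ V ≤ V)
      (F.presheaf.map (homOfLE (inf_le_left : U ⊓ V ≤ U)).op m)
    refine ⟨X.presheaf.germ (U ⊓ V) x hxT c, ?_⟩
    dsimp only
    rw [← TopCat.Presheaf.germ_res_apply F.presheaf (homOfLE (inf_le_left : U ⊓ V ≤ U)) x hxT m, hc,
      Mero.germ_smul]
    exact congrArg _ (TopCat.Presheaf.germ_res_apply F.presheaf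
      (homOfLE (inf_le_right : U ⊓ V ≤ V)) x hxT e).symm

theorem isGen_of_gen {F : X.Modules} {V : X.Opens} {e : Γ(F, V)}
    (h : ∀ (x : X) (hx : x ∈ V), Gen F x (F.presheaf.germ V x hx e)) : IsGen F V e := by
  intro W hW
  have hg : ∀ (y : X) (hy : y ∈ W), F.presheaf.germ W y hy (mres F hW e) = F.presheaf.germ V y (hW hy) e :=
    fun y hy => TopCat.Presheaf.germ_res_apply F.presheaf _ y hy e
  constructor
  · intro c d hcd
    refine TopCat.Presheaf.section_ext X.sheaf W c d fun y hy => (h y (hW hy)).1 ?_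
    have := congrArg (F.presheaf.germ W y hy) hcd
    dsimp only at this
    rwa [Mero.germ_smul, Mero.germ_smul, hg] at this
  · intro m
    have hloc : ∀ y : W, ∃ (T : X.Opens) (j : T ⟶ W) (_ : y.1 ∈ T) (c : Γ(X, T)),
        F.presheaf.map j.op m = c • mres F (j.le.trans hW) e := by
      intro y
      obtain ⟨a, ha⟩ := (h y.1 (hW y.2)).2 (F.presheaf.germ W y.1 y.2 m)
      obtain ⟨U, hU, r, rfl⟩ := TopCat.Presheaf.exists_germ_eq X.presheaf a
      have hyT : y.1 ∈ U ⊓ W := ⟨hU, y.2⟩
      let i₁ : U ⊓ W ⟶ U := homOfLE inf_le_left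
      let i₂ : U ⊓ W ⟶ W := homOfLE inf_le_right
      dsimp only at ha
      have e1 : F.presheaf.germ (U ⊓ W) y.1 hyT (X.presheaf.map i₁.op r • mres F (i₂.le.trans hW) e) =
          F.presheaf.germ (U ⊓ W) y.1 hyT (F.presheaf.map i₂.op m) := by
        rw [Mero.germ_smul, TopCat.Presheaf.germ_res_apply]
        erw [TopCat.Presheaf.germ_res_apply, TopCat.Presheaf.germ_res_apply]
        exact ha
      obtain ⟨T, hT, i, i', heq⟩ := TopCat.Presheaf.germ_eq F.presheaf y.1 hyT hyT _ _ e1
      obtain rfl : i = i' := Subsingleton.elim _ _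
      refine ⟨T, i ≫ i₂, hT, X.presheaf.map i.op (X.presheaf.map i₁.op r), ?_⟩
      rw [op_comp, Functor.map_comp, ConcreteCategory.comp_apply, ← heq, Scheme.Modules.map_smul]
      congr 1
      exact (mres_mres F (i₂.le.trans hW) i.le e)
    choose T j hyT c hc using hloc
    have hcov : W ≤ iSup T := fun y hy => Opens.mem_iSup.2 ⟨⟨y, hy⟩, hyT ⟨y, hy⟩⟩
    obtain ⟨g, hgl, -⟩ := X.sheaf.existsUnique_gluing' T W j hcov c (by
      intro a b
      refine TopCat.Presheaf.section_ext X.sheaf _ _ _ fun z hz => ?_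
      change X.presheaf.germ _ z hz (X.presheaf.map _ (c a)) = X.presheaf.germ _ z hz (X.presheaf.map _ (c b))
      rw [TopCat.Presheaf.germ_res_apply, TopCat.Presheaf.germ_res_apply]
      refine (h z (hW ((j a).le hz.1))).1 ?_
      have ha := congrArg (F.presheaf.germ (T a) z hz.1) (hc a)
      have hb := congrArg (F.presheaf.germ (T b) z hz.2) (hc b)
      rw [TopCat.Presheaf.germ_res_apply, Mero.germ_smul] at ha hb
      erw [TopCat.Presheaf.germ_res_apply] at ha hb
      exact ha.symm.trans hb)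
    let g' : Γ(X, W) := g
    refine ⟨g', TopCat.Presheaf.section_ext (C := Ab.{u}) (X := X.carrier) ⟨F.presheaf, F.isSheaf⟩ W _ _
      fun y hy => ?_⟩
    change F.presheaf.germ W y hy (g' • mres F hW e) = F.presheaf.germ W y hy m
    have h1 := congrArg (X.presheaf.germ (T ⟨y, hy⟩) y (hyT ⟨y, hy⟩)) (hgl ⟨y, hy⟩)
    erw [TopCat.Presheaf.germ_res_apply] at h1
    have h2 := congrArg (F.presheaf.germ (T ⟨y, hy⟩) y (hyT ⟨y, hy⟩)) (hc ⟨y, hy⟩)
    rw [TopCat.Presheaf.germ_res_apply, Mero.germ_smul] at h2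
    erw [TopCat.Presheaf.germ_res_apply] at h2
    rw [Mero.germ_smul, hg, h2]
    exact congrArg (· • _) h1

theorem exists_gen_of_isInvertible {L : X.Modules} (hL : PicF.IsInvertible L) (x : X) :
    ∃ t, Gen L x t := by
  obtain ⟨V, e, hx, he⟩ := exists_gen_nhd hL x
  exact ⟨_, gen_of_isGen he hx⟩

theorem bidual_surjective_of_pid (R : Type*) [CommRing R] [IsDomain R] [IsPrincipalIdealRing R] (M : Type*)
    [AddCommGroup M] [Module R M] [Module.Finite R M] : Function.Surjective (Module.Dual.eval R M) := by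
  intro θ
  let N := M ⧸ Submodule.torsion R M
  let π : M →ₗ[R] N := (Submodule.torsion R M).mkQ
  have : Module.IsTorsionFree R N := inferInstance
  have : Module.Free R N := Module.free_of_finite_type_torsion_free'
  obtain ⟨w, hw⟩ := (Module.bijective_dual_eval R N).2 (θ.comp π.dualMap)
  obtain ⟨m, rfl⟩ := Submodule.Quotient.mk_surjective _ w
  refine ⟨m, LinearMap.ext fun φ => ?_⟩
  have hle : Submodule.torsion R M ≤ LinearMap.ker φ := fun v hv => by
    obtain ⟨a, ha⟩ := (Submodule.mem_torsion_iff v).1 hv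
    have := congrArg φ ha
    rw [map_zero, Submonoid.smul_def, map_smul, smul_eq_mul, mul_eq_zero] at this
    exact this.resolve_left (nonZeroDivisors.ne_zero a.2)
  have := LinearMap.congr_fun hw ((Submodule.torsion R M).liftQ φ hle)
  exact this.trans (congrArg θ ((Submodule.torsion R M).liftQ_mkQ φ hle))

variable [IsIntegral X]

/-- In codimension one a normal scheme has discrete valuation rings. -/
theorem isDiscreteValuationRing_of_dim_one [IsLocallyNoetherian X] (hX : Pi1.IsNormalScheme X) {x : X}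
    (h1 : ringKrullDim (X.presheaf.stalk x) = 1) : IsDiscreteValuationRing (X.presheaf.stalk x) := by
  have := (hX x).2
  have : Ring.KrullDimLE 1 (X.presheaf.stalk x) := Ring.krullDimLE_iff.2 h1.le
  have : Ring.DimensionLEOne (X.presheaf.stalk x) := ⟨fun hp hp' =>
    Ideal.IsPrime.isMaximal_of_ne_bot hp' hp⟩
  have hnf : ¬ IsField (X.presheaf.stalk x) := fun hF => by
    rw [ringKrullDim_eq_zero_of_isField hF] at h1
    exact zero_ne_one h1
  have : IsDedekindDomain (X.presheaf.stalk x) := {}
  exact ((IsDiscreteValuationRing.TFAE _ hnf).out 0 2).2 this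

theorem exists_spR_div (x : X) (c : X.presheaf.stalk (genericPoint X)) :
    ∃ a b : X.presheaf.stalk x, b ≠ 0 ∧ spR (hη x) b * c = spR (hη x) a := by
  obtain ⟨⟨a, b⟩, h⟩ := IsLocalization.surj (nonZeroDivisors (X.presheaf.stalk x)) (S := X.functionField) c
  exact ⟨a, b, nonZeroDivisors.ne_zero b.2, (mul_comm _ _).trans h⟩

omit [IsIntegral X] in
theorem Gen.ne_zero {F : X.Modules} {x : X} {t : F.presheaf.stalk x} (h : Gen F x t) : t ≠ 0 := by
  rintro rfl
  exact one_ne_zero (h.1 (show (1 : X.presheaf.stalk x) • (0 : F.presheaf.stalk x) = (0 : X.presheaf.stalk x) • 0 by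
    simp))

/-- The image of a generator generates the generic stalk. -/
theorem Gen.sp {F : X.Modules} [F.IsQuasicoherent] {x : X} {t : F.presheaf.stalk x} (h : Gen F x t) :
    Gen F (genericPoint X) (sp F (hη x) t) := by
  constructor
  · refine (injective_iff_map_eq_zero (LinearMap.toSpanSingleton (X.presheaf.stalk (genericPoint X))
      (F.presheaf.stalk (genericPoint X)) (Ref1.sp F (hη x) t))).2 fun c hc => ?_
    replace hc : c • Ref1.sp F (hη x) t = 0 := hc
    obtain ⟨a, b, hb, hab⟩ := exists_spR_div x c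
    have : Ref1.sp F (hη x) (a • t) = 0 := by
      rw [sp_smul, ← hab, mul_smul, hc, smul_zero]
    obtain ⟨s, hs, hst⟩ := exists_smul_eq_zero_of_sp F (hη x) _ this
    have hs0 := ne_zero_of_isUnit_spR _ hs
    have hsa : s * a = 0 := h.1 (show (s * a) • t = (0 : X.presheaf.stalk x) • t by rw [mul_smul, hst, zero_smul])
    have ha0 : a = 0 := by
      rcases mul_eq_zero.1 hsa with h' | h'
      · exact absurd h' hs0
      · exact h'
    rw [ha0, map_zero, mul_eq_zero] at hab
    exact hab.resolve_left ((isUnit_spR hb).ne_zero)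
  · intro w
    obtain ⟨a, v, ha, hav⟩ := exists_sp_smul F (hη x) w
    obtain ⟨c, rfl⟩ := h.2 v
    rw [sp_smul] at hav
    refine ⟨↑ha.unit⁻¹ * spR (hη x) c, ?_⟩
    dsimp only
    rw [mul_smul, ← hav, ← mul_smul, IsUnit.val_inv_mul, one_smul]

/-- A torsion free stalk of a module of generic rank one over a principal ideal domain is free of rank one. -/
theorem exists_gen_of_pid {F : X.Modules} [F.IsQuasicoherent] {x : X} [IsPrincipalIdealRing (X.presheaf.stalk x)]
    [Module.Finite (X.presheaf.stalk x) (F.presheaf.stalk x)]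
    (hinj : Function.Injective (sp F (hη x))) {e : F.presheaf.stalk (genericPoint X)}
    (he : Gen F (genericPoint X) e) : ∃ t, Gen F x t := by
  have : Module.IsTorsionFree (X.presheaf.stalk x) (F.presheaf.stalk x) :=
    .of_smul_eq_zero fun a v hav => or_iff_not_imp_left.2 fun ha => hinj (by
      have := congrArg (Ref1.sp F (hη x)) hav
      rw [sp_smul, map_zero] at this
      rw [map_zero]
      exact (isUnit_spR ha).smul_eq_zero.1 this)
  have : Module.Free (X.presheaf.stalk x) (F.presheaf.stalk x) := Module.free_of_finite_type_torsion_free'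
  let b := Module.Free.chooseBasis (X.presheaf.stalk x) (F.presheaf.stalk x)
  have hne : Nonempty (Module.Free.ChooseBasisIndex (X.presheaf.stalk x) (F.presheaf.stalk x)) := by
    by_contra hemp
    rw [not_nonempty_iff] at hemp
    have hsub : Subsingleton (F.presheaf.stalk x) := b.repr.toEquiv.subsingleton
    obtain ⟨a, v, ha, hav⟩ := exists_sp_smul F (hη x) e
    rw [Subsingleton.elim v 0, map_zero, ha.smul_eq_zero] at hav
    exact he.ne_zero hav
  have huniq : ∀ i j, i = j := fun i j => by
    by_contra hij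
    obtain ⟨ci, hci⟩ := he.2 (Ref1.sp F (hη x) (b i))
    obtain ⟨cj, hcj⟩ := he.2 (Ref1.sp F (hη x) (b j))
    dsimp only at hci hcj
    obtain ⟨pi, qi, hqi, hi⟩ := exists_spR_div x ci
    obtain ⟨pj, qj, hqj, hj⟩ := exists_spR_div x cj
    have key : (qi * pj) • b i - (qj * pi) • b j = 0 := hinj <| by
      rw [map_sub, sp_smul, sp_smul, map_zero, map_mul, map_mul, ← hci, ← hcj, ← hi, ← hj, ← mul_smul,
        ← mul_smul, sub_eq_zero]
      congr 1
      ring
    have := congrArg (fun v => b.repr v i) key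
    simp [Ne.symm hij, hqi] at this
    rw [this, map_zero, mul_eq_zero] at hj
    have hcj0 := hj.resolve_left (isUnit_spR hqj).ne_zero
    refine b.ne_zero j (hinj ?_)
    rw [← hcj, hcj0, zero_smul, map_zero]
  obtain ⟨i⟩ := hne
  refine ⟨b i, fun a c hac => ?_, fun v => ⟨b.repr v i, ?_⟩⟩
  · have := congrArg (fun v => b.repr v i) hac
    simpa using this
  · refine b.repr.injective (Finsupp.ext fun j => ?_)
    obtain rfl := huniq i j
    simp

/-- Being invertible on a dense open means generic rank one. -/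
theorem exists_gen_of_genInvertible {F : X.Modules} (hF : RefHull.GenInvertible F) :
    ∃ e, Gen F (genericPoint X) e := by
  obtain ⟨U, hU, hinv⟩ := hF
  have hηU : genericPoint X ∈ U :=
    ((genericPoint_spec X).mem_open_set_iff U.2).2 (by simpa using hU.nonempty)
  obtain ⟨V, e, hV, he⟩ := (ParaPair.genNear_unit_iff U.ι F (x := genericPoint X)
    (by rwa [Scheme.Opens.opensRange_ι])).1
      (ParaPair.genNear_push U.ι (ParaPair.isInvertible_iff.1 hinv ⟨genericPoint X, hηU⟩))
  exact ⟨_, gen_of_isGen he hV⟩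

/-- A module with finitely many generators and generic rank one is invertible on a dense open. -/
theorem genInvertible_of_gen {F : X.Modules} (hF : HomSh.HasRel F) {e : F.presheaf.stalk (genericPoint X)}
    (he : Gen F (genericPoint X) e) : RefHull.GenInvertible F := by
  classical
  obtain ⟨U, hU, s, rfl⟩ := TopCat.Presheaf.exists_germ_eq F.presheaf e
  obtain ⟨W, ι, _, κ, _, m, a, hW, hgen, -⟩ := hF (genericPoint X)
  choose c hc using fun i => he.2 (F.presheaf.germ W (genericPoint X) hW (m i))
  choose Vc hVc r hr using fun i => TopCat.Presheaf.exists_germ_eq X.presheaf (c i)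
  let V₀ : X.Opens := ⟨(⋂ i, (Vc i : Set X)) ∩ U ∩ W,
    ((isOpen_iInter_of_finite fun i => (Vc i).isOpen).inter U.isOpen).inter W.isOpen⟩
  have hV₀ : genericPoint X ∈ V₀ := ⟨⟨Set.mem_iInter.2 hVc, hU⟩, hW⟩
  have hU' : V₀ ≤ U := fun z hz => hz.1.2
  have hW' : V₀ ≤ W := fun z hz => hz.2
  have hc' : ∀ i, V₀ ≤ Vc i := fun i z hz => Set.mem_iInter.1 hz.1.1 i
  obtain ⟨V, hVle, hηV, hz⟩ := HomSh.exists_nhd_zero F hV₀
    (fun i => F.presheaf.map (homOfLE hW').op (m i) -
      X.presheaf.map (homOfLE (hc' i)).op (r i) • F.presheaf.map (homOfLE hU').op s) fun i => by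
      rw [map_sub, Mero.germ_smul, TopCat.Presheaf.germ_res_apply, TopCat.Presheaf.germ_res_apply,
        TopCat.Presheaf.germ_res_apply, hr, sub_eq_zero]
      exact (hc i).symm
  have hgenV : IsGen F V (mres F (hVle.trans hU') s) := isGen_of_gen fun y hy => by
    rw [show F.presheaf.germ V y hy (mres F (hVle.trans hU') s) = F.presheaf.germ U y (hU' (hVle hy)) s from
      TopCat.Presheaf.germ_res_apply F.presheaf _ y hy s]
    constructor
    · intro a b hab
      dsimp only at hab
      have := congrArg (Ref1.sp F (hη y)) hab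
      rw [sp_smul, sp_smul, sp_germ] at this
      exact spR_injective y (he.1 this)
    · intro v
      obtain ⟨d, rfl⟩ := (Submodule.mem_span_range_iff_exists_fun _).1
        ((hgen y (hW' (hVle hy))).ge (Submodule.mem_top (x := v)))
      refine ⟨∑ i, d i * X.presheaf.germ (Vc i) y (hc' i (hVle hy)) (r i), ?_⟩
      dsimp only
      rw [Finset.sum_smul]
      refine Finset.sum_congr rfl fun i _ => ?_
      have := congrArg (F.presheaf.germ V y hy) (hz i)
      rw [map_zero, TopCat.Presheaf.germ_res_apply, map_sub, Mero.germ_smul, TopCat.Presheaf.germ_res_apply,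
        TopCat.Presheaf.germ_res_apply, TopCat.Presheaf.germ_res_apply, sub_eq_zero] at this
      rw [mul_smul, ← this]
  refine ⟨V, V.2.dense ⟨_, hηV⟩, ?_⟩
  obtain ⟨φ⟩ := exists_iso_of_gen hgenV
  exact ParaPair.isInvertible_of_iso φ (ParaPair.isInvertible_structure _)

end GrothLib.Ref1
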