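import Groth.Agent.Lib.OX.PullbackTensor
import Groth.Agent.Lib.Ref1.Rank
import Groth.Prelude.Def_SecTwist

/-!
# Stalks of tensor products: product of germs, generators, relations
-/

set_option autoImplicit false

universe u

open CategoryTheory CategoryTheory.Limits Opposite AlgebraicGeometry TopologicalSpace
open scoped TensorProduct

namespace GrothLib.Ref1

variable {X : Scheme.{u}} (F G : X.Modules) {x y : X}

/-- The stalk of a tensor product. -/
noncomputable def tensorStalk (x : X) : (CohB1.tensorMod F G).presheaf.stalk x ≃ₗ[X.presheaf.stalk x]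
    F.presheaf.stalk x ⊗[X.presheaf.stalk x] G.presheaf.stalk x :=
  (OX.stalkTensorBiIso (x := x) F G).toLinearEquiv

/-- The product of two germs. -/
noncomputable def tmulStalk (x : X) : F.presheaf.stalk x →ₗ[X.presheaf.stalk x] G.presheaf.stalk x →ₗ[X.presheaf.stalk x]
    (CohB1.tensorMod F G).presheaf.stalk x :=
  (TensorProduct.mk _ _ _).compr₂ (tensorStalk F G x).symm.toLinearMap

theorem tensorStalk_tmulStalk (v : F.presheaf.stalk x) (w : G.presheaf.stalk x) :
    tensorStalk F G x (tmulStalk F G x v w) = v ⊗ₜ w :=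
  (tensorStalk F G x).apply_symm_apply _

theorem germ_tmul {U : X.Opens} (hx : x ∈ U) (m : Γ(F, U)) (n : Γ(G, U)) :
    (CohB1.tensorMod F G).presheaf.germ U x hx (SecTwist.tmul F G U m n) =
      tmulStalk F G x (F.presheaf.germ U x hx m) (G.presheaf.germ U x hx n) :=
  ((tensorStalk F G x).eq_symm_apply).2 (OX.stalkTensorBiIso_germ x F G U hx m n)

theorem sp_tmulStalk (h : y ⤳ x) (v : F.presheaf.stalk x) (w : G.presheaf.stalk x) :
    sp (CohB1.tensorMod F G) h (tmulStalk F G x v w) = tmulStalk F G y (sp F h v) (sp G h w) := by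
  obtain ⟨Uv, hv, m, rfl⟩ := TopCat.Presheaf.exists_germ_eq F.presheaf v
  obtain ⟨Uw, hw, n, rfl⟩ := TopCat.Presheaf.exists_germ_eq G.presheaf w
  rw [← TopCat.Presheaf.germ_res_apply F.presheaf (homOfLE (inf_le_left : Uv ⊓ Uw ≤ Uv)) x ⟨hv, hw⟩,
    ← TopCat.Presheaf.germ_res_apply G.presheaf (homOfLE (inf_le_right : Uv ⊓ Uw ≤ Uw)) x ⟨hv, hw⟩,
    ← germ_tmul, sp_germ, germ_tmul, sp_germ, sp_germ]

/-- The product of generators is a generator. -/
theorem Gen.tmulStalk {e : F.presheaf.stalk x} {e' : G.presheaf.stalk x} (he : Gen F x e) (he' : Gen G x e') :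
    Gen (CohB1.tensorMod F G) x (tmulStalk F G x e e') := by
  let R := X.presheaf.stalk x
  let φ : R ≃ₗ[R] F.presheaf.stalk x := LinearEquiv.ofBijective (LinearMap.toSpanSingleton R _ e) he
  let ψ : R ≃ₗ[R] G.presheaf.stalk x := LinearEquiv.ofBijective (LinearMap.toSpanSingleton R _ e') he'
  let E : R ≃ₗ[R] (CohB1.tensorMod F G).presheaf.stalk x :=
    (TensorProduct.lid R R).symm ≪≫ₗ TensorProduct.congr φ ψ ≪≫ₗ (tensorStalk F G x).symm
  have hE : ∀ a : R, E a = a • Ref1.tmulStalk F G x e e' := fun a => by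
    refine ((tensorStalk F G x).symm_apply_eq).2 ?_
    rw [map_smul, tensorStalk_tmulStalk, ← TensorProduct.tmul_smul]
    change TensorProduct.congr φ ψ ((1 : R) ⊗ₜ a) = _
    rw [TensorProduct.congr_tmul]
    change ((1 : R) • e) ⊗ₜ (a • e') = _
    rw [one_smul]
  have hb := E.bijective
  rw [show (⇑E : R → _) = fun a => a • Ref1.tmulStalk F G x e e' from funext hE] at hb
  exact hb

/-- Right exactness: the relations of a tensor product. -/
theorem mem_span_of_sum_tmul_eq_zero {R : Type*} [CommRing R] {M N : Type*} [AddCommGroup M] [Module R M]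
    [AddCommGroup N] [Module R N] {ι ι' κ κ' : Type*} [Fintype ι] [Fintype ι'] [DecidableEq ι] [DecidableEq ι']
    {m : ι → M} {n : ι' → N} (hm : Submodule.span R (Set.range m) = ⊤)
    (hn : Submodule.span R (Set.range n) = ⊤) {a : κ → ι → R} {b : κ' → ι' → R}
    (ha : ∀ c : ι → R, ∑ i, c i • m i = 0 → c ∈ Submodule.span R (Set.range a))
    (hb : ∀ c : ι' → R, ∑ j, c j • n j = 0 → c ∈ Submodule.span R (Set.range b))
    (c : ι × ι' → R) (hc : ∑ p, c p • (m p.1 ⊗ₜ[R] n p.2) = 0) :
    c ∈ Submodule.span R (Set.range fun r : (κ × ι') ⊕ (κ' × ι) => fun p : ι × ι' =>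
      Sum.elim (fun q => if p.2 = q.2 then a q.1 p.1 else 0) (fun q => if p.1 = q.2 then b q.1 p.2 else 0) r) := by
  classical
  set S := Submodule.span R (Set.range fun r : (κ × ι') ⊕ (κ' × ι) => fun p : ι × ι' =>
      Sum.elim (fun q => if p.2 = q.2 then a q.1 p.1 else 0) (fun q => if p.1 = q.2 then b q.1 p.2 else 0) r) with hS
  let Φ : (ι → R) →ₗ[R] (ι' → R) →ₗ[R] ((ι × ι' → R) ⧸ S) :=
    LinearMap.mk₂ R (fun u v => S.mkQ fun p => u p.1 * v p.2)
      (fun u u' v => by rw [← map_add]; congr 1; funext p; simp [add_mul])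
      (fun r u v => by rw [← map_smul]; congr 1; funext p; simp [mul_assoc])
      (fun u v v' => by rw [← map_add]; congr 1; funext p; simp [mul_add])
      (fun r u v => by rw [← map_smul]; congr 1; funext p; simp [mul_left_comm])
  have hΦ1 : ∀ u ∈ Submodule.span R (Set.range a), Φ u = 0 := fun u hu => by
    refine LinearMap.mem_ker.1 (Submodule.span_le.2 ?_ hu)
    rintro _ ⟨k, rfl⟩
    refine LinearMap.pi_ext' fun j => LinearMap.ext_ring ?_
    change S.mkQ (fun p => a k p.1 * (Pi.single j (1 : R) : ι' → R) p.2) = 0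
    refine (Submodule.Quotient.mk_eq_zero S).2 ?_
    rw [hS]
    refine Submodule.subset_span ⟨Sum.inl (k, j), ?_⟩
    funext p
    simp [Pi.single_apply]
  have hΦ2 : ∀ v ∈ Submodule.span R (Set.range b), ∀ u, Φ u v = 0 := fun v hv u => by
    refine LinearMap.congr_fun (LinearMap.mem_ker.1 (Submodule.span_le.2 ?_ hv :
      v ∈ LinearMap.ker Φ.flip)) u
    rintro _ ⟨k, rfl⟩
    refine LinearMap.pi_ext' fun i => LinearMap.ext_ring ?_
    change S.mkQ (fun p => (Pi.single i (1 : R) : ι → R) p.1 * b k p.2) = 0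
    refine (Submodule.Quotient.mk_eq_zero S).2 ?_
    rw [hS]
    refine Submodule.subset_span ⟨Sum.inr (k, i), ?_⟩
    funext p
    simp [Pi.single_apply]
  let K := Fintype.linearCombination R m
  let K' := Fintype.linearCombination R n
  have hK : Function.Surjective K := by
    rw [← LinearMap.range_eq_top, Fintype.range_linearCombination]; exact hm
  have hK' : Function.Surjective K' := by
    rw [← LinearMap.range_eq_top, Fintype.range_linearCombination]; exact hn
  let s : M → ι → R := Function.surjInv hK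
  let s' : N → ι' → R := Function.surjInv hK'
  have hs : ∀ v, K (s v) = v := Function.surjInv_eq hK
  have hs' : ∀ v, K' (s' v) = v := Function.surjInv_eq hK'
  have h1 : ∀ u u', K u = K u' → Φ u = Φ u' := fun u u' h => by
    rw [← sub_eq_zero, ← map_sub]
    exact hΦ1 _ (ha _ (show K (u - u') = 0 by rw [map_sub, h, sub_self]))
  have h2 : ∀ u v v', K' v = K' v' → Φ u v = Φ u v' := fun u v v' h => by
    rw [← sub_eq_zero, ← map_sub]
    exact hΦ2 _ (hb _ (show K' (v - v') = 0 by rw [map_sub, h, sub_self])) u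
  let B : M →ₗ[R] N →ₗ[R] ((ι × ι' → R) ⧸ S) := LinearMap.mk₂ R (fun v w => Φ (s v) (s' w))
    (fun v v' w => by
      rw [h1 (s (v + v')) (s v + s v') (by rw [map_add, hs, hs, hs]), map_add, LinearMap.add_apply])
    (fun r v w => by
      rw [h1 (s (r • v)) (r • s v) (by rw [map_smul, hs, hs]), map_smul, LinearMap.smul_apply])
    (fun v w w' => by
      rw [h2 (s v) (s' (w + w')) (s' w + s' w') (by rw [map_add, hs', hs', hs']), map_add])
    (fun r v w => by
      rw [h2 (s v) (s' (r • w)) (r • s' w) (by rw [map_smul, hs', hs']), map_smul])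
  have hB : ∀ i j, B (m i) (n j) = S.mkQ (Pi.single (i, j) 1) := fun i j => by
    change Φ (s (m i)) (s' (n j)) = _
    rw [h1 (s (m i)) (Pi.single i 1) (by rw [hs]; simp [K]),
      h2 _ (s' (n j)) (Pi.single j 1) (by rw [hs']; simp [K'])]
    change S.mkQ _ = _
    congr 1
    funext p
    obtain ⟨p₁, p₂⟩ := p
    by_cases h₁ : p₁ = i <;> by_cases h₂ : p₂ = j <;> simp [Pi.single_apply, h₁, h₂]
  have := congrArg (TensorProduct.lift B) hc
  simp only [map_sum, map_smul, TensorProduct.lift.tmul, map_zero, hB] at this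
  simp only [← map_smul] at this
  rw [← map_sum] at this
  refine (Submodule.Quotient.mk_eq_zero S).1 (Eq.trans (congrArg S.mkQ ?_) this)
  funext q
  simp [Finset.sum_apply, Pi.single_apply]

/-- A tensor product of modules with finitely many local generators and relations has such. -/
theorem hasRel_tensorMod {F G : X.Modules} (hF : HomSh.HasRel F) (hG : HomSh.HasRel G) :
    HomSh.HasRel (CohB1.tensorMod F G) := by
  classical
  intro x
  obtain ⟨W, ι, _, κ, _, m, a, hxW, hgen, hrel⟩ := hF x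
  obtain ⟨W', ι', _, κ', _, m', a', hxW', hgen', hrel'⟩ := hG x
  let W₀ : X.Opens := W ⊓ W'
  let μ : ι → Γ(F, W₀) := fun i => F.presheaf.map (homOfLE inf_le_left).op (m i)
  let μ' : ι' → Γ(G, W₀) := fun i => G.presheaf.map (homOfLE inf_le_right).op (m' i)
  let α : κ → ι → Γ(X, W₀) := fun k i => X.presheaf.map (homOfLE inf_le_left).op (a k i)
  let α' : κ' → ι' → Γ(X, W₀) := fun k i => X.presheaf.map (homOfLE inf_le_right).op (a' k i)
  let t : ι × ι' → Γ(CohB1.tensorMod F G, W₀) := fun p => SecTwist.tmul F G W₀ (μ p.1) (μ' p.2)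
  let A : (κ × ι') ⊕ (κ' × ι) → ι × ι' → Γ(X, W₀) := fun r p =>
    Sum.elim (fun q => if p.2 = q.2 then α q.1 p.1 else 0) (fun q => if p.1 = q.2 then α' q.1 p.2 else 0) r
  have hz : ∀ (y : X) (hy : y ∈ W₀) (p : ι × ι'),
      tensorStalk F G y ((CohB1.tensorMod F G).presheaf.germ W₀ y hy (t p)) =
        F.presheaf.germ W y hy.1 (m p.1) ⊗ₜ G.presheaf.germ W' y hy.2 (m' p.2) := fun y hy p => by
    simp only [t, μ, μ']
    rw [germ_tmul, tensorStalk_tmulStalk, TopCat.Presheaf.germ_res_apply, TopCat.Presheaf.germ_res_apply]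
  refine ⟨W₀, ι × ι', inferInstance, (κ × ι') ⊕ (κ' × ι), inferInstance, t, A, ⟨hxW, hxW'⟩,
    fun y hy => ?_, fun y hy => ⟨fun r => (tensorStalk F G y).injective ?_, fun c hc => ?_⟩⟩
  · refine eq_top_iff.2 fun v _ => ?_
    have hspan : tensorStalk F G y v ∈ Submodule.span (X.presheaf.stalk y)
        (Set.range fun p : ι × ι' => F.presheaf.germ W y hy.1 (m p.1) ⊗ₜ[X.presheaf.stalk y] G.presheaf.germ W' y hy.2 (m' p.2)) := by
      refine TensorProduct.induction_on (tensorStalk F G y v) (Submodule.zero_mem _) (fun v w => ?_)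
        fun _ _ h h' => Submodule.add_mem _ h h'
      obtain ⟨c, rfl⟩ := (Submodule.mem_span_range_iff_exists_fun _).1
        ((hgen y hy.1).ge (Submodule.mem_top (x := v)))
      obtain ⟨d, rfl⟩ := (Submodule.mem_span_range_iff_exists_fun _).1
        ((hgen' y hy.2).ge (Submodule.mem_top (x := w)))
      rw [TensorProduct.sum_tmul]
      refine Submodule.sum_mem _ fun i _ => ?_
      rw [TensorProduct.tmul_sum]
      refine Submodule.sum_mem _ fun j _ => ?_
      rw [← TensorProduct.smul_tmul', TensorProduct.tmul_smul]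
      exact Submodule.smul_mem _ _ (Submodule.smul_mem _ _ (Submodule.subset_span ⟨(i, j), rfl⟩))
    obtain ⟨c, hc⟩ := (Submodule.mem_span_range_iff_exists_fun _).1 hspan
    refine (Submodule.mem_span_range_iff_exists_fun _).2 ⟨c, (tensorStalk F G y).injective ?_⟩
    rw [← hc, map_sum]
    exact Finset.sum_congr rfl fun p _ => by rw [map_smul, hz]
  · rw [map_sum, map_zero]
    simp only [map_smul, hz]
    rcases r with ⟨k, j₀⟩ | ⟨k, i₀⟩
    · simp only [A, α, Sum.elim_inl, Fintype.sum_prod_type, apply_ite (X.presheaf.germ W₀ y hy), map_zero,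
        ite_smul, zero_smul, Finset.sum_ite_eq', Finset.mem_univ, if_true, TopCat.Presheaf.germ_res_apply,
        TensorProduct.smul_tmul', ← TensorProduct.sum_tmul, (hrel y hy.1).1 k, TensorProduct.zero_tmul]
    · rw [Fintype.sum_prod_type, Finset.sum_comm]
      simp only [A, α', Sum.elim_inr, apply_ite (X.presheaf.germ W₀ y hy), map_zero, ite_smul, zero_smul,
        Finset.sum_ite_eq', Finset.mem_univ, if_true, TopCat.Presheaf.germ_res_apply, ← TensorProduct.tmul_smul,
        ← TensorProduct.tmul_sum, (hrel' y hy.2).1 k, TensorProduct.tmul_zero]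
  · have h0 : ∑ p, c p • (F.presheaf.germ W y hy.1 (m p.1) ⊗ₜ[X.presheaf.stalk y] G.presheaf.germ W' y hy.2 (m' p.2)) = 0 := by
      have := congrArg (tensorStalk F G y) hc
      rw [map_sum, map_zero] at this
      simpa only [map_smul, hz] using this
    have := mem_span_of_sum_tmul_eq_zero (hgen y hy.1) (hgen' y hy.2) (hrel y hy.1).2 (hrel' y hy.2).2 c h0
    refine Submodule.span_mono ?_ this
    rintro _ ⟨r, rfl⟩
    refine ⟨r, funext fun p => ?_⟩
    rcases r with ⟨k, j₀⟩ | ⟨k, i₀⟩ <;>
      simp [A, α, α', apply_ite (X.presheaf.germ W₀ y hy), TopCat.Presheaf.germ_res_apply]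

end GrothLib.Ref1
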