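import Groth.Agent.Lib.HomSh.Coherent
import Groth.Agent.Lib.FinCov.FrameFree
import Groth.Agent.Lib.DCoh.LocFree
import Mathlib.LinearAlgebra.FreeModule.Finite.Basic

/-!
# Free stalks of modules with finite presentations: frames
-/

set_option autoImplicit false

universe u

open CategoryTheory CategoryTheory.Limits Opposite AlgebraicGeometry TopologicalSpace
open GrothLib.FinCov (IsFrame)

namespace GrothLib.Ref1

variable {X : Scheme.{u}} {F : X.Modules}

/-- The stalk combination map of a family of sections. -/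
noncomputable def stalkComb {U : X.Opens} {n : ℕ} (e : Fin n → Γ(F, U)) (y : X) (hy : y ∈ U) :
    (Fin n → X.presheaf.stalk y) →ₗ[X.presheaf.stalk y] F.presheaf.stalk y :=
  Fintype.linearCombination (X.presheaf.stalk y) fun i => F.presheaf.germ U y hy (e i)

theorem germ_comb {U V : X.Opens} {n : ℕ} (e : Fin n → Γ(F, U)) (h : V ≤ U) {y : X} (hy : y ∈ V)
    (c : Fin n → Γ(X, V)) :
    F.presheaf.germ V y hy (∑ i, c i • F.presheaf.map (homOfLE h).op (e i)) =
      stalkComb e y (h hy) fun i => X.presheaf.germ V y hy (c i) := by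
  rw [map_sum, stalkComb, Fintype.linearCombination_apply]
  exact Finset.sum_congr rfl fun i _ => by rw [Mero.germ_smul, TopCat.Presheaf.germ_res_apply]

/-- Finitely many germs are represented on a common open. -/
theorem exists_repr_nhd {V : X.Opens} {y : X} (hy : y ∈ V) {ι : Type*} [Finite ι]
    (c : ι → X.presheaf.stalk y) :
    ∃ (T : X.Opens) (hT : T ≤ V) (hyT : y ∈ T) (r : ι → Γ(X, T)), ∀ i, X.presheaf.germ T y hyT (r i) = c i := by
  choose W hW s hs using fun i => TopCat.Presheaf.exists_germ_eq X.presheaf (c i)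
  let T : X.Opens := ⟨(⋂ i, (W i : Set X)) ∩ V, (isOpen_iInter_of_finite fun i => (W i).isOpen).inter V.isOpen⟩
  have hT : ∀ i, T ≤ W i := fun i z hz => Set.mem_iInter.1 hz.1 i
  refine ⟨T, fun z hz => hz.2, ⟨Set.mem_iInter.2 hW, hy⟩, fun i => X.presheaf.map (homOfLE (hT i)).op (s i),
    fun i => ?_⟩
  rw [TopCat.Presheaf.germ_res_apply, hs]

/-- Finitely many functions with zero germ vanish on a common open. -/
theorem exists_nhd_zero_fun {V : X.Opens} {y : X} (hy : y ∈ V) {ι : Type*} [Finite ι] (f : ι → Γ(X, V))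
    (hf : ∀ i, X.presheaf.germ V y hy (f i) = 0) :
    ∃ (T : X.Opens) (hT : T ≤ V), y ∈ T ∧ ∀ i, X.presheaf.map (homOfLE hT).op (f i) = 0 := by
  choose W hW i i' heq using fun k => TopCat.Presheaf.germ_eq X.presheaf y hy hy (f k) 0
    (by rw [map_zero]; exact hf k)
  let T : X.Opens := ⟨(⋂ k, (W k : Set X)) ∩ V, (isOpen_iInter_of_finite fun k => (W k).isOpen).inter V.isOpen⟩
  have hT : ∀ k, T ≤ W k := fun k z hz => Set.mem_iInter.1 hz.1 k
  refine ⟨T, fun z hz => hz.2, ⟨Set.mem_iInter.2 hW, hy⟩, fun k => ?_⟩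
  have := congrArg (X.presheaf.map (homOfLE (hT k)).op) (heq k)
  rw [map_zero, map_zero, ← ConcreteCategory.comp_apply, ← Functor.map_comp] at this
  exact this

/-- Sections whose germs form bases form a frame. -/
theorem isFrame_of_stalk {U : X.Opens} {n : ℕ} {e : Fin n → Γ(F, U)}
    (h : ∀ (y : X) (hy : y ∈ U), Function.Bijective (stalkComb e y hy)) : IsFrame F U e := by
  intro V hV
  constructor
  · intro c d hcd
    funext i
    refine TopCat.Presheaf.section_ext X.sheaf V _ _ fun y hy => ?_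
    have := congrArg (F.presheaf.germ V y hy) hcd
    dsimp only at this
    rw [germ_comb, germ_comb] at this
    exact congrFun ((h y (hV hy)).1 this) i
  · intro m
    have hloc : ∀ y : V, ∃ (T : X.Opens) (j : T ⟶ V) (_ : y.1 ∈ T) (c : Fin n → Γ(X, T)),
        F.presheaf.map j.op m = ∑ i, c i • F.presheaf.map (homOfLE (j.le.trans hV)).op (e i) := by
      intro y
      obtain ⟨a, ha⟩ := (h y.1 (hV y.2)).2 (F.presheaf.germ V y.1 y.2 m)
      obtain ⟨T₀, hT₀, hyT₀, r, hr⟩ := exists_repr_nhd y.2 a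
      have e1 : F.presheaf.germ T₀ y.1 hyT₀ (F.presheaf.map (homOfLE hT₀).op m) =
          F.presheaf.germ T₀ y.1 hyT₀ (∑ i, r i • F.presheaf.map (homOfLE (hT₀.trans hV)).op (e i)) := by
        rw [germ_comb, TopCat.Presheaf.germ_res_apply, ← ha]
        exact congrArg _ (funext hr).symm
      obtain ⟨T, hT, i, i', heq⟩ := TopCat.Presheaf.germ_eq F.presheaf y.1 hyT₀ hyT₀ _ _ e1
      obtain rfl : i = i' := Subsingleton.elim _ _
      refine ⟨T, i ≫ homOfLE hT₀, hT, fun k => X.presheaf.map i.op (r k), ?_⟩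
      rw [op_comp, Functor.map_comp, ConcreteCategory.comp_apply, heq, map_sum]
      refine Finset.sum_congr rfl fun k _ => ?_
      rw [Scheme.Modules.map_smul, ← ConcreteCategory.comp_apply, ← Functor.map_comp]
      rfl
    choose T j hyT c hc using hloc
    have hcov : V ≤ iSup T := fun y hy => Opens.mem_iSup.2 ⟨⟨y, hy⟩, hyT ⟨y, hy⟩⟩
    have hglue : ∀ k, ∃ g : Γ(X, V), ∀ y, X.presheaf.map (j y).op g = c y k := fun k => by
      obtain ⟨g, hgl, -⟩ := X.sheaf.existsUnique_gluing' T V j hcov (fun y => c y k) (by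
        intro a b
        refine TopCat.Presheaf.section_ext X.sheaf _ _ _ fun z hz => ?_
        change X.presheaf.germ _ z hz (X.presheaf.map _ (c a k)) = X.presheaf.germ _ z hz (X.presheaf.map _ (c b k))
        rw [TopCat.Presheaf.germ_res_apply, TopCat.Presheaf.germ_res_apply]
        have ha := congrArg (F.presheaf.germ (T a) z hz.1) (hc a)
        have hb := congrArg (F.presheaf.germ (T b) z hz.2) (hc b)
        rw [TopCat.Presheaf.germ_res_apply, germ_comb] at ha hb
        exact congrFun ((h z (hV ((j a).le hz.1))).1 (ha.symm.trans hb)) k)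
      exact ⟨g, hgl⟩
    choose g hg using hglue
    refine ⟨g, TopCat.Presheaf.section_ext (C := Ab.{u}) (X := X.carrier) ⟨F.presheaf, F.isSheaf⟩ V _ _
      fun y hy => ?_⟩
    change F.presheaf.germ V y hy (∑ i, g i • F.presheaf.map (homOfLE hV).op (e i)) = F.presheaf.germ V y hy m
    have h2 := congrArg (F.presheaf.germ (T ⟨y, hy⟩) y (hyT ⟨y, hy⟩)) (hc ⟨y, hy⟩)
    rw [TopCat.Presheaf.germ_res_apply, germ_comb] at h2
    rw [germ_comb, h2]
    refine congrArg _ (funext fun k => ?_)
    rw [← hg k ⟨y, hy⟩, TopCat.Presheaf.germ_res_apply]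

/-- The germs of a frame form bases. -/
theorem stalk_of_isFrame {U : X.Opens} {n : ℕ} {e : Fin n → Γ(F, U)} (he : IsFrame F U e) (y : X) (hy : y ∈ U) :
    Function.Bijective (stalkComb e y hy) := by
  constructor
  · refine (injective_iff_map_eq_zero (stalkComb e y hy)).2 fun a ha => ?_
    obtain ⟨T, hT, hyT, r, hr⟩ := exists_repr_nhd hy a
    have h0 : F.presheaf.germ T y hyT (∑ i, r i • F.presheaf.map (homOfLE hT).op (e i)) = 0 := by
      rw [germ_comb, ← ha]
      exact congrArg _ (funext hr)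
    obtain ⟨T', hT', hyT', hz⟩ := HomSh.exists_nhd_zero F hyT (fun _ : Unit => _) fun _ => h0
    have h1 : (fun i => X.presheaf.map (homOfLE hT').op (r i)) = 0 := by
      refine (he T' (hT'.trans hT)).1 ?_
      dsimp only
      simp only [Pi.zero_apply, zero_smul, Finset.sum_const_zero]
      rw [← hz (), map_sum]
      refine Finset.sum_congr rfl fun k _ => ?_
      rw [Scheme.Modules.map_smul, ← ConcreteCategory.comp_apply, ← Functor.map_comp]
      rfl
    funext i
    have h3 := congrArg (X.presheaf.germ T' y hyT') (congrFun h1 i)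
    rw [TopCat.Presheaf.germ_res_apply, hr, Pi.zero_apply, map_zero] at h3
    exact h3
  · intro v
    obtain ⟨W, hW, m, rfl⟩ := TopCat.Presheaf.exists_germ_eq F.presheaf v
    have hy' : y ∈ W ⊓ U := ⟨hW, hy⟩
    obtain ⟨c, hc⟩ := (he (W ⊓ U) inf_le_right).2 (F.presheaf.map (homOfLE (inf_le_left : W ⊓ U ≤ W)).op m)
    refine ⟨fun i => X.presheaf.germ _ y hy' (c i), ?_⟩
    rw [← germ_comb e inf_le_right hy' c]
    dsimp only at hc
    rw [hc, TopCat.Presheaf.germ_res_apply]

/-- A free stalk spreads to a frame. -/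
theorem exists_frame_of_free (hF : HomSh.HasRel F) {x : X}
    (hfree : Module.Free (X.presheaf.stalk x) (F.presheaf.stalk x)) :
    ∃ (U : X.Opens) (n : ℕ) (e : Fin n → Γ(F, U)), x ∈ U ∧ IsFrame F U e := by
  classical
  obtain ⟨W, ι, _, κ, _, m, a, hxW, hgen, hrel⟩ := hF x
  have := hF.span_stalk x
  let O := X.presheaf.stalk x
  obtain ⟨n, ⟨b⟩⟩ : ∃ n, Nonempty (Module.Basis (Fin n) O (F.presheaf.stalk x)) :=
    ⟨_, ⟨Module.finBasis O (F.presheaf.stalk x)⟩⟩
  choose Wb hWb t ht using fun j => TopCat.Presheaf.exists_germ_eq F.presheaf (b j)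
  -- the change of generators
  let bm : ι → Fin n → O := fun i => b.repr (F.presheaf.germ W x hxW (m i))
  choose d hd using fun j => (Submodule.mem_span_range_iff_exists_fun O).1 ((hgen x hxW).ge (Submodule.mem_top (x := b j)))
  obtain ⟨T, hT, hxT, r, hr⟩ := exists_repr_nhd hxW (Sum.elim (fun p : ι × Fin n => bm p.1 p.2) fun p : Fin n × ι => d p.1 p.2)
  let T' : X.Opens := ⟨(⋂ j, (Wb j : Set X)) ∩ T, (isOpen_iInter_of_finite fun i => (Wb i).isOpen).inter T.isOpen⟩
  have hT'T : T' ≤ T := fun z hz => hz.2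
  have hT'W : T' ≤ W := hT'T.trans hT
  have hT'b : ∀ j, T' ≤ Wb j := fun j z hz => Set.mem_iInter.1 hz.1 j
  have hxT' : x ∈ T' := ⟨Set.mem_iInter.2 hWb, hxT⟩
  let C : ι → Fin n → Γ(X, T') := fun i j => X.presheaf.map (homOfLE hT'T).op (r (Sum.inl (i, j)))
  let D : Fin n → ι → Γ(X, T') := fun j i => X.presheaf.map (homOfLE hT'T).op (r (Sum.inr (j, i)))
  let A : κ → ι → Γ(X, T') := fun k i => X.presheaf.map (homOfLE hT'W).op (a k i)
  let s : Fin n → Γ(F, T') := fun j => F.presheaf.map (homOfLE (hT'b j)).op (t j)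
  let m' : ι → Γ(F, T') := fun i => F.presheaf.map (homOfLE hT'W).op (m i)
  have hC : ∀ i j, X.presheaf.germ T' x hxT' (C i j) = bm i j := fun i j => by
    simp only [C, TopCat.Presheaf.germ_res_apply, hr, Sum.elim_inl]
  have hD : ∀ j i, X.presheaf.germ T' x hxT' (D j i) = d j i := fun i j => by
    simp only [D, TopCat.Presheaf.germ_res_apply, hr, Sum.elim_inr]
  have hs : ∀ j, F.presheaf.germ T' x hxT' (s j) = b j := fun j => by
    simp only [s, TopCat.Presheaf.germ_res_apply, ht]
  have hm : ∀ i, F.presheaf.germ T' x hxT' (m' i) = F.presheaf.germ W x hxW (m i) := fun i => by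
    simp only [m', TopCat.Presheaf.germ_res_apply]
  obtain ⟨T₁, hT₁, hxT₁, hz₁⟩ := HomSh.exists_nhd_zero F hxT'
    (Sum.elim (fun i => m' i - ∑ j, C i j • s j) fun j => s j - ∑ i, D j i • m' i) (by
      rintro (i | j)
      · simp only [Sum.elim_inl, map_sub, map_sum, Mero.germ_smul, hC, hs, hm, bm, sub_eq_zero]
        exact (b.sum_repr _).symm
      · simp only [Sum.elim_inr, map_sub, map_sum, Mero.germ_smul, hD, hs, hm, sub_eq_zero]
        exact (hd j).symm)
  have hac : ∀ k j, X.presheaf.germ T' x hxT' (∑ i, A k i * C i j) = 0 := by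
    intro k j
    have h0 := congrArg (fun v => b.repr v j) ((hrel x hxW).1 k)
    simp only [map_sum, map_smul, Finsupp.coe_finset_sum, Finset.sum_apply, Finsupp.smul_apply, smul_eq_mul,
      map_zero, Finsupp.coe_zero, Pi.zero_apply] at h0
    simp only [map_sum, map_mul, hC, A, bm, TopCat.Presheaf.germ_res_apply]
    exact h0
  have hdc : ∀ j l, X.presheaf.germ T' x hxT' (∑ i, D j i * C i l - if j = l then 1 else 0) = 0 := by
    intro j l
    have h0 := congrArg (fun v => b.repr v l) (hd j)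
    simp only [map_sum, map_smul, Finsupp.coe_finset_sum, Finset.sum_apply, Finsupp.smul_apply, smul_eq_mul,
      Module.Basis.repr_self, Finsupp.single_apply] at h0
    simp only [map_sub, map_sum, map_mul, hC, hD, bm, sub_eq_zero]
    rw [h0]
    split_ifs <;> simp
  obtain ⟨T₂, hT₂, hxT₂, hz₂⟩ := exists_nhd_zero_fun hxT'
    (Sum.elim (fun q : κ × Fin n => ∑ i, A q.1 i * C i q.2)
      fun q : Fin n × Fin n => (∑ i, D q.1 i * C i q.2) - if q.1 = q.2 then 1 else 0)
    (by rintro (⟨k, j⟩ | ⟨j, l⟩)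
        · exact hac k j
        · exact hdc j l)
  let U : X.Opens := T₁ ⊓ T₂
  have hU : U ≤ T' := inf_le_left.trans hT₁
  refine ⟨U, n, fun j => F.presheaf.map (homOfLE hU).op (s j), ⟨hxT₁, hxT₂⟩, isFrame_of_stalk fun y hy => ?_⟩
  let g : Γ(X, T') → X.presheaf.stalk y := fun f => X.presheaf.germ T' y (hU hy) f
  have hgm : ∀ i, F.presheaf.germ W y (hT'W (hU hy)) (m i) =
      ∑ j, g (C i j) • F.presheaf.germ T' y (hU hy) (s j) := fun i => by
    have := congrArg (F.presheaf.germ T₁ y hy.1) (hz₁ (Sum.inl i))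
    rw [map_zero, TopCat.Presheaf.germ_res_apply, Sum.elim_inl, map_sub, map_sum, sub_eq_zero,
      TopCat.Presheaf.germ_res_apply] at this
    simp only [Mero.germ_smul] at this
    exact this
  have hgs : ∀ j, F.presheaf.germ T' y (hU hy) (s j) =
      ∑ i, g (D j i) • F.presheaf.germ W y (hT'W (hU hy)) (m i) := fun j => by
    have := congrArg (F.presheaf.germ T₁ y hy.1) (hz₁ (Sum.inr j))
    rw [map_zero, TopCat.Presheaf.germ_res_apply, Sum.elim_inr, map_sub, map_sum, sub_eq_zero] at this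
    simp only [Mero.germ_smul, m', TopCat.Presheaf.germ_res_apply] at this
    exact this
  have hgac : ∀ k j, ∑ i, g (A k i) * g (C i j) = 0 := fun k j => by
    have := congrArg (X.presheaf.germ T₂ y hy.2) (hz₂ (Sum.inl (k, j)))
    rw [map_zero, TopCat.Presheaf.germ_res_apply, Sum.elim_inl, map_sum] at this
    simpa only [map_mul] using this
  have hgdc : ∀ j l, ∑ i, g (D j i) * g (C i l) = if j = l then 1 else 0 := fun j l => by
    have := congrArg (X.presheaf.germ T₂ y hy.2) (hz₂ (Sum.inr (j, l)))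
    rw [map_zero, TopCat.Presheaf.germ_res_apply, Sum.elim_inr, map_sub, map_sum, sub_eq_zero] at this
    simp only [map_mul] at this
    rw [this]
    split_ifs <;> simp
  have he : stalkComb (fun j => F.presheaf.map (homOfLE hU).op (s j)) y hy =
      stalkComb s y (hU hy) := by
    simp only [stalkComb, TopCat.Presheaf.germ_res_apply]
  rw [he]
  constructor
  · refine (injective_iff_map_eq_zero (stalkComb s y (hU hy))).2 fun e hev => ?_
    rw [stalkComb, Fintype.linearCombination_apply] at hev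
    simp only [hgs, Finset.smul_sum, ← mul_smul] at hev
    rw [Finset.sum_comm] at hev
    simp only [← Finset.sum_smul] at hev
    have hmem := (hrel y (hT'W (hU hy))).2 _ hev
    let Φ : (ι → X.presheaf.stalk y) →ₗ[X.presheaf.stalk y] (Fin n → X.presheaf.stalk y) :=
      LinearMap.pi fun l => ∑ i, (g (C i l)) • (LinearMap.proj i : (ι → X.presheaf.stalk y) →ₗ[_] _)
    have hΦ : ∀ v l, Φ v l = ∑ i, v i * g (C i l) := fun v l => by
      simp [Φ, mul_comm]
    have hker : Submodule.span _ (Set.range fun k i => X.presheaf.germ W y (hT'W (hU hy)) (a k i)) ≤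
        LinearMap.ker Φ := by
      rw [Submodule.span_le]
      rintro _ ⟨k, rfl⟩
      funext l
      rw [hΦ]
      have := hgac k l
      simp only [g, A, TopCat.Presheaf.germ_res_apply] at this
      exact this
    have h0 := hker hmem
    rw [LinearMap.mem_ker] at h0
    funext l
    have h1 := congrFun h0 l
    rw [hΦ] at h1
    simp only [Finset.sum_mul, mul_assoc] at h1
    rw [Finset.sum_comm] at h1
    simp only [← Finset.mul_sum, hgdc, mul_ite, mul_one, mul_zero, Finset.sum_ite_eq', Finset.mem_univ,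
      if_true, Pi.zero_apply] at h1
    exact h1
  · rw [← LinearMap.range_eq_top, eq_top_iff, ← hgen y (hT'W (hU hy)), Submodule.span_le]
    rintro _ ⟨i, rfl⟩
    exact ⟨fun j => g (C i j), by rw [stalkComb, Fintype.linearCombination_apply]; exact (hgm i).symm⟩

/-- The set of points with free stalks is open. -/
theorem isOpen_free (hF : HomSh.HasRel F) :
    IsOpen {x : X | Module.Free (X.presheaf.stalk x) (F.presheaf.stalk x)} := by
  refine isOpen_iff_forall_mem_open.2 fun x hx => ?_
  obtain ⟨U, n, e, hxU, he⟩ := exists_frame_of_free hF hx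
  exact ⟨U, fun y hy => Module.Free.of_equiv (LinearEquiv.ofBijective _ (stalk_of_isFrame he y hy)), U.isOpen, hxU⟩

/-- Free stalks over an open: the restriction is finite locally free. -/
theorem isFinLocFree_restrict_of_free (hF : HomSh.HasRel F) (U : X.Opens)
    (h : ∀ x : X, x ∈ U → Module.Free (X.presheaf.stalk x) (F.presheaf.stalk x)) :
    FlatMod.IsFinLocFree (F.restrict U.ι) := by
  intro x
  obtain ⟨V, n, e, hxV, he⟩ := exists_frame_of_free hF (h x.1 x.2)
  obtain ⟨φ⟩ := GrothLib.FinCov.exists_iso_of_frame he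
  let V' : (U : Scheme.{u}).Opens := U.ι ⁻¹ᵁ V
  have hle : U.ι ''ᵁ V' ≤ V := by
    rw [Scheme.Hom.image_preimage_eq_opensRange_inf]; exact inf_le_right
  obtain ⟨ψ⟩ := GrothLib.DCoh.exists_free_restrict_le hle φ
  exact ⟨V', n, hxV, ⟨((Scheme.Modules.restrictFunctorComp V'.ι U.ι).app F).symm ≪≫
    (Scheme.Modules.restrictFunctorCongr (U.ι.isoImage_hom_ι V').symm).app F ≪≫
    (Scheme.Modules.restrictFunctorComp (U.ι.isoImage V').hom (U.ι ''ᵁ V').ι).app F ≪≫
    (Scheme.Modules.restrictFunctor (U.ι.isoImage V').hom).mapIso ψ ≪≫ GrothLib.DCoh.restrictFreeModIso _ _⟩⟩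

/-- A finite locally free restriction has free stalks. -/
theorem free_of_isFinLocFree_restrict (U : X.Opens) (h : FlatMod.IsFinLocFree (F.restrict U.ι)) (x : X)
    (hx : x ∈ U) : Module.Free (X.presheaf.stalk x) (F.presheaf.stalk x) := by
  obtain ⟨V, n, hxV, ⟨φ⟩⟩ := h ⟨x, hx⟩
  let ψ : F.restrict (U.ι ''ᵁ V).ι ≅ FlatMod.freeMod (↑(U.ι ''ᵁ V)) n :=
    (Scheme.Modules.restrictFunctorCongr (U.ι.isoImage_inv_ι V).symm).app F ≪≫
      (Scheme.Modules.restrictFunctorComp (U.ι.isoImage V).inv (V.ι ≫ U.ι)).app F ≪≫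
      (Scheme.Modules.restrictFunctor (U.ι.isoImage V).inv).mapIso
        ((Scheme.Modules.restrictFunctorComp V.ι U.ι).app F ≪≫ φ) ≪≫ GrothLib.DCoh.restrictFreeModIso _ _
  obtain ⟨e, he⟩ := GrothLib.FinCov.exists_frame_of_iso ψ
  exact Module.Free.of_equiv (LinearEquiv.ofBijective _ (stalk_of_isFrame he x (by
    rw [Scheme.Opens.ι_image_top]; exact ⟨⟨x, hx⟩, hxV, rfl⟩)))

/-- A module with finite presentations is finite locally free iff all its stalks are free. -/
theorem isFinLocFree_iff_free (hF : HomSh.HasRel F) :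
    FlatMod.IsFinLocFree F ↔ ∀ x : X, Module.Free (X.presheaf.stalk x) (F.presheaf.stalk x) := by
  refine ⟨fun h x => ?_, fun h x => ?_⟩
  · obtain ⟨U, n, e, hxU, he⟩ := GrothLib.FinCov.exists_frame_nhd h x
    exact Module.Free.of_equiv (LinearEquiv.ofBijective _ (stalk_of_isFrame he x hxU))
  · obtain ⟨U, n, e, hxU, he⟩ := exists_frame_of_free hF (h x)
    exact ⟨U, n, hxU, GrothLib.FinCov.exists_iso_of_frame he⟩

end GrothLib.Ref1
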