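import Groth.Agent.Lib.Ref1.Rank
import Groth.Agent.Lib.InvExt.FiniteFibre

/-!
# Invertible modules have finite local presentations
-/

set_option autoImplicit false

universe u

open CategoryTheory CategoryTheory.Limits Opposite AlgebraicGeometry TopologicalSpace GrothLib.InvExt

namespace GrothLib.Ref1

variable {X : Scheme.{u}}

theorem hasRel_of_isInvertible {L : X.Modules} (hL : PicF.IsInvertible L) : HomSh.HasRel L := by
  intro x
  obtain ⟨V, e, hx, he⟩ := exists_gen_nhd hL x
  refine ⟨V, PUnit, inferInstance, PEmpty, inferInstance, fun _ => e, fun k => k.elim, hx, fun y hy => ?_,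
    fun y hy => ⟨fun k => k.elim, fun c hc => ?_⟩⟩
  · rw [Set.range_const]
    exact (gen_of_isGen he hy).span
  · have hc0 : c = 0 := by
      funext i
      refine (gen_of_isGen he hy).1 ?_
      change c i • _ = (0 : X.presheaf.stalk y) • _
      rw [zero_smul, ← hc, Fintype.sum_unique]
    rw [hc0]
    exact Submodule.zero_mem _

end GrothLib.Ref1
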