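import Groth.Agent.Lib.Ref1.Dual
import Groth.Agent.Lib.QCoh.Sub
import Mathlib.AlgebraicGeometry.Noetherian
import Mathlib.AlgebraicGeometry.AlgebraicCycle.Basic

/-!
# Divisors of rational sections are locally finite; every effective divisor cuts out a coherent ideal
-/

set_option autoImplicit false

universe u

open CategoryTheory CategoryTheory.Limits Opposite AlgebraicGeometry TopologicalSpace

namespace GrothLib.Ref1

variable {X : Scheme.{u}} [IsIntegral X]

theorem coheight_genericPoint : Order.coheight (genericPoint X) = 0 :=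
  Order.coheight_eq_zero.2 fun y _ => hη y

theorem ne_genericPoint_of_coheight_one {x : X} (hx : Order.coheight x = 1) : x ≠ genericPoint X := by
  rintro rfl
  rw [coheight_genericPoint] at hx
  exact zero_ne_one hx

theorem eq_of_specializes_coheight_one {x y : X} (hx : Order.coheight x = 1) (h : y ⤳ x)
    (hy : y ≠ genericPoint X) : y = x := by
  by_contra hne
  have hxy : x < y := lt_of_le_not_ge h fun h' => hne ((Specializes.antisymm h h').eq)
  have hyg : y < genericPoint X := lt_of_le_not_ge (hη y) fun h' => hy ((Specializes.antisymm h' (hη y)).eq)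
  have h1 := Order.coheight_add_one_le hxy
  have h2 := Order.coheight_add_one_le hyg
  rw [coheight_genericPoint, zero_add] at h2
  rw [hx] at h1
  have h3 : (2 : ℕ∞) ≤ Order.coheight y + 1 := by
    rw [← one_add_one_eq_two]
    exact add_le_add h2 le_rfl
  exact absurd (h3.trans h1) (by decide)

variable [IsLocallyNoetherian X]

/-- A proper closed subset contains locally only finitely many points of codimension one. -/
theorem finite_coheight_one {Z : Set X} (hZ : IsClosed Z) (hη' : genericPoint X ∉ Z) {V : X.Opens}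
    (hV : IsAffineOpen V) : ((V : Set X) ∩ {x ∈ Z | Order.coheight x = 1}).Finite := by
  have : IsNoetherianRing Γ(X, V) := IsLocallyNoetherian.component_noetherian ⟨V, hV⟩
  have : NoetherianSpace (V : Scheme.{u}) := noetherianSpace_of_isAffineOpen V hV
  obtain ⟨S, hS, hcl, hirr, hunion⟩ :=
    NoetherianSpace.exists_finite_set_isClosed_irreducible (α := (V : Scheme.{u}))
      (hZ.preimage V.ι.continuous)
  choose g hg using fun t : S => QuasiSober.sober (hirr t.1 t.2) (hcl t.1 t.2)
  have := hS.to_subtype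
  refine (Set.finite_range fun t => V.ι (g t)).subset ?_
  rintro x ⟨hxV, hxZ, hx⟩
  have : (⟨x, hxV⟩ : (V : Scheme.{u})) ∈ ⋃₀ S := hunion ▸ (show V.ι ⟨x, hxV⟩ ∈ Z from hxZ)
  obtain ⟨t, ht, hxt⟩ := this
  refine ⟨⟨t, ht⟩, eq_of_specializes_coheight_one hx
    (((hg ⟨t, ht⟩).specializes hxt).map V.ι.continuous) fun he => hη' ?_⟩
  rw [← he]
  exact (hunion.symm ▸ (⟨t, ht, (hg ⟨t, ht⟩).mem⟩ : g ⟨t, ht⟩ ∈ ⋃₀ S) :
    g ⟨t, ht⟩ ∈ V.ι ⁻¹' Z)

/-- The divisor of a rational section has locally finite support. -/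
theorem finite_secOrd_ne_zero {F : X.Modules} (hF : HomSh.HasRel F) [F.IsQuasicoherent]
    {e : F.presheaf.stalk (genericPoint X)} (he : Gen F (genericPoint X) e) {V : X.Opens} (hV : IsAffineOpen V) :
    ((V : Set X) ∩ {x | Order.coheight x = 1 ∧ secOrd F e x ≠ 0}).Finite := by
  classical
  obtain ⟨U, hU, s, rfl⟩ := TopCat.Presheaf.exists_germ_eq F.presheaf e
  obtain ⟨W, ι, _, κ, _, m, a, hW, hgen, -⟩ := hF (genericPoint X)
  choose c hc using fun i => he.2 (F.presheaf.germ W (genericPoint X) hW (m i))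
  choose Vc hVc r hr using fun i => TopCat.Presheaf.exists_germ_eq X.presheaf (c i)
  let V₀ : X.Opens := ⟨(⋂ i, (Vc i : Set X)) ∩ U ∩ W,
    ((isOpen_iInter_of_finite fun i => (Vc i).isOpen).inter U.isOpen).inter W.isOpen⟩
  have hV₀ : genericPoint X ∈ V₀ := ⟨⟨Set.mem_iInter.2 hVc, hU⟩, hW⟩
  have hU' : V₀ ≤ U := fun z hz => hz.1.2
  have hW' : V₀ ≤ W := fun z hz => hz.2
  have hc' : ∀ i, V₀ ≤ Vc i := fun i z hz => Set.mem_iInter.1 hz.1.1 i
  obtain ⟨T, hT, hηT, hz⟩ := HomSh.exists_nhd_zero F hV₀
    (fun i => F.presheaf.map (homOfLE hW').op (m i) -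
      X.presheaf.map (homOfLE (hc' i)).op (r i) • F.presheaf.map (homOfLE hU').op s) fun i => by
      rw [map_sub, Mero.germ_smul, TopCat.Presheaf.germ_res_apply, TopCat.Presheaf.germ_res_apply,
        TopCat.Presheaf.germ_res_apply, hr, sub_eq_zero]
      exact (hc i).symm
  refine (finite_coheight_one T.isOpen.isClosed_compl (fun h => h hηT) hV).subset ?_
  rintro x ⟨hxV, hx, hne⟩
  refine ⟨hxV, fun hxT => hne ?_, hx⟩
  have hgx : Gen F x (F.presheaf.germ U x (hU' (hT hxT)) s) := by
    constructor
    · intro a b hab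
      dsimp only at hab
      have := congrArg (Ref1.sp F (hη x)) hab
      rw [sp_smul, sp_smul, sp_germ] at this
      exact spR_injective x (he.1 this)
    · intro v
      obtain ⟨d, rfl⟩ := (Submodule.mem_span_range_iff_exists_fun _).1
        ((hgen x (hW' (hT hxT))).ge (Submodule.mem_top (x := v)))
      refine ⟨∑ i, d i * X.presheaf.germ (Vc i) x (hc' i (hT hxT)) (r i), ?_⟩
      dsimp only
      rw [Finset.sum_smul]
      refine Finset.sum_congr rfl fun i _ => ?_
      have := congrArg (F.presheaf.germ T x hxT) (hz i)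
      rw [map_zero, TopCat.Presheaf.germ_res_apply, map_sub, Mero.germ_smul, TopCat.Presheaf.germ_res_apply,
        TopCat.Presheaf.germ_res_apply, TopCat.Presheaf.germ_res_apply, sub_eq_zero] at this
      rw [mul_smul, ← this]
  rw [show F.presheaf.germ U (genericPoint X) hU s =
      (1 : X.presheaf.stalk (genericPoint X)) • sp F (hη x) (F.presheaf.germ U x (hU' (hT hxT)) s) by
        rw [one_smul, sp_germ], secOrd_gen hx hgx one_ne_zero]
  have := ord_spR_of_isUnit (x := x) (u := 1) isUnit_one
  rwa [map_one] at this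

/-! ### The ideal of an effective divisor -/

variable (n : X → ℕ)

/-- Functions vanishing to order `n x` at every point `x`. -/
noncomputable def vanishData : QCoh.SubData (Coh.structureModule X) where
  sec V :=
    { carrier := {s | ∀ (x : X) (hx : x ∈ V), (Coh.structureModule X).presheaf.germ V x hx s ∈
        (IsLocalRing.maximalIdeal (X.presheaf.stalk x) ^ n x) •
          (⊤ : Submodule (X.presheaf.stalk x) ((Coh.structureModule X).presheaf.stalk x))}
      zero_mem' := fun x hx => by rw [map_zero]; exact Submodule.zero_mem _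
      add_mem' := fun hs ht x hx => by rw [map_add]; exact Submodule.add_mem _ (hs x hx) (ht x hx)
      smul_mem' := fun r s hs x hx => by rw [Mero.germ_smul]; exact Submodule.smul_mem _ _ (hs x hx) }
  map_mem i s hs x hx := by
    rw [TopCat.Presheaf.germ_res_apply]
    exact hs x (i.le hx)
  locality s h x hx := by
    obtain ⟨V, i, hxV, hV⟩ := h x hx
    have := hV x hxV
    rwa [TopCat.Presheaf.germ_res_apply] at this

variable {n} (hn : ∀ V : X.Opens, IsAffineOpen V → ((V : Set X) ∩ {x | n x ≠ 0}).Finite)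

omit [IsIntegral X] [IsLocallyNoetherian X] in
include hn in
theorem isQuasicoherent_vanish : (vanishData n).obj.IsQuasicoherent := by
  have := (HomSh.isCoh_structureModule X).1
  refine QCoh.SubData.isQuasicoherent _ fun U hU g t ht => ?_
  refine ⟨(hn U hU).toFinset.sup n, fun x hx => ?_⟩
  by_cases h0 : n x = 0
  · rw [h0, pow_zero, Ideal.one_eq_top, Submodule.top_smul]
    trivial
  rw [Mero.germ_smul]
  by_cases hg : x ∈ X.basicOpen g
  · have := ht x hg
    rw [TopCat.Presheaf.germ_res_apply] at this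
    exact Submodule.smul_mem _ _ this
  · refine Submodule.smul_mem_smul ?_ trivial
    rw [map_pow]
    refine Ideal.pow_le_pow_right (Finset.le_sup ((hn U hU).mem_toFinset.2 ⟨hx, h0⟩)) (Ideal.pow_mem_pow ?_ _)
    exact fun hu => hg ((Scheme.mem_basicOpen _ g x hx).2 hu)

omit [IsIntegral X] in
include hn in
theorem isCoh_vanish : Coh.IsCoh (vanishData n).obj := by
  have := isQuasicoherent_vanish hn
  exact ⟨this, QCoh.SubData.isFiniteType _ (HomSh.isCoh_structureModule X)⟩

variable (n) in
omit [IsIntegral X] [IsLocallyNoetherian X] in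
theorem vanish_stalk_injective (x : X) :
    Function.Injective (RefHull.stalkMapₗ (vanishData n).ι x) := by
  rw [injective_iff_map_eq_zero]
  intro v hv
  obtain ⟨U, hU, s, rfl⟩ := TopCat.Presheaf.exists_germ_eq (vanishData n).obj.presheaf v
  rw [RefHull.stalkMapₗ_germ] at hv
  obtain ⟨W, hW, i, i', e⟩ := TopCat.Presheaf.germ_eq (Coh.structureModule X).presheaf x hU hU _ 0 (by rw [hv, map_zero])
  rw [map_zero] at e
  have : (vanishData n).obj.presheaf.map i.op s = 0 := by
    refine (vanishData n).ι_app_injective W ?_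
    rw [map_zero]
    exact (congr($((vanishData n).ι.mapPresheaf.naturality i.op) s)).trans e
  rw [← TopCat.Presheaf.germ_res_apply (vanishData n).obj.presheaf i x hW, this, map_zero]

variable (hc : ∀ x, n x ≠ 0 → Order.coheight x = 1)

omit [IsLocallyNoetherian X] in
include hn hc in
/-- The stalk of the ideal at a codimension one point or at the generic point. -/
theorem exists_vanish_stalk {x : X} (hx : Order.coheight x = 1 ∨ x = genericPoint X)
    (a : X.presheaf.stalk x) (ha : a ∈ IsLocalRing.maximalIdeal (X.presheaf.stalk x) ^ n x) :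
    ∃ v, RefHull.stalkMapₗ (vanishData n).ι x v = HomSh.unitStalk x a := by
  obtain ⟨U, hxU, s, hs⟩ := TopCat.Presheaf.exists_germ_eq (Coh.structureModule X).presheaf (HomSh.unitStalk x a)
  obtain ⟨V, hV, hxV, hVU⟩ := Opens.isBasis_iff_nbhd.1 X.isBasis_affineOpens hxU
  let B := ((V : Set X) ∩ {y | n y ≠ 0}) \ {x}
  have hB : B.Finite := (hn V hV).subset Set.sdiff_subset
  let V' : X.Opens := ⟨(V : Set X) ∩ (⋃ y ∈ B, closure {y})ᶜ,
    V.isOpen.inter (hB.isClosed_biUnion fun y _ => isClosed_closure).isOpen_compl⟩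
  have hxV' : x ∈ V' := by
    refine ⟨hxV, fun h => ?_⟩
    obtain ⟨y, hy, hxy⟩ := Set.mem_iUnion₂.1 h
    have hy1 := hc y hy.1.2
    rcases hx with hx | rfl
    · exact hy.2 (eq_of_specializes_coheight_one hx (specializes_iff_mem_closure.2 hxy)
        (ne_genericPoint_of_coheight_one hy1))
    · exact ne_genericPoint_of_coheight_one hy1
        (((specializes_iff_mem_closure.2 hxy).antisymm (hη y)).eq)
  have hle : V' ≤ U := fun z hz => hVU hz.1
  have hmem : (Coh.structureModule X).presheaf.map (homOfLE hle).op s ∈ (vanishData n).sec V' := fun y hy => by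
    rw [TopCat.Presheaf.germ_res_apply]
    by_cases h0 : n y = 0
    · rw [h0, pow_zero, Ideal.one_eq_top, Submodule.top_smul]
      trivial
    obtain rfl : y = x := by
      by_contra hne
      exact hy.2 (Set.mem_iUnion₂.2 ⟨y, ⟨⟨hy.1, h0⟩, hne⟩, subset_closure rfl⟩)
    rw [hs, show HomSh.unitStalk y a = a • HomSh.unitStalk y 1 by rw [← map_smul, smul_eq_mul, mul_one]]
    exact Submodule.smul_mem_smul ha trivial
  refine ⟨(vanishData n).obj.presheaf.germ V' x hxV' ((vanishData n).lift _ hmem), ?_⟩
  rw [RefHull.stalkMapₗ_germ, QCoh.SubData.ι_app_lift, TopCat.Presheaf.germ_res_apply, hs]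

omit [IsIntegral X] [IsLocallyNoetherian X] in
theorem vanish_stalk_mem (x : X) (v : (vanishData n).obj.presheaf.stalk x) :
    ∃ a ∈ IsLocalRing.maximalIdeal (X.presheaf.stalk x) ^ n x,
      RefHull.stalkMapₗ (vanishData n).ι x v = HomSh.unitStalk x a := by
  refine ⟨(HomSh.unitStalk x).symm (RefHull.stalkMapₗ (vanishData n).ι x v), ?_,
    ((HomSh.unitStalk x).apply_symm_apply _).symm⟩
  obtain ⟨U, hU, s, rfl⟩ := TopCat.Presheaf.exists_germ_eq (vanishData n).obj.presheaf v
  rw [RefHull.stalkMapₗ_germ]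
  have h := Submodule.mem_map_of_mem (f := (HomSh.unitStalk x).symm.toLinearMap)
    ((vanishData n).ι_app_mem s x hU)
  rw [Submodule.map_smul''] at h
  exact (Submodule.smul_le.2 fun r hr m _ => Ideal.mul_mem_right m _ hr) h

include hn hc in
/-- The ideal of an effective divisor has a rational section with the opposite divisor. -/
theorem exists_isRef1_of_effective (hX : Pi1.IsNormalScheme X) :
    ∃ (F : X.Modules) (_ : RefHull.IsRef1 F) (v : F.presheaf.stalk (genericPoint X)), v ≠ 0 ∧
      ∀ x : X, Order.coheight x = 1 → secOrd F v x = -(n x : ℤ) := by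
  let I := (vanishData n).obj
  have hI : Coh.IsCoh I := isCoh_vanish hn
  have := hI.1
  have hR := HomSh.hasRel_of_isCoh hI
  have hη0 : n (genericPoint X) = 0 := by
    by_contra h
    exact ne_genericPoint_of_coheight_one (hc _ h) rfl
  obtain ⟨w, hw⟩ := exists_vanish_stalk hn hc (Or.inr rfl) 1 (by rw [hη0, pow_zero, Ideal.one_eq_top]; trivial)
  have hwgen : Gen I (genericPoint X) w := by
    constructor
    · intro a b hab
      have := congrArg (RefHull.stalkMapₗ (vanishData n).ι (genericPoint X)) hab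
      simp only [map_smul, hw] at this
      exact (gen_unitStalk (genericPoint X)).1 this
    · intro v
      refine ⟨(HomSh.unitStalk _).symm (RefHull.stalkMapₗ (vanishData n).ι (genericPoint X) v),
        vanish_stalk_injective n _ ?_⟩
      dsimp only
      rw [map_smul, hw, ← map_smul, smul_eq_mul, mul_one, LinearEquiv.apply_symm_apply]
  have hRd := isRef1_ddual hR hwgen
  refine ⟨RefHull.ddual I, hRd, RefHull.stalkMapₗ (RefHull.bidualMap I) _ w,
    (gen_bidual hR hwgen).ne_zero, fun x hx => ?_⟩
  have := hRd.1.1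
  have : IsDomain (X.presheaf.stalk x) := (hX x).1
  have := isDiscreteValuationRing_of_dim_one hX (dim_one_of_coheight hx)
  obtain ⟨ϖ, hϖ⟩ := IsDiscreteValuationRing.exists_irreducible (X.presheaf.stalk x)
  have hm : IsLocalRing.maximalIdeal (X.presheaf.stalk x) ^ n x = Ideal.span {ϖ ^ n x} := by
    rw [hϖ.maximalIdeal_eq, Ideal.span_singleton_pow]
  obtain ⟨t, ht⟩ := exists_vanish_stalk hn hc (Or.inl hx) (ϖ ^ n x) (hm ▸ Ideal.mem_span_singleton_self _)
  have hp : ϖ ^ n x ≠ 0 := pow_ne_zero _ hϖ.ne_zero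
  have htgen : Gen I x t := by
    constructor
    · intro a b hab
      have := congrArg (RefHull.stalkMapₗ (vanishData n).ι x) hab
      simp only [map_smul, ht] at this
      rw [← map_smul, ← map_smul, (HomSh.unitStalk x).injective.eq_iff, smul_eq_mul, smul_eq_mul] at this
      exact mul_right_cancel₀ hp this
    · intro v
      obtain ⟨a, ha, hav⟩ := vanish_stalk_mem x v
      rw [hm, Ideal.mem_span_singleton'] at ha
      obtain ⟨c, rfl⟩ := ha
      refine ⟨c, vanish_stalk_injective n _ ?_⟩
      dsimp only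
      rw [map_smul, ht, hav, ← map_smul, smul_eq_mul]
  have hu : IsUnit (spR (hη x) (ϖ ^ n x)) := isUnit_spR hp
  obtain ⟨φ, hφ⟩ := hu.exists_left_inv
  have hφ0 : φ ≠ 0 := left_ne_zero_of_mul_eq_one hφ
  have hwt : w = φ • sp I (hη x) t := by
    refine vanish_stalk_injective n _ ?_
    rw [map_smul, hw, stalkMapₗ_sp, ht, sp_unitStalk, ← map_smul, smul_eq_mul, hφ]
  rw [hwt, map_smul, stalkMapₗ_sp, secOrd_gen hx (gen_bidual hR htgen) hφ0]
  have : Ring.KrullDimLE 1 (X.presheaf.stalk x) := krullDimLE_of_coheight_le hx.le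
  have hord : Scheme.ord (spR (hη x) (ϖ ^ n x) : X.functionField) x = n x := by
    refine (Scheme.ord_eq_iff hx hu.ne_zero).2 ?_
    change Ring.ordFrac (X.presheaf.stalk x) (algebraMap (X.presheaf.stalk x) X.functionField (ϖ ^ n x)) = _
    rw [Ring.ordFrac_eq_ord _ hp, Ring.ordMonoidWithZeroHom_eq_coe _ (mem_nonZeroDivisors_of_ne_zero hp) (n := n x)
      (by rw [Ring.ord_pow (mem_nonZeroDivisors_of_ne_zero hϖ.ne_zero), Ring.ord_of_irreducible hϖ, nsmul_one])]
  have h1 := Scheme.ord_mul (x := x) (f := (φ : X.functionField)) (g := (spR (hη x) (ϖ ^ n x) : X.functionField))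
    hφ0 hu.ne_zero
  rw [show (φ : X.functionField) * (spR (hη x) (ϖ ^ n x) : X.functionField) = 1 from hφ, hord] at h1
  have h2 := ord_spR_of_isUnit (x := x) (u := 1) isUnit_one
  rw [map_one] at h2
  rw [show Scheme.ord (1 : X.functionField) x = 0 from h2] at h1
  omega

end GrothLib.Ref1
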