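import Groth.Agent.Lib.Ref1.Class

/-! # The structure module as a rank one reflexive module -/

set_option autoImplicit false

universe u

open CategoryTheory Opposite AlgebraicGeometry TopologicalSpace

namespace GrothLib.Ref1

variable {X : Scheme.{u}}

theorem sp_unitStalk {x y : X} (h : y ⤳ x) (a : X.presheaf.stalk x) :
    sp (Coh.structureModule X) h (HomSh.unitStalk x a) = HomSh.unitStalk y (spR h a) := by
  change sp (Coh.structureModule X) h (a • _) = spR h a • _
  rw [sp_smul, sp_germ]

theorem gen_unitStalk (x : X) : Gen (Coh.structureModule X) x (HomSh.unitStalk x 1) := by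
  have := (HomSh.unitStalk x).bijective
  rw [show (HomSh.unitStalk x : X.presheaf.stalk x → _) = fun a => a • HomSh.unitStalk x 1 from
    funext fun a => by rw [← map_smul, smul_eq_mul, mul_one]] at this
  exact this

theorem isReflexiveAt_unit (x : X) : RefHull.IsReflexiveAt (Coh.structureModule X) x :=
  have : Module.Free (X.presheaf.stalk x) ((Coh.structureModule X).presheaf.stalk x) :=
    Module.Free.of_equiv (HomSh.unitStalk x)
  have : Module.Finite (X.presheaf.stalk x) ((Coh.structureModule X).presheaf.stalk x) :=
    Module.Finite.equiv (HomSh.unitStalk x)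
  (inferInstance : Module.IsReflexive (X.presheaf.stalk x) ((Coh.structureModule X).presheaf.stalk x))

variable [IsIntegral X] [IsLocallyNoetherian X]

/-- A rational function regular in codimension one above `z` is regular at `z`. -/
theorem exists_spR_eq_of_forall_dim_one (hX : Pi1.IsNormalScheme X) (z : X)
    (c : X.presheaf.stalk (genericPoint X))
    (h : ∀ y : X, y ⤳ z → ringKrullDim (X.presheaf.stalk y) = 1 → ∃ a, spR (hη y) a = c) :
    ∃ a, spR (hη z) a = c := by
  have := (HomSh.isCoh_structureModule X).1
  obtain ⟨w, hw⟩ := exists_sp_eq_of_forall_dim_one hX (Coh.structureModule X) z (isReflexiveAt_unit z)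
    (HomSh.unitStalk (genericPoint X) c) fun y hy hd => by
      obtain ⟨a, rfl⟩ := h y hy hd
      exact ⟨HomSh.unitStalk y a, sp_unitStalk _ a⟩
  refine ⟨(HomSh.unitStalk z).symm w, (HomSh.unitStalk (genericPoint X)).injective ?_⟩
  rw [← sp_unitStalk, LinearEquiv.apply_symm_apply]
  exact hw

theorem isRef1_structureModule : RefHull.IsRef1 (Coh.structureModule X) :=
  ⟨HomSh.isCoh_structureModule X,
    (HomSh.isReflexive_iff (HomSh.hasRel_of_isCoh (HomSh.isCoh_structureModule X))).2 isReflexiveAt_unit,
    genInvertible_of_gen (HomSh.hasRel_of_isCoh (HomSh.isCoh_structureModule X)) (gen_unitStalk (genericPoint X))⟩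

theorem secOrd_unit {x : X} (hx : Order.coheight x = 1) :
    secOrd (Coh.structureModule X) (HomSh.unitStalk (genericPoint X) 1) x = 0 := by
  have := (HomSh.isCoh_structureModule X).1
  have e : HomSh.unitStalk (genericPoint X) 1 =
      (1 : X.presheaf.stalk (genericPoint X)) • sp (Coh.structureModule X) (hη x) (HomSh.unitStalk x 1) := by
    rw [one_smul, sp_unitStalk]
    exact congrArg _ (map_one _).symm
  rw [e, secOrd_gen hx (gen_unitStalk x) one_ne_zero]
  have := ord_spR_of_isUnit (x := x) (u := 1) isUnit_one
  rwa [map_one] at this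

end GrothLib.Ref1
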