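import Groth.Agent.Lib.Ref1.Extend
import Groth.Agent.Lib.AssPts.Restrict
import Groth.Agent.Lib.Depth.ModExtend
import Groth.Agent.Lib.Cohom.RpushModules
import Groth.Agent.Lib.QCoh.Qcqs
import Groth.Agent.Lib.QCoh.SupportExact

/-!
# Direct images of reflexive modules across depth two
-/

set_option autoImplicit false

universe u

open CategoryTheory Opposite AlgebraicGeometry TopologicalSpace IsLocalRing

namespace GrothLib.Ref1

/-- Reflexivity transfers along a semilinear bijection. -/
theorem isReflexive_of_semilinear {A B M N : Type*} [CommRing A] [CommRing B] [AddCommGroup M] [Module A M]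
    [AddCommGroup N] [Module B N] (ψ : A →+* B) (φ : M →+ N) (hψ : Function.Bijective ψ)
    (hφ : Function.Bijective φ) (h : ∀ c z, φ (c • z) = ψ c • φ z) [Module.IsReflexive A M] :
    Module.IsReflexive B N := by
  let e := RingEquiv.ofBijective ψ hψ
  let f := AddEquiv.ofBijective φ hφ
  have hf : ∀ (b : B) (n : N), f.symm (b • n) = e.symm b • f.symm n := fun b n => f.injective (by
    rw [f.apply_symm_apply]
    show _ = φ _
    rw [h]
    show _ = e (e.symm b) • f (f.symm n)
    rw [e.apply_symm_apply, f.apply_symm_apply])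
  let pull (θ : Module.Dual B N) : Module.Dual A M :=
    { toFun := fun m => e.symm (θ (f m))
      map_add' := fun a b => by rw [map_add, map_add, map_add]
      map_smul' := fun a m => by
        show e.symm (θ (φ (a • m))) = _
        rw [h, map_smul, smul_eq_mul, map_mul]
        exact congrArg (· * _) (e.symm_apply_apply a) }
  let push (η : Module.Dual A M) : Module.Dual B N :=
    { toFun := fun n => e (η (f.symm n))
      map_add' := fun a b => by rw [map_add, map_add, map_add]
      map_smul' := fun b n => by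
        rw [hf, map_smul, smul_eq_mul, map_mul, e.apply_symm_apply]; rfl }
  refine ⟨⟨fun a b hab => f.symm.injective ((Module.bijective_dual_eval A M).1 (LinearMap.ext fun η => ?_)),
    fun Ξ => ?_⟩⟩
  · exact e.injective (LinearMap.congr_fun hab (push η))
  · let ξ : Module.Dual A (Module.Dual A M) :=
      { toFun := fun η => e.symm (Ξ (push η))
        map_add' := fun η η' => by
          rw [show push (η + η') = push η + push η' from LinearMap.ext fun n => map_add e _ _, map_add, map_add]
        map_smul' := fun a η => by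
          rw [show push (a • η) = ψ a • push η from LinearMap.ext fun n => map_mul e _ _, map_smul, smul_eq_mul,
            map_mul]
          exact congrArg (· * _) (e.symm_apply_apply a) }
    obtain ⟨m, hm⟩ := (Module.bijective_dual_eval A M).2 ξ
    refine ⟨f m, LinearMap.ext fun θ => e.symm.injective ?_⟩
    have h1 := LinearMap.congr_fun hm (pull θ)
    rw [Module.Dual.eval_apply] at h1 ⊢
    refine h1.trans ?_
    show e.symm (Ξ (push (pull θ))) = _
    rw [show push (pull θ) = θ from LinearMap.ext fun n => by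
      show e (e.symm (θ (f (f.symm n)))) = θ n
      rw [e.apply_symm_apply, f.apply_symm_apply]]

variable {X : Scheme.{u}}

theorem image_preimage_eq_inf (U W : X.Opens) : U.ι ''ᵁ U.ι ⁻¹ᵁ W = W ⊓ U := by
  rw [Scheme.Hom.image_preimage_eq_opensRange_inf, Scheme.Opens.opensRange_ι, inf_comm]

theorem bijective_map_congr {F : X.Modules} {W V V' : X.Opens} (e : V = V') (i : V ≤ W) (i' : V' ≤ W)
    (h : Function.Bijective (F.presheaf.map (homOfLE i).op)) :
    Function.Bijective (F.presheaf.map (homOfLE i').op) := by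
  subst e; exact h

/-- The unit of restriction is an isomorphism iff sections extend. -/
theorem isIso_unit_iff (F : X.Modules) (U : X.Opens) :
    IsIso ((Scheme.Modules.restrictAdjunction U.ι).unit.app F) ↔
      ∀ W : X.Opens, Function.Bijective (F.presheaf.map (homOfLE (inf_le_left : W ⊓ U ≤ W)).op) := by
  rw [Scheme.Modules.Hom.isIso_iff_isIso_app]
  refine forall_congr' fun W => ?_
  rw [ConcreteCategory.isIso_iff_bijective, Scheme.Modules.restrictAdjunction_unit_app_app]
  exact ⟨bijective_map_congr (image_preimage_eq_inf U W) _ _,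
    bijective_map_congr (image_preimage_eq_inf U W).symm _ _⟩

/-- Sections of a direct image are determined by the open. -/
theorem bijective_res_pushforward {U : X.Opens} (G : (U : Scheme.{u}).Modules) (W : X.Opens) :
    Function.Bijective (((Scheme.Modules.pushforward U.ι).obj G).presheaf.map
      (homOfLE (inf_le_left : W ⊓ U ≤ W)).op) := by
  have key : ∀ (V V' : (U : Scheme.{u}).Opens) (i : V' ≤ V), V' = V →
      Function.Bijective (G.presheaf.map (homOfLE i).op) := by
    rintro V V' i rfl
    rw [show (homOfLE i).op = 𝟙 (op V') from rfl, CategoryTheory.Functor.map_id]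
    exact Function.bijective_id
  refine key _ _ ((U.ι).preimage_mono inf_le_left) ?_
  apply le_antisymm
  · exact (U.ι).preimage_mono inf_le_left
  · exact fun z hz => ⟨hz, z.2⟩

variable [IsIntegral X] [IsLocallyNoetherian X] {U : X.Opens}

theorem genericPoint_mem_of_depth
    (hU : ∀ x : X, x ∉ U → (2 : ℕ∞) ≤ LocCoh.depth (X.presheaf.stalk x) (X.presheaf.stalk x)) :
    genericPoint X ∈ U := by
  by_contra h
  have h1 := Depth.depth_le_supportDim (X.presheaf.stalk (genericPoint X)) (X.presheaf.stalk (genericPoint X))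
  rw [Module.supportDim_self_eq_ringKrullDim, ringKrullDim_stalk_eq_coheight, coheight_genericPoint] at h1
  exact absurd ((hU _ h).trans (WithBot.coe_le_coe.1 h1)) (by decide)

theorem two_le_dim_of_depth {x : X}
    (h : (2 : ℕ∞) ≤ LocCoh.depth (X.presheaf.stalk x) (X.presheaf.stalk x)) :
    (2 : WithBot ℕ∞) ≤ ringKrullDim (X.presheaf.stalk x) := by
  have h1 := Depth.depth_le_supportDim (X.presheaf.stalk x) (X.presheaf.stalk x)
  rw [Module.supportDim_self_eq_ringKrullDim] at h1
  exact le_trans (WithBot.coe_le_coe.2 h) h1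

/-- Sections of a coherent module with reflexive stalks extend across depth two. -/
theorem bijective_res_of_depth (hU : ∀ x : X, x ∉ U → (2 : ℕ∞) ≤ LocCoh.depth (X.presheaf.stalk x) (X.presheaf.stalk x))
    {F : X.Modules} (hF : Coh.IsCoh F) (hR : ∀ x : X, Module.IsReflexive (X.presheaf.stalk x) (F.presheaf.stalk x))
    (W : X.Opens) : Function.Bijective (F.presheaf.map (homOfLE (inf_le_left : W ⊓ U ≤ W)).op) := by
  have := hF.1
  refine Depth.Mod.mres_bijective hF (fun x hx => ?_) W
  have := hR x
  have := (HomSh.hasRel_of_isCoh hF).span_stalk x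
  exact two_le_depth_of_isReflexive (hU x hx)

/-- On an affine open the sections of a coherent module over a part with big complement form a finite module. -/
theorem finite_sections_of_depth
    (hU : ∀ x : X, x ∉ U → (2 : ℕ∞) ≤ LocCoh.depth (X.presheaf.stalk x) (X.presheaf.stalk x))
    (F : X.Modules) [F.IsQuasicoherent]
    (hfin : ∀ W : X.Opens, IsAffineOpen W → W ≤ U → Module.Finite Γ(X, W) Γ(F, W))
    (hinj : ∀ y : X, Function.Injective (sp F (hη y))) {V : X.Opens} (hV : IsAffineOpen V) :
    Module.Finite Γ(X, V) Γ(F, V) := by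
  classical
  by_cases hne : genericPoint X ∈ V
  swap
  · have : Subsingleton Γ(F, V) := ⟨fun s t => section_ext_generic (fun y _ => hinj y)
      fun y hy => absurd ((hη y).mem_open V.2 hy) hne⟩
    exact Module.Finite.of_surjective (0 : Γ(X, V) →ₗ[Γ(X, V)] Γ(F, V)) fun s => ⟨0, Subsingleton.elim _ _⟩
  have hnt : Nonempty V := ⟨⟨genericPoint X, hne⟩⟩
  have : IsNoetherianRing Γ(X, V) := IsLocallyNoetherian.component_noetherian ⟨V, hV⟩
  have hηU := genericPoint_mem_of_depth hU
  let η := genericPoint X
  let K := X.presheaf.stalk η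
  -- an affine cover of `V ⊓ U`
  have : NoetherianSpace (V : Scheme.{u}) := noetherianSpace_of_isAffineOpen V hV
  have hcomp : IsCompact ((V ⊓ U : X.Opens) : Set X) := by
    have h := (NoetherianSpace.isCompact (V.ι ⁻¹' (U : Set X))).image V.ι.continuous
    rwa [Set.image_preimage_eq_inter_range, Scheme.Opens.range_ι, Set.inter_comm] at h
  obtain ⟨S, hSaff, hSfin, hS⟩ := X.isBasis_affineOpens.exists_finite_of_isCompact hcomp
  have hSle : ∀ W : S, W.1 ≤ V ⊓ U := fun W => hS.symm ▸ le_sSup W.2
  have := hSfin.to_subtype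
  let _ := Fintype.ofFinite S
  choose g hg using fun W : S =>
    haveI := hfin W.1 (hSaff W.2) ((hSle W).trans inf_le_right)
    Module.Finite.exists_fin (R := Γ(X, W.1)) (M := Γ(F, W.1))
  choose gm hgm using hg
  -- coordinates of the generic stalk
  have hfield : IsField K := ⟨⟨0, 1, zero_ne_one⟩, mul_comm, fun {a} ha =>
    ⟨_, (isUnit_of_ne_zero ha).mul_val_inv⟩⟩
  let _ : Field K := hfield.toField
  have hKfin : Module.Finite K (F.presheaf.stalk η) := by
    obtain ⟨W₀, hW₀, hηW₀, hW₀le⟩ := exists_isAffineOpen_mem_and_subset (x := η) (U := V ⊓ U) ⟨hne, hηU⟩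
    have := hfin W₀ hW₀ (fun z hz => (hW₀le hz).2)
    obtain ⟨n, m, hm⟩ := Module.Finite.exists_fin (R := Γ(X, W₀)) (M := Γ(F, W₀))
    refine ⟨⟨Finset.univ.image fun i => F.presheaf.germ W₀ η hηW₀ (m i), eq_top_iff.2 fun v _ => ?_⟩⟩
    obtain ⟨T, hT, t, rfl⟩ := TopCat.Presheaf.exists_germ_eq F.presheaf v
    obtain ⟨f, hf, hηf⟩ := hW₀.exists_basicOpen_le (V := T) ⟨η, hT⟩ hηW₀
    obtain ⟨k, t', ht'⟩ := (QCoh.smulLift_and_smulSep_of_isAffineOpen hW₀ F f).1
      (F.presheaf.map (homOfLE hf).op t)
    have h1 := congrArg (F.presheaf.germ (X.basicOpen f) η hηf) ht'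
    erw [TopCat.Presheaf.germ_res_apply, Mero.germ_smul, TopCat.Presheaf.germ_res_apply] at h1
    obtain ⟨c, hc⟩ := (Submodule.mem_span_range_iff_exists_fun _).1 (hm.ge (Submodule.mem_top (x := t')))
    rw [← hc, map_sum] at h1
    simp only [Mero.germ_smul] at h1
    have hu : IsUnit (X.presheaf.germ (X.basicOpen f) η hηf
        (X.presheaf.map (homOfLE (X.basicOpen_le f)).op f ^ k)) := by
      rw [map_pow, TopCat.Presheaf.germ_res_apply]
      exact ((Scheme.mem_basicOpen _ f η hηW₀).1 hηf).pow k
    refine (Submodule.smul_mem_iff _ hu.ne_zero).1 ?_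
    rw [← h1]
    exact Submodule.sum_mem _ fun i _ => Submodule.smul_mem _ _ (Submodule.subset_span (by simp))
  let b := Module.finBasis K (F.presheaf.stalk η)
  have hηS : ∀ W : S, (∃ y, y ∈ W.1) → η ∈ W.1 := fun W ⟨y, hy⟩ => (hη y).mem_open W.1.2 hy
  let cf : (Σ W : S, Fin (g W)) × Fin (Module.finrank K (F.presheaf.stalk η)) → K := fun p =>
    if h : η ∈ p.1.1.1 then b.repr (F.presheaf.germ p.1.1.1 η h (gm p.1.1 p.1.2)) p.2 else 0
  have := functionField_isFractionRing_of_isAffineOpen X V hV
  obtain ⟨d, hd⟩ := IsLocalization.exist_integer_multiples_of_finite (nonZeroDivisors Γ(X, V)) (S := K) cf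
  have hd0 : algebraMap Γ(X, V) K d.1 ≠ 0 :=
    IsFractionRing.to_map_ne_zero_of_mem_nonZeroDivisors d.2
  -- the coordinates of a section, multiplied by `d`, are functions on `V`
  have key : ∀ (s : Γ(F, V)) j, ∃ a : Γ(X, V),
      algebraMap Γ(X, V) K a = algebraMap Γ(X, V) K d.1 * b.repr (F.presheaf.germ V η hne s) j := by
    intro s j
    let κ : K := algebraMap Γ(X, V) K d.1 * b.repr (F.presheaf.germ V η hne s) j
    have hy : ∀ y ∈ V ⊓ U, ∃ w : X.presheaf.stalk y, spR (hη y) w = κ := by
      intro y hy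
      obtain ⟨W, hyW⟩ : ∃ W : S, y ∈ W.1 := by
        obtain ⟨i, hi, hyi⟩ := Opens.mem_sSup.1 (show y ∈ sSup S from hS ▸ hy)
        exact ⟨⟨i, hi⟩, hyi⟩
      obtain ⟨c, hc⟩ := (Submodule.mem_span_range_iff_exists_fun _).1 ((hgm W).ge
        (Submodule.mem_top (x := F.presheaf.map (homOfLE ((hSle W).trans inf_le_left)).op s)))
      have hηW := hηS W ⟨y, hyW⟩
      choose a ha using fun i => hd (⟨W, i⟩, j)
      refine ⟨∑ i, X.presheaf.germ W.1 y hyW (c i) * X.presheaf.germ V y hy.1 (a i), ?_⟩
      have h1 := congrArg (F.presheaf.germ W.1 η hηW) hc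
      rw [map_sum, TopCat.Presheaf.germ_res_apply] at h1
      simp only [Mero.germ_smul] at h1
      simp only [κ, ← h1, map_sum, map_smul, Finsupp.coe_finsetSum, Finset.sum_apply, Finsupp.smul_apply,
        smul_eq_mul, Finset.mul_sum, map_mul, spR_germ]
      refine Finset.sum_congr rfl fun i _ => ?_
      have h2 := ha i
      rw [Algebra.smul_def] at h2
      rw [show X.presheaf.germ V η _ (a i) = algebraMap Γ(X, V) K (a i) from rfl, h2]
      simp only [cf, dif_pos hηW]
      ring
    have hall : ∀ y ∈ V, ∃ w : X.presheaf.stalk y, spR (hη y) w = κ := by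
      have hO := HomSh.isCoh_structureModule X
      have hinjO : ∀ y : X, Function.Injective (sp (Coh.structureModule X) (hη y)) := fun y => by
        have := isReflexiveAt_unit (X := X) y
        have : Module.IsReflexive (X.presheaf.stalk y) ((Coh.structureModule X).presheaf.stalk y) := this
        have := isTorsionFree_of_isReflexive (X.presheaf.stalk y) ((Coh.structureModule X).presheaf.stalk y)
        have := hO.1
        exact sp_injective _ y
      obtain ⟨t, ht⟩ := exists_section_of_forall_sp (F := Coh.structureModule X) (W := V ⊓ U)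
        (fun y _ => hinjO y) (HomSh.unitStalk η κ) fun y hy' => by
          obtain ⟨w, hw⟩ := hy y hy'
          exact ⟨HomSh.unitStalk y w, by rw [sp_unitStalk, hw]⟩
      obtain ⟨t', ht'⟩ := (bijective_res_of_depth hU hO (fun y => isReflexiveAt_unit y) V).2 t
      intro y hy'
      obtain ⟨w, hw⟩ := (HomSh.unitStalk y).surjective ((Coh.structureModule X).presheaf.germ V y hy' t')
      refine ⟨w, (HomSh.unitStalk η).injective ?_⟩
      rw [← sp_unitStalk, hw, sp_germ]
      have h3 := ht η ⟨hne, hηU⟩
      rw [sp_refl, ← ht', TopCat.Presheaf.germ_res_apply] at h3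
      exact h3
    choose w hw using hall
    have hloc : ∀ y : V, ∃ (T : X.Opens) (j : T ⟶ V) (_ : y.1 ∈ T) (r : Γ(X, T)),
        ∀ (z : X) (hz : z ∈ T), spR (hη z) (X.presheaf.germ T z hz r) = κ := by
      intro y
      obtain ⟨T, hT, r, hr⟩ := TopCat.Presheaf.exists_germ_eq X.presheaf (w y.1 y.2)
      refine ⟨T ⊓ V, homOfLE inf_le_right, ⟨hT, y.2⟩, X.presheaf.map (homOfLE inf_le_left).op r, fun z hz => ?_⟩
      have h4 := hw y.1 y.2
      rw [← hr, spR_germ] at h4
      rw [TopCat.Presheaf.germ_res_apply, spR_germ]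
      exact h4
    choose T jT hyT r hr using hloc
    obtain ⟨a, ha, -⟩ := X.sheaf.existsUnique_gluing' T V jT
      (fun z hz => Opens.mem_iSup.2 ⟨⟨z, hz⟩, hyT ⟨z, hz⟩⟩) r (fun p q => by
        refine TopCat.Presheaf.section_ext X.sheaf _ _ _ fun z hz => spR_injective z ?_
        change spR _ (X.presheaf.germ _ z hz (X.presheaf.map _ (r p))) =
          spR _ (X.presheaf.germ _ z hz (X.presheaf.map _ (r q)))
        rw [TopCat.Presheaf.germ_res_apply, TopCat.Presheaf.germ_res_apply, hr, hr])
    let a' : Γ(X, V) := a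
    refine ⟨a', ?_⟩
    have h5 := congrArg (X.presheaf.germ (T ⟨η, hne⟩) η (hyT ⟨η, hne⟩)) (ha ⟨η, hne⟩)
    erw [TopCat.Presheaf.germ_res_apply] at h5
    have h6 := hr ⟨η, hne⟩ η (hyT ⟨η, hne⟩)
    rw [spR_germ] at h6
    exact h5.trans h6
  choose A hA using key
  have hAinj : ∀ {a a' : Γ(X, V)}, algebraMap Γ(X, V) K a = algebraMap Γ(X, V) K a' → a = a' :=
    fun h => IsFractionRing.injective Γ(X, V) K h
  let Φ : Γ(F, V) →ₗ[Γ(X, V)] (Fin (Module.finrank K (F.presheaf.stalk η)) → Γ(X, V)) :=
    { toFun := fun s j => A s j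
      map_add' := fun s t => funext fun j => hAinj (by
        rw [Pi.add_apply, map_add, hA, hA, hA, map_add, map_add, Finsupp.add_apply, mul_add])
      map_smul' := fun c s => funext fun j => hAinj (by
        rw [RingHom.id_apply, Pi.smul_apply, smul_eq_mul, map_mul, hA, hA, Mero.germ_smul, map_smul,
          Finsupp.smul_apply, smul_eq_mul]
        show _ * (X.presheaf.germ V η hne c * _) = X.presheaf.germ V η hne c * _
        ring) }
  refine Module.Finite.of_injective Φ fun s t hst => ?_
  refine section_ext_generic (fun y _ => hinj y) fun y hy => ?_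
  rw [sp_germ, sp_germ]
  refine b.repr.injective (Finsupp.ext fun j => mul_left_cancel₀ hd0 ?_)
  rw [← hA, ← hA]
  exact congrArg _ (congrFun hst j)

/-- A direct image of a coherent module with reflexive stalks across depth two is coherent and reflexive. -/
theorem isCoh_pushforward_of_depth
    (hU : ∀ x : X, x ∉ U → (2 : ℕ∞) ≤ LocCoh.depth (X.presheaf.stalk x) (X.presheaf.stalk x))
    (G : (U : Scheme.{u}).Modules) (hG : Coh.IsCoh G)
    (hR : ∀ x : (U : Scheme.{u}), Module.IsReflexive ((U : Scheme.{u}).presheaf.stalk x) (G.presheaf.stalk x)) :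
    Coh.IsCoh ((Scheme.Modules.pushforward U.ι).obj G) ∧
      ∀ x : X, Module.IsReflexive (X.presheaf.stalk x) (((Scheme.Modules.pushforward U.ι).obj G).presheaf.stalk x) := by
  have := hG.1
  let F := (Scheme.Modules.pushforward U.ι).obj G
  have hFqc : F.IsQuasicoherent := QCoh.isQuasicoherent_pushforward U.ι G
  let e : F.restrict U.ι ≅ G := asIso ((Scheme.Modules.restrictAdjunction U.ι).counit.app G)
  have hcoh : Coh.IsCoh (F.restrict U.ι) := QCoh.isCoh_of_iso e.symm hG
  have hRU : ∀ x ∈ U, Module.IsReflexive (X.presheaf.stalk x) (F.presheaf.stalk x) := by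
    intro x hx
    obtain ⟨ψ, φ, hψ, hφ, h⟩ := AssPts.exists_restrict_stalk F U ⟨x, hx⟩
    have := hR ⟨x, hx⟩
    have : Module.IsReflexive ((U : Scheme.{u}).presheaf.stalk ⟨x, hx⟩)
        ((F.restrict U.ι).presheaf.stalk ⟨x, hx⟩) :=
      Module.equiv (AssPts.stalkEquiv e ⟨x, hx⟩).symm
    exact isReflexive_of_semilinear ψ φ hψ hφ h
  have hspU : ∀ x ∈ U, Function.Injective (sp F (hη x)) := fun x hx => by
    have := hRU x hx
    have := isTorsionFree_of_isReflexive (X.presheaf.stalk x) (F.presheaf.stalk x)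
    exact sp_injective F x
  have hinj : ∀ y : X, Function.Injective (sp F (hη y)) := fun y => by
    refine (injective_iff_map_eq_zero _).2 fun v hv => ?_
    obtain ⟨W, hyW, s, rfl⟩ := TopCat.Presheaf.exists_germ_eq F.presheaf v
    rw [sp_germ] at hv
    have h0 : F.presheaf.map (homOfLE (inf_le_left : W ⊓ U ≤ W)).op s = 0 := by
      refine section_ext_generic (W := W ⊓ U) (fun z hz => hspU z hz.2) fun z hz => ?_
      rw [TopCat.Presheaf.germ_res_apply, map_zero, map_zero, sp_germ]
      exact hv
    rw [(bijective_res_pushforward G W).1 (h0.trans (map_zero _).symm), map_zero]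
  have hfinU : ∀ W : X.Opens, IsAffineOpen W → W ≤ U → Module.Finite Γ(X, W) Γ(F, W) := by
    intro W hW hWU
    obtain ⟨W', rfl⟩ : ∃ W', U.ι ''ᵁ W' = W :=
      ⟨U.ι ⁻¹ᵁ W, (image_preimage_eq_inf U W).trans (inf_eq_left.2 hWU)⟩
    have := hcoh.1
    have hfin := QCoh.moduleFinite_of_isFiniteType _ hcoh.2
      ((Scheme.Hom.isAffineOpen_iff_of_isOpenImmersion U.ι).1 hW)
    obtain ⟨n, m, hm⟩ := Module.Finite.exists_fin (R := Γ((U : Scheme.{u}), W')) (M := Γ(F.restrict U.ι, W'))
    refine Module.Finite.of_surjective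
      (Fintype.linearCombination Γ(X, U.ι ''ᵁ W') fun i => (show Γ(F, U.ι ''ᵁ W') from m i)) fun s => ?_
    obtain ⟨c, hc⟩ := (Submodule.mem_span_range_iff_exists_fun _).1
      (hm.ge (Submodule.mem_top (x := (show Γ(F.restrict U.ι, W') from s))))
    refine ⟨c, ?_⟩
    rw [Fintype.linearCombination_apply]
    refine Eq.trans (Finset.sum_congr rfl fun i _ => ?_) hc
    show (show Γ(X, U.ι ''ᵁ W') from c i) • (show Γ(F, U.ι ''ᵁ W') from m i) =
      ((U.ι.appIso W').inv (c i)) • (show Γ(F, U.ι ''ᵁ W') from m i)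
    rw [Scheme.Opens.ι_appIso]
    rfl
  have hF : Coh.IsCoh F := ⟨hFqc, (QCoh.isFiniteType_iff_moduleFinite F).2 fun V hV =>
    finite_sections_of_depth hU F hfinU hinj hV⟩
  refine ⟨hF, fun x => isReflexiveAt_of_extend hF (U := U) (fun y => isTorsionFree_of_sp_injective (hinj y))
    (fun y hy => two_le_dim_of_depth (hU y hy)) hRU (fun W => (bijective_res_pushforward G W).2) x⟩

end GrothLib.Ref1
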