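import Groth.Agent.Lib.Ref1.Rank
import Groth.Prelude.Def_C1
import Mathlib.AlgebraicGeometry.OrderOfVanishing

/-!
# The order of a rational section along a codimension one point
-/

set_option autoImplicit false

universe u

open CategoryTheory CategoryTheory.Limits Opposite AlgebraicGeometry TopologicalSpace

namespace GrothLib.Ref1

variable {X : Scheme.{u}}

theorem dim_one_of_coheight {x : X} (hx : Order.coheight x = 1) : ringKrullDim (X.presheaf.stalk x) = 1 := by
  rw [ringKrullDim_stalk_eq_coheight, hx]
  rfl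

theorem coheight_of_dim_one {x : X} (hx : ringKrullDim (X.presheaf.stalk x) = 1) : Order.coheight x = 1 := by
  rw [ringKrullDim_stalk_eq_coheight] at hx
  exact WithBot.coe_injective hx

variable [IsIntegral X]

theorem maximalIdeal_generic : IsLocalRing.maximalIdeal (X.presheaf.stalk (genericPoint X)) = ⊥ :=
  (Submodule.eq_bot_iff _).2 fun c hc => by
    by_contra h0
    exact (IsLocalRing.mem_maximalIdeal c).1 hc (isUnit_of_ne_zero h0)

variable {F : X.Modules}

theorem mk_injective :
    Function.Injective (Submodule.Quotient.mk : F.presheaf.stalk (genericPoint X) → Cyc.secFibre F (genericPoint X)) := by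
  intro v w h
  rw [Submodule.Quotient.eq, maximalIdeal_generic, Submodule.bot_smul, Submodule.mem_bot, sub_eq_zero] at h
  exact h

theorem exists_eq_mk (s : Cyc.secFibre F (genericPoint X)) :
    ∃ v : F.presheaf.stalk (genericPoint X), s = Submodule.Quotient.mk v :=
  let ⟨v, hv⟩ := Submodule.Quotient.mk_surjective _ s
  ⟨v, hv.symm⟩

theorem residue_injective : Function.Injective (X.residue (genericPoint X)) := by
  rw [injective_iff_map_eq_zero]
  intro c hc
  by_contra h0
  exact ((isUnit_of_ne_zero h0).map (X.residue (genericPoint X)).hom).ne_zero hc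

variable [IsLocallyNoetherian X]

/-- The two orders of a rational function along a point of codimension one agree. -/
theorem ordAt_residue {x : X} (hx : Order.coheight x = 1) (h : genericPoint X ⤳ x)
    {φ : X.presheaf.stalk (genericPoint X)} (hφ : φ ≠ 0) :
    Cyc.ordAt x (genericPoint X) h (X.residue (genericPoint X) φ) = Scheme.ord (φ : X.functionField) x := by
  let A := X.presheaf.stalk x
  have : Ring.KrullDimLE 1 A := krullDimLE_of_coheight_le hx.le
  obtain ⟨a, b, hb, hab⟩ := exists_spR_div x φ
  have ha : a ≠ 0 := by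
    rintro rfl
    rw [map_zero, mul_eq_zero] at hab
    exact hφ (hab.resolve_left (isUnit_spR hb).ne_zero)
  have hma := mem_nonZeroDivisors_of_ne_zero ha
  have hmb := mem_nonZeroDivisors_of_ne_zero hb
  have h1 : Scheme.ord (φ : X.functionField) x = ((Ring.ord A a).toNat : ℤ) - ((Ring.ord A b).toNat : ℤ) := by
    refine (Scheme.ord_eq_iff hx hφ).2 ?_
    have hφ' : (φ : X.functionField) = algebraMap A X.functionField a / algebraMap A X.functionField b := by
      rw [eq_div_iff ((map_ne_zero_iff _ (IsFractionRing.injective A X.functionField)).2 hb), mul_comm]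
      exact hab
    change Ring.ordFrac A (φ : X.functionField) = _
    rw [hφ', map_div₀, Ring.ordFrac_eq_ord _ ha, Ring.ordFrac_eq_ord _ hb,
      Ring.ordMonoidWithZeroHom_eq_coe _ hma (ENat.natCast_toNat (Ring.ord_ne_top hma)).symm,
      Ring.ordMonoidWithZeroHom_eq_coe _ hmb (ENat.natCast_toNat (Ring.ord_ne_top hmb)).symm, ← WithZero.coe_div]
    rfl
  let f : A →+* X.residueField (genericPoint X) := Cyc.specMap x (genericPoint X) h
  have hf : Function.Injective f := residue_injective.comp (spR_injective x)
  have hker : RingHom.ker f = ⊥ := (RingHom.injective_iff_ker_eq_bot f).1 hf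
  let R' := Cyc.LocQuot x (genericPoint X) h
  let q : A →+* R' := Ideal.Quotient.mk _
  have hq : Function.Bijective q := ⟨by
    rw [RingHom.injective_iff_ker_eq_bot, Ideal.mk_ker]
    exact hker, Ideal.Quotient.mk_surjective⟩
  have hr : ∀ c : A, algebraMap R' (X.residueField (genericPoint X)) (q c) = f c := fun c => rfl
  have hinj : Function.Injective (algebraMap R' (X.residueField (genericPoint X))) := fun c d hcd => by
    obtain ⟨c, rfl⟩ := hq.2 c
    obtain ⟨d, rfl⟩ := hq.2 d
    rw [hr, hr] at hcd
    rw [hf hcd]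
  have : IsDomain R' := hinj.isDomain
  have : FaithfulSMul R' (X.residueField (genericPoint X)) := (faithfulSMul_iff_algebraMap_injective _ _).2 hinj
  have hfrac : IsFractionRing R' (X.residueField (genericPoint X)) := IsFractionRing.of_field R' (X.residueField (genericPoint X)) fun z => by
    obtain ⟨c, rfl⟩ := X.residue_surjective (genericPoint X) z
    obtain ⟨a, b, hb, hab⟩ := exists_spR_div x c
    refine ⟨q a, q b, ?_⟩
    rw [hr, hr, eq_div_iff ((map_ne_zero_iff _ hf).2 hb), mul_comm]
    change X.residue _ (spR (hη x) b) * X.residue _ c = X.residue _ (spR (hη x) a)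
    rw [← map_mul, hab]
  have hN : IsNoetherianRing R' := isNoetherianRing_of_surjective A R' q hq.2
  have hK : Ring.KrullDimLE 1 R' := Ring.krullDimLE_iff.2
    ((ringKrullDim_quotient_le _).trans (Ring.krullDimLE_iff.1 ‹Ring.KrullDimLE 1 A›))
  have hord : ∀ c : A, Ring.ord R' (q c) = Ring.ord A c := fun c => by
    have hsurj : Function.Surjective (algebraMap A R') := hq.2
    unfold Ring.ord
    rw [← Module.length_eq_of_surjective (M := R' ⧸ Ideal.span {q c}) hsurj]
    symm
    refine LinearEquiv.length_eq (LinearEquiv.ofBijective (Submodule.liftQ _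
      (((Ideal.span {q c}).restrictScalars A).mkQ.comp (Algebra.linearMap A R')) ?_) ⟨?_, ?_⟩)
    · rw [Ideal.span_le, Set.singleton_subset_iff]
      exact (Submodule.Quotient.mk_eq_zero _).2 (Ideal.mem_span_singleton_self (q c))
    · rw [← LinearMap.ker_eq_bot, Submodule.ker_liftQ_eq_bot]
      intro d hd
      obtain ⟨r, hr'⟩ := Ideal.mem_span_singleton'.1 ((Submodule.Quotient.mk_eq_zero _).1 hd)
      obtain ⟨r, rfl⟩ := hq.2 r
      exact Ideal.mem_span_singleton'.2 ⟨r, hq.1 (by rw [map_mul]; exact hr')⟩
    · intro w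
      obtain ⟨w, rfl⟩ := Submodule.Quotient.mk_surjective _ w
      obtain ⟨d, rfl⟩ := hq.2 w
      exact ⟨Submodule.Quotient.mk d, rfl⟩
  have hres : X.residue (genericPoint X) φ =
      algebraMap R' (X.residueField (genericPoint X)) (q a) / algebraMap R' (X.residueField (genericPoint X)) (q b) := by
    rw [hr, hr, eq_div_iff ((map_ne_zero_iff _ hf).2 hb), mul_comm]
    change X.residue _ (spR (hη x) b) * X.residue _ φ = X.residue _ (spR (hη x) a)
    rw [← map_mul, hab]
  have hma' : q a ∈ nonZeroDivisors R' :=
    mem_nonZeroDivisors_of_ne_zero ((map_ne_zero_iff _ hq.1).2 ha)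
  have hmb' : q b ∈ nonZeroDivisors R' :=
    mem_nonZeroDivisors_of_ne_zero ((map_ne_zero_iff _ hq.1).2 hb)
  rw [h1, Cyc.ordAt, CycAlg.ordFrac, dif_pos ⟨hN, hK, inferInstance, hfrac⟩, hres, map_div₀,
    Ring.ordFrac_eq_ord _ ((map_ne_zero_iff _ hq.1).2 ha), Ring.ordFrac_eq_ord _ ((map_ne_zero_iff _ hq.1).2 hb),
    Ring.ordMonoidWithZeroHom_eq_coe _ hma' (ENat.natCast_toNat (Ring.ord_ne_top hma')).symm,
    Ring.ordMonoidWithZeroHom_eq_coe _ hmb' (ENat.natCast_toNat (Ring.ord_ne_top hmb')).symm, ← WithZero.coe_div,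
    ← hord a, ← hord b]
  rfl

theorem ord_spR_of_isUnit {x : X} {u : X.presheaf.stalk x} (hu : IsUnit u) :
    Scheme.ord (spR (hη x) u : X.functionField) x = 0 := by
  by_cases hx : Order.coheight x = 1
  · have : Ring.KrullDimLE 1 (X.presheaf.stalk x) := krullDimLE_of_coheight_le hx.le
    refine (Scheme.ord_eq_iff hx ((hu.map _).ne_zero)).2 ?_
    exact (Ring.ordFrac_of_isUnit hu).trans rfl
  · exact Scheme.ord_eq_zero_of_coheight_neq_one hx _

/-- The order of a rational section with respect to any free generator. -/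
theorem secOrdAt_eq [F.IsQuasicoherent] {x : X} (hx : Order.coheight x = 1) (h : genericPoint X ⤳ x)
    {t : F.presheaf.stalk x} (ht : Gen F x t) {φ : X.presheaf.stalk (genericPoint X)} (hφ : φ ≠ 0) :
    Cyc.secOrdAt F (genericPoint X) x h (Submodule.Quotient.mk (φ • sp F h t)) =
      Scheme.ord (φ : X.functionField) x := by
  have hex : ∃ t', Submodule.span (X.presheaf.stalk x) {t'} = ⊤ := ⟨t, ht.span⟩
  rw [Cyc.secOrdAt, dif_pos hex]
  obtain ⟨u, hu⟩ := ht.2 (Classical.choose hex)
  dsimp only at hu
  obtain ⟨v, hv⟩ := Submodule.mem_span_singleton.1 ((Classical.choose_spec hex).ge (Submodule.mem_top (x := t)))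
  have hvu : v * u = 1 := ht.1 (show (v * u) • t = (1 : X.presheaf.stalk x) • t by
    rw [mul_smul, hu, hv, one_smul])
  have huu : IsUnit u := IsUnit.of_mul_eq_one_right v hvu
  let w := spR (hη x) v
  have hc : sp F h t = w • sp F h (Classical.choose hex) := by
    conv_lhs => rw [← hv]
    exact sp_smul F h v _
  have hs : (Submodule.Quotient.mk (φ • sp F h t) : Cyc.secFibre F (genericPoint X)) =
      (φ * w) • (Submodule.Quotient.mk (sp F h (Classical.choose hex)) : Cyc.secFibre F (genericPoint X)) := by
    rw [hc, ← Submodule.Quotient.mk_smul, mul_smul]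
  have hw : IsUnit v := IsUnit.of_mul_eq_one u hvu
  have hexφ : ∃ φ' : X.presheaf.stalk (genericPoint X), (Submodule.Quotient.mk (φ • sp F h t) :
      Cyc.secFibre F (genericPoint X)) = φ' • (Submodule.Quotient.mk
        ((F.presheaf.stalkSpecializes h) (Classical.choose hex)) : Cyc.secFibre F (genericPoint X)) :=
    ⟨φ * w, hs⟩
  rw [dif_pos hexφ]
  have hch := (Classical.choose_spec hexφ).symm.trans hs
  rw [← Submodule.Quotient.mk_smul, ← Submodule.Quotient.mk_smul] at hch
  have hg : Gen F (genericPoint X) (sp F (hη x) (Classical.choose hex)) := by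
    refine (show Gen F x (Classical.choose hex) from ?_).sp
    rw [← hu]
    exact (ht.comp (Units.mulRight huu.unit).bijective :
      Function.Bijective ((fun a => a • t) ∘ fun a => a * u)) |> fun hb => by
        simpa [Gen, Function.comp_def, mul_smul] using hb
  have := hg.1 (mk_injective hch)
  rw [this, ordAt_residue hx h (mul_ne_zero hφ (hw.map _).ne_zero),
    Scheme.ord_mul hφ (hw.map _).ne_zero, ord_spR_of_isUnit hw, add_zero]

end GrothLib.Ref1
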