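import Groth.Agent.Lib.Ref1.Specialize
import Groth.Agent.Lib.HomSh.Criterion
import Groth.Agent.Lib.HomSh.Reflexive
import Groth.Agent.Lib.NormalSerre.AssPrincipal
import Groth.Prelude.Def_Pi1

/-!
# Reflexive modules on a normal integral scheme are determined in codimension one
-/

set_option autoImplicit false

universe u

open CategoryTheory CategoryTheory.Limits Opposite AlgebraicGeometry TopologicalSpace

namespace GrothLib.Ref1

variable {X : Scheme.{u}}

/-! ### Stalk maps -/

theorem stalkMapₗ_comp {F G H : X.Modules} (φ : F ⟶ G) (ψ : G ⟶ H) (x : X) :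
    RefHull.stalkMapₗ (φ ≫ ψ) x = (RefHull.stalkMapₗ ψ x).comp (RefHull.stalkMapₗ φ x) := by
  refine LinearMap.ext fun v => ?_
  obtain ⟨U, hU, m, rfl⟩ := TopCat.Presheaf.exists_germ_eq F.presheaf v
  rw [LinearMap.comp_apply, RefHull.stalkMapₗ_germ, RefHull.stalkMapₗ_germ, RefHull.stalkMapₗ_germ]
  rfl

theorem stalkMapₗ_id (F : X.Modules) (x : X) : RefHull.stalkMapₗ (𝟙 F) x = LinearMap.id := by
  refine LinearMap.ext fun v => ?_
  obtain ⟨U, hU, m, rfl⟩ := TopCat.Presheaf.exists_germ_eq F.presheaf v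
  rw [RefHull.stalkMapₗ_germ]
  rfl

theorem stalkMapₗ_bijective {F G : X.Modules} (e : F ≅ G) (x : X) :
    Function.Bijective (RefHull.stalkMapₗ e.hom x) := by
  refine Function.bijective_iff_has_inverse.2 ⟨RefHull.stalkMapₗ e.inv x, fun v => ?_, fun v => ?_⟩
  · rw [← LinearMap.comp_apply, ← stalkMapₗ_comp, e.hom_inv_id, stalkMapₗ_id]; rfl
  · rw [← LinearMap.comp_apply, ← stalkMapₗ_comp, e.inv_hom_id, stalkMapₗ_id]; rfl

/-- An admissible global family of stalk maps is a morphism. -/
theorem exists_hom_of_isLocSect {G H : X.Modules} (f : ∀ x : (⊤ : X.Opens), RefHull.StalkHom G H x.1)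
    (hf : RefHull.IsLocSect G H f) : ∃ φ : G ⟶ H, ∀ x, RefHull.stalkMapₗ φ x = f ⟨x, trivial⟩ := by
  have huniq : ∀ (U : X.Opens) (n n' : Γ(H, U)),
      (∀ (x : X) (hx : x ∈ U), H.presheaf.germ U x hx n = H.presheaf.germ U x hx n') → n = n' :=
    fun U n n' h => TopCat.Presheaf.section_ext (C := Ab.{u}) (X := X.carrier) ⟨H.presheaf, H.isSheaf⟩ U n n'
      h
  have hex : ∀ (U : X.Opens) (m : Γ(G, U)), ∃ n : Γ(H, U), ∀ (x : X) (hx : x ∈ U),
      H.presheaf.germ U x hx n = f ⟨x, trivial⟩ (G.presheaf.germ U x hx m) := by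
    intro U m
    choose W hxW j n hn using fun x : U => hf U (homOfLE le_top) m x
    have hcomp : TopCat.Presheaf.IsCompatible (C := Ab.{u}) H.presheaf W n := by
      intro a b
      refine huniq _ _ _ fun y hy => ?_
      rw [TopCat.Presheaf.germ_res_apply, TopCat.Presheaf.germ_res_apply]
      exact ((hn a ⟨y, hy.1⟩).symm.trans (hn b ⟨y, hy.2⟩))
    obtain ⟨s, hs, -⟩ := TopCat.Sheaf.existsUnique_gluing' ⟨H.presheaf, H.isSheaf⟩ W U j
      (fun y hy => Opens.mem_iSup.2 ⟨⟨y, hy⟩, hxW ⟨y, hy⟩⟩) n hcomp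
    refine ⟨s, fun x hx => ?_⟩
    have := congrArg (H.presheaf.germ (W ⟨x, hx⟩) x (hxW ⟨x, hx⟩)) (hs ⟨x, hx⟩)
    erw [TopCat.Presheaf.germ_res_apply] at this
    exact this.trans (hn ⟨x, hx⟩ ⟨x, hxW ⟨x, hx⟩⟩).symm
  choose app happ using hex
  let appHom (U : X.Opens) : Γ(G, U) →+ Γ(H, U) :=
    AddMonoidHom.mk' (app U) fun m m' => huniq _ _ _ fun x hx => by
      rw [happ, map_add, map_add, map_add, happ, happ]
  refine ⟨⟨PresheafOfModules.homMk
    { app := fun U => AddCommGrpCat.ofHom (appHom U.unop)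
      naturality := fun {U V} i => AddCommGrpCat.ext fun m => huniq _ _ _ fun x hx => ?_ }
    fun U (r : Γ(X, U.unop)) (m : Γ(G, U.unop)) => huniq _ _ _ fun x hx => ?_⟩, fun x => LinearMap.ext fun v => ?_⟩
  · change H.presheaf.germ V.unop x hx (app V.unop (G.presheaf.map i m)) =
      H.presheaf.germ V.unop x hx (H.presheaf.map i (app U.unop m))
    rw [happ]
    erw [TopCat.Presheaf.germ_res_apply' H.presheaf i x hx, TopCat.Presheaf.germ_res_apply' G.presheaf i x hx]
    rw [happ]
  · change H.presheaf.germ U.unop x hx (app U.unop ((r : Γ(X, U.unop)) • (m : Γ(G, U.unop)))) =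
      H.presheaf.germ U.unop x hx ((r : Γ(X, U.unop)) • app U.unop m)
    rw [happ, Mero.germ_smul, map_smul, Mero.germ_smul, happ]
  · obtain ⟨U, hU, m, rfl⟩ := TopCat.Presheaf.exists_germ_eq G.presheaf v
    rw [RefHull.stalkMapₗ_germ]
    exact happ U m x hU

/-! ### The generic point -/

variable [IsIntegral X]

theorem hη (x : X) : genericPoint X ⤳ x := (genericPoint_spec X).specializes (Set.mem_univ x)

theorem isUnit_of_ne_zero {c : X.presheaf.stalk (genericPoint X)} (hc : c ≠ 0) : IsUnit c :=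
  Ne.isUnit (G₀ := X.functionField) hc

theorem spR_injective (x : X) : Function.Injective (spR (hη x)) :=
  IsFractionRing.injective (X.presheaf.stalk x) X.functionField

theorem isUnit_spR {x : X} {a : X.presheaf.stalk x} (ha : a ≠ 0) : IsUnit (spR (hη x) a) :=
  isUnit_of_ne_zero (map_ne_zero_iff _ (spR_injective x) |>.2 ha)

omit [IsIntegral X] in
theorem ne_zero_of_isUnit_spR {x y : X} (h : y ⤳ x) {a : X.presheaf.stalk x} (ha : IsUnit (spR h a)) :
    a ≠ 0 := by
  rintro rfl
  rw [map_zero] at ha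
  exact not_isUnit_zero ha

theorem sp_injective (F : X.Modules) [F.IsQuasicoherent] (x : X)
    [Module.IsTorsionFree (X.presheaf.stalk x) (F.presheaf.stalk x)] :
    Function.Injective (sp F (hη x)) := by
  rw [injective_iff_map_eq_zero]
  intro v hv
  obtain ⟨a, ha, h0⟩ := exists_smul_eq_zero_of_sp F (hη x) v hv
  exact (smul_eq_zero.1 h0).resolve_left (ne_zero_of_isUnit_spR _ ha)

theorem isTorsionFree_of_isReflexive (R : Type*) [CommRing R] [IsDomain R] (M : Type*) [AddCommGroup M]
    [Module R M] [Module.IsReflexive R M] : Module.IsTorsionFree R M := by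
  refine .of_smul_eq_zero fun a v h => or_iff_not_imp_left.2 fun ha => ?_
  refine (Module.bijective_dual_eval R M).1 ?_
  refine LinearMap.ext fun φ => ?_
  have := congrArg φ h
  rw [map_smul, map_zero, smul_eq_mul, mul_eq_zero] at this
  rw [Module.Dual.eval_apply, map_zero, LinearMap.zero_apply]
  exact this.resolve_left ha

/-- A quasi-coherent module with reflexive stalks whose generic element lies in all stalks at
codimension one points above `x` lies in the stalk at `x`. -/
theorem exists_sp_eq_of_forall_dim_one [IsLocallyNoetherian X] (hX : Pi1.IsNormalScheme X) (F : X.Modules)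
    [F.IsQuasicoherent] (x : X) (hF : RefHull.IsReflexiveAt F x) (v : F.presheaf.stalk (genericPoint X))
    (hv : ∀ y : X, y ⤳ x → ringKrullDim (X.presheaf.stalk y) = 1 → ∃ w, sp F (hη y) w = v) :
    ∃ w, sp F (hη x) w = v := by
  have : IsDomain (X.presheaf.stalk x) := (hX x).1
  have : IsIntegrallyClosed (X.presheaf.stalk x) := (hX x).2
  have : Module.IsReflexive (X.presheaf.stalk x) (F.presheaf.stalk x) := hF
  have := isTorsionFree_of_isReflexive (X.presheaf.stalk x) (F.presheaf.stalk x)
  have hinj := sp_injective F x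
  obtain ⟨a, u, hau, hau'⟩ := exists_sp_smul F (hη x) v
  have ha := ne_zero_of_isUnit_spR _ hau
  have hdvd : ∀ φ : Module.Dual (X.presheaf.stalk x) (F.presheaf.stalk x), a ∣ φ u := by
    intro φ
    let A := X.presheaf.stalk x
    have ha' : algebraMap A (FractionRing A) a ≠ 0 :=
      (map_ne_zero_iff _ (IsFractionRing.injective A (FractionRing A))).2 ha
    obtain ⟨c, hc⟩ := NormalSerre.mem_range_of_forall_height_one
      (algebraMap A (FractionRing A) (φ u) / algebraMap A (FractionRing A) a) fun p _ hp => by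
        obtain ⟨y, h, hy, hunit⟩ := exists_point_of_prime x p
        obtain ⟨w, hw⟩ := hv y h (by rw [hy, hp]; rfl)
        obtain ⟨b, r, hb, hbr⟩ := exists_sp_smul F h w
        refine ⟨φ r, b, (hunit b).1 hb, ?_⟩
        have e : spR (hη x) b • v = sp F (hη x) r := by
          have := congrArg (sp F (hη y)) hbr
          rwa [sp_smul, sp_sp, spR_spR, hw] at this
        have e' : b • u = a • r := hinj <| by
          rw [sp_smul, sp_smul, ← hau', ← e, smul_comm]
        have := congrArg (algebraMap A (FractionRing A) ∘ φ) e'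
        simp only [Function.comp, map_smul, smul_eq_mul, map_mul] at this
        rw [div_mul_eq_mul_div, eq_div_iff ha', mul_comm, ← this, mul_comm]
    refine ⟨c, IsFractionRing.injective A (FractionRing A) ?_⟩
    rw [map_mul, hc, mul_div_cancel₀ _ ha']
  choose c hc using hdvd
  let θ : Module.Dual (X.presheaf.stalk x) (Module.Dual (X.presheaf.stalk x) (F.presheaf.stalk x)) :=
    { toFun := c
      map_add' := fun φ ψ => mul_left_cancel₀ ha <| by
        rw [mul_add, ← hc, ← hc, ← hc]; rfl
      map_smul' := fun s φ => mul_left_cancel₀ ha <| by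
        rw [RingHom.id_apply, smul_eq_mul, mul_left_comm, ← hc, ← hc]; rfl }
  obtain ⟨w, hw⟩ := (Module.bijective_dual_eval (X.presheaf.stalk x) (F.presheaf.stalk x)).2 θ
  refine ⟨w, hau.smul_left_cancel.1 ?_⟩
  have : a • w = u := (Module.bijective_dual_eval (X.presheaf.stalk x) (F.presheaf.stalk x)).1 <|
    LinearMap.ext fun φ => by
      rw [map_smul, hw]
      exact (hc φ).symm
  rw [hau', ← this, sp_smul]

/-- A morphism into a module whose stalks inject into the generic one is determined there. -/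
theorem hom_ext_generic {G H : X.Modules} (hH : ∀ x, Function.Injective (sp H (hη x))) {φ ψ : G ⟶ H}
    (h : RefHull.stalkMapₗ φ (genericPoint X) = RefHull.stalkMapₗ ψ (genericPoint X)) : φ = ψ := by
  refine Scheme.Modules.hom_ext _ _ fun U => ?_
  refine AddCommGrpCat.ext fun m => ?_
  refine TopCat.Presheaf.section_ext (C := Ab.{u}) (X := X.carrier) ⟨H.presheaf, H.isSheaf⟩ U _ _
    fun x hx => hH x ?_
  change sp H (hη x) (H.presheaf.germ U x hx (φ.app U m)) = sp H (hη x) (H.presheaf.germ U x hx (ψ.app U m))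
  rw [← RefHull.stalkMapₗ_germ, ← RefHull.stalkMapₗ_germ, ← stalkMapₗ_sp, ← stalkMapₗ_sp, h]

/-- A generic map into a module with injective specialisations, landing in every stalk, extends. -/
theorem exists_hom_of_forall_mem {G H : X.Modules} (hH : ∀ x, Function.Injective (sp H (hη x)))
    (T : RefHull.StalkHom G H (genericPoint X))
    (hT : ∀ (x : X) (v : G.presheaf.stalk x), ∃ w, sp H (hη x) w = T (sp G (hη x) v)) :
    ∃ ψ : G ⟶ H, RefHull.stalkMapₗ ψ (genericPoint X) = T := by
  choose f hf using hT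
  let fl (x : (⊤ : X.Opens)) : RefHull.StalkHom G H x.1 :=
    { toFun := f x.1
      map_add' := fun v w => hH x.1 <| by rw [map_add, hf, hf, hf, map_add, map_add]
      map_smul' := fun a v => hH x.1 <| by
        rw [RingHom.id_apply, hf, sp_smul, map_smul, sp_smul, hf] }
  have hloc : RefHull.IsLocSect G H fl := by
    intro V i m x
    obtain ⟨U, hU, n, hn⟩ := TopCat.Presheaf.exists_germ_eq H.presheaf (f x.1 (G.presheaf.germ V x.1 x.2 m))
    refine ⟨U ⊓ V, ⟨hU, x.2⟩, homOfLE inf_le_right, H.presheaf.map (homOfLE inf_le_left).op n,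
      fun y => hH y.1 ?_⟩
    change sp H (hη y.1) (f y.1 _) = _
    rw [hf, TopCat.Presheaf.germ_res_apply, sp_germ, sp_germ]
    have := hf x.1 (G.presheaf.germ V x.1 x.2 m)
    rw [← hn, sp_germ, sp_germ] at this
    exact this.symm
  obtain ⟨ψ, hψ⟩ := exists_hom_of_isLocSect fl hloc
  refine ⟨ψ, LinearMap.ext fun v => ?_⟩
  rw [hψ]
  have := hf (genericPoint X) v
  rwa [sp_refl, sp_refl] at this

/-- The reflexive stalks of a reflexive coherent module. -/
theorem injective_sp_of_isReflexive [IsLocallyNoetherian X] (hX : Pi1.IsNormalScheme X) {F : X.Modules} [F.IsQuasicoherent]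
    (hF : HomSh.HasRel F) (hR : RefHull.IsReflexive F) (x : X) : Function.Injective (sp F (hη x)) := by
  have : IsDomain (X.presheaf.stalk x) := (hX x).1
  have : Module.IsReflexive (X.presheaf.stalk x) (F.presheaf.stalk x) := (HomSh.isReflexive_iff hF).1 hR x
  have := isTorsionFree_of_isReflexive (X.presheaf.stalk x) (F.presheaf.stalk x)
  exact sp_injective F x

/-- Extension of a generic map into a coherent reflexive module from codimension one. -/
theorem exists_hom_of_dim_one [IsLocallyNoetherian X] (hX : Pi1.IsNormalScheme X) {G H : X.Modules}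
    [H.IsQuasicoherent] (hH : HomSh.HasRel H) (hR : RefHull.IsReflexive H)
    (T : RefHull.StalkHom G H (genericPoint X))
    (hT : ∀ x : X, ringKrullDim (X.presheaf.stalk x) = 1 → ∀ v : G.presheaf.stalk x,
      ∃ w, sp H (hη x) w = T (sp G (hη x) v)) :
    ∃ ψ : G ⟶ H, RefHull.stalkMapₗ ψ (genericPoint X) = T :=
  exists_hom_of_forall_mem (injective_sp_of_isReflexive hX hH hR) T fun x v =>
    exists_sp_eq_of_forall_dim_one hX H x ((HomSh.isReflexive_iff hH).1 hR x) _ fun y hy hdim => by
      obtain ⟨w, hw⟩ := hT y hdim (sp G hy v)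
      exact ⟨w, by rw [hw, sp_sp]⟩

end GrothLib.Ref1
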