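import Groth.Agent.Lib.Depth.CM
import Groth.Agent.Lib.RegLoc.Basic
import Groth.Agent.Lib.RegLoc.Normal
import Mathlib.RingTheory.DiscreteValuationRing.TFAE
import Mathlib.RingTheory.Regular.Free
import Mathlib.LinearAlgebra.FreeModule.PID

/-!
# Depth two and reflexive modules over local rings
-/

set_option autoImplicit false

universe u

open IsLocalRing RingTheory.Sequence
open scoped Pointwise

namespace GrothLib.Ref1

variable {A : Type u} [CommRing A] [IsLocalRing A]

/-- An ideal outside all non-maximal primes contains a power of the maximal ideal. -/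
theorem exists_pow_le_of_forall_prime [IsNoetherianRing A] {J : Ideal A}
    (h : ∀ p : Ideal A, p.IsPrime → p ≠ maximalIdeal A → ¬ J ≤ p) : ∃ k : ℕ, maximalIdeal A ^ k ≤ J := by
  refine Ideal.exists_pow_le_of_le_radical_of_fg ?_ (IsNoetherian.noetherian _)
  rw [Ideal.radical_eq_sInf]
  refine le_sInf fun p hp => ?_
  by_contra hne
  exact h p hp.2 (fun e => hne e.ge) hp.1

variable [IsNoetherianRing A]

set_option linter.overlappingInstances false

/-- In depth one nothing is killed by a power of the maximal ideal. -/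
theorem eq_zero_of_pow_smul {M : Type u} [AddCommGroup M] [Module A M] [Module.Finite A M]
    (hd : 1 ≤ LocCoh.depth A M) {v : M} {k : ℕ} (hv : ∀ b ∈ maximalIdeal A ^ k, b • v = 0) : v = 0 := by
  nontriviality M
  obtain ⟨x, hx, hreg⟩ := (Depth.one_le_idealDepth_iff (maximalIdeal.isMaximal A).ne_top).1 hd
  exact (hreg.pow k).right_eq_zero_of_smul (hv _ (Ideal.pow_mem_pow hx k))

/-- In depth two divisibility by a regular element can be checked up to a power of the maximal ideal. -/
theorem exists_eq_smul_of_depth_two {M : Type u} [AddCommGroup M] [Module A M] [Module.Finite A M]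
    (hd : 2 ≤ LocCoh.depth A M) {a : A} (ha : a ∈ maximalIdeal A) (hreg : IsSMulRegular M a) {f : M} {k : ℕ}
    (hf : ∀ b ∈ maximalIdeal A ^ k, ∃ m, b • f = a • m) : ∃ m, f = a • m := by
  have h1 : (1 : ℕ∞) ≤ LocCoh.depth A (QuotSMulTop a M) := by
    have := Depth.idealDepth_quotSMulTop_add_one (maximalIdeal A) (M := M) ha hreg
    change (1 : ℕ∞) ≤ LocCoh.idealDepth (maximalIdeal A) (QuotSMulTop a M)
    rw [← ENat.add_le_add_iff_right (ENat.one_ne_top), this, one_add_one_eq_two]
    exact hd
  have := eq_zero_of_pow_smul h1 (v := Submodule.Quotient.mk f) (k := k) fun b hb => by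
    obtain ⟨m, hm⟩ := hf b hb
    rw [← Submodule.Quotient.mk_smul, Submodule.Quotient.mk_eq_zero, hm]
    exact Submodule.smul_mem_pointwise_smul m a ⊤ trivial
  rw [Submodule.Quotient.mk_eq_zero, Submodule.mem_smul_pointwise_iff_exists] at this
  obtain ⟨m, -, hm⟩ := this
  exact ⟨m, hm.symm⟩

/-- A map that is bijective away from the closed point is bijective, in depth two. -/
theorem bijective_of_depth_two {M N : Type u} [AddCommGroup M] [Module A M] [Module.Finite A M]
    [AddCommGroup N] [Module A N] (φ : M →ₗ[A] N) (hd : 2 ≤ LocCoh.depth A M)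
    (hker : ∀ v, φ v = 0 → ∃ k : ℕ, ∀ b ∈ maximalIdeal A ^ k, b • v = 0)
    (hcok : ∀ w, ∃ k : ℕ, ∀ b ∈ maximalIdeal A ^ k, ∃ v, φ v = b • w)
    (hass : ¬ IsAssociatedPrime (maximalIdeal A) N) : Function.Bijective φ := by
  have hinj : Function.Injective φ := (injective_iff_map_eq_zero φ).2 fun v hv =>
    (hker v hv).elim fun k hk => eq_zero_of_pow_smul ((by decide : (1 : ℕ∞) ≤ 2).trans hd) hk
  refine ⟨hinj, fun w => ?_⟩
  -- no element of `N` is killed by a power of the maximal ideal
  have hN : ∀ (k : ℕ) (u : N), (∀ b ∈ maximalIdeal A ^ k, b • u = 0) → u = 0 := by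
    intro k
    induction k with
    | zero => intro u hu; simpa using hu 1 (by simp)
    | succ k ih =>
      intro u hu
      refine ih u fun b hb => ?_
      by_contra h0
      refine hass (isAssociatedPrime_iff.2 ⟨Ideal.IsMaximal.isPrime (maximalIdeal.isMaximal A), b • u, ?_⟩)
      refine le_antisymm (fun r hr => Submodule.mem_colon_singleton.2 ((Submodule.mem_bot A).2 ?_)) ?_
      · rw [← mul_smul]
        exact hu _ (by rw [pow_succ']; exact Ideal.mul_mem_mul hr hb)
      · refine le_maximalIdeal fun h => h0 ?_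
        have := (Ideal.eq_top_iff_one _).1 h
        rwa [Submodule.mem_colon_singleton, Submodule.mem_bot, one_smul] at this
  obtain ⟨k, hk⟩ := hcok w
  rcases subsingleton_or_nontrivial M with hM | hM
  · exact ⟨0, by rw [map_zero]; exact (hN k w fun b hb => by
      obtain ⟨v, hv⟩ := hk b hb
      rw [← hv, Subsingleton.elim v 0, map_zero]).symm⟩
  obtain ⟨x, hx, hreg⟩ := (Depth.one_le_idealDepth_iff (maximalIdeal.isMaximal A).ne_top).1
    ((by decide : (1 : ℕ∞) ≤ 2).trans hd : (1 : ℕ∞) ≤ LocCoh.idealDepth (maximalIdeal A) M)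
  obtain ⟨f, hf⟩ := hk _ (Ideal.pow_mem_pow hx (k + 1) |> fun h => Ideal.pow_le_pow_right (Nat.le_succ k) h)
  obtain ⟨m, rfl⟩ := exists_eq_smul_of_depth_two hd
    (Ideal.pow_mem_of_mem _ hx (k + 1) k.succ_pos) (hreg.pow (k + 1)) (k := k) fun b hb => by
      obtain ⟨v, hv⟩ := hk b hb
      exact ⟨v, hinj (by simp only [map_smul]; rw [hf, hv]; exact smul_comm b (x ^ (k + 1)) w)⟩
  refine ⟨m, (sub_eq_zero.1 (hN k (φ m - w) fun b hb => ?_))⟩
  obtain ⟨v, hv⟩ := hk b hb
  have : v = b • m := hreg.pow (k + 1) (hinj (by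
    simp only [map_smul] at hf ⊢
    rw [hv, smul_comm (x ^ (k + 1)) b w, ← hf, smul_comm]))
  rw [smul_sub, ← map_smul, ← this, hv, sub_self]

/-- A reflexive finite module over a local domain of depth at least two has depth at least two. -/
theorem two_le_depth_of_isReflexive [IsDomain A] {M : Type u} [AddCommGroup M] [Module A M]
    [Module.Finite A M] [Module.IsReflexive A M] (hA : 2 ≤ LocCoh.depth A A) : 2 ≤ LocCoh.depth A M := by
  rcases subsingleton_or_nontrivial M with hM | hM
  · exact (Depth.depth_eq_top_of_subsingleton (R := A) (M := M)).ge.trans' le_top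
  obtain ⟨rs, hlen, hmem, hreg⟩ := (Depth.le_idealDepth_iff_exists (maximalIdeal A)
    (Depth.smul_top_ne_top (maximalIdeal.isMaximal A).ne_top) 2).1 hA
  obtain ⟨x, y, rfl⟩ := List.length_eq_two.1 hlen
  rw [isWeaklyRegular_cons_iff, isWeaklyRegular_singleton_iff] at hreg
  have hxM : IsSMulRegular M x := by
    refine isSMulRegular_iff_right_eq_zero_of_smul.2 fun v hv => ?_
    refine (Module.bijective_dual_eval A M).1 (LinearMap.ext fun φ => ?_)
    rw [Module.Dual.eval_apply, map_zero, LinearMap.zero_apply]
    exact hreg.1.right_eq_zero_of_smul (by rw [← map_smul, hv, map_zero])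
  refine (Depth.le_idealDepth_iff_exists (maximalIdeal A)
    (Depth.smul_top_ne_top (maximalIdeal.isMaximal A).ne_top) 2).2 ⟨[x, y], rfl, hmem, ?_⟩
  rw [isWeaklyRegular_cons_iff, isWeaklyRegular_singleton_iff]
  refine ⟨hxM, isSMulRegular_iff_right_eq_zero_of_smul.2 fun v hv => ?_⟩
  obtain ⟨v, rfl⟩ := Submodule.Quotient.mk_surjective _ v
  rw [← Submodule.Quotient.mk_smul, Submodule.Quotient.mk_eq_zero, Submodule.mem_smul_pointwise_iff_exists] at hv
  obtain ⟨w, -, hw⟩ := hv
  rw [Submodule.Quotient.mk_eq_zero, Submodule.mem_smul_pointwise_iff_exists]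
  have hdvd : ∀ φ : Module.Dual A M, ∃ c, x * c = φ v := fun φ => by
    have h1 : y • (Submodule.Quotient.mk (φ v) : QuotSMulTop x A) = 0 := by
      rw [← Submodule.Quotient.mk_smul, Submodule.Quotient.mk_eq_zero, Submodule.mem_smul_pointwise_iff_exists]
      exact ⟨φ w, trivial, by rw [← map_smul, hw, map_smul]⟩
    have h2 := hreg.2.right_eq_zero_of_smul h1
    rw [Submodule.Quotient.mk_eq_zero, Submodule.mem_smul_pointwise_iff_exists] at h2
    obtain ⟨c, -, hc⟩ := h2
    exact ⟨c, hc⟩
  choose c hc using hdvd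
  let θ : Module.Dual A (Module.Dual A M) :=
    { toFun := c
      map_add' := fun φ ψ => hreg.1 (by
        simp only [smul_eq_mul, mul_add, hc]; rfl)
      map_smul' := fun s φ => hreg.1 (by
        simp only [RingHom.id_apply, smul_eq_mul]
        rw [mul_left_comm, hc, hc]; rfl) }
  obtain ⟨m, hm⟩ := (Module.bijective_dual_eval A M).2 θ
  refine ⟨m, trivial, (Module.bijective_dual_eval A M).1 (LinearMap.ext fun φ => ?_)⟩
  rw [Module.Dual.eval_apply, Module.Dual.eval_apply, map_smul, smul_eq_mul, ← hc φ,
    show φ m = c φ from LinearMap.congr_fun hm φ]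

/-- A regular local ring of dimension at most one is a principal ideal ring. -/
theorem isPrincipalIdealRing_of_isRegularLocalRing [IsRegularLocalRing A] (hd : ringKrullDim A ≤ 1) :
    IsPrincipalIdealRing A := by
  have := GrothLib.CMFree.isDomain_of_isRegularLocalRing A
  refine ((tfae_of_isNoetherianRing_of_isLocalRing_of_isDomain A).out 4 0).1 ?_
  rw [← IsRegularLocalRing.spanFinrank_maximalIdeal] at hd
  have h1 : (maximalIdeal A).spanFinrank ≤ 1 := by exact_mod_cast hd
  rcases Nat.le_one_iff_eq_zero_or_eq_one.1 h1 with h | h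
  · rw [(Submodule.spanFinrank_eq_zero_iff_eq_bot (IsNoetherian.noetherian _)).1 h]
    infer_instance
  · exact ((Submodule.spanFinrank_eq_one_iff _).1 h).1

/-- A finite torsion-free module over a regular local ring of dimension at most one is free. -/
theorem free_of_isTorsionFree_dim_one [IsRegularLocalRing A] (hd : ringKrullDim A ≤ 1) (M : Type u)
    [AddCommGroup M] [Module A M] [Module.Finite A M] [Module.IsTorsionFree A M] : Module.Free A M := by
  have := GrothLib.CMFree.isDomain_of_isRegularLocalRing A
  have := isPrincipalIdealRing_of_isRegularLocalRing hd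
  exact Module.free_of_finite_type_torsion_free'

/-- A finite reflexive module over a regular local ring of dimension at most two is free. -/
theorem free_of_isReflexive_dim_two [IsRegularLocalRing A] (hd : ringKrullDim A ≤ 2) (M : Type u)
    [AddCommGroup M] [Module A M] [Module.Finite A M] [Module.IsReflexive A M] : Module.Free A M := by
  have := GrothLib.CMFree.isDomain_of_isRegularLocalRing A
  have : Module.IsTorsionFree A M := .of_smul_eq_zero fun a v h => or_iff_not_imp_left.2 fun ha => by
    refine (Module.bijective_dual_eval A M).1 (LinearMap.ext fun φ => ?_)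
    have := congrArg φ h
    rw [map_smul, map_zero, smul_eq_mul, mul_eq_zero] at this
    rw [Module.Dual.eval_apply, map_zero, LinearMap.zero_apply]
    exact this.resolve_left ha
  by_cases hfield : maximalIdeal A = ⊥
  · have : IsField A := IsLocalRing.isField_iff_maximalIdeal_eq.2 hfield
    exact free_of_isTorsionFree_dim_one ((ringKrullDim_eq_zero_of_isField this).le.trans zero_le_one) M
  obtain ⟨x, hx, hx2⟩ : ∃ x ∈ maximalIdeal A, x ∉ maximalIdeal A ^ 2 := by
    by_contra h
    push Not at h
    replace h : maximalIdeal A ≤ maximalIdeal A • maximalIdeal A := fun y hy => by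
      rw [smul_eq_mul, ← sq]; exact h y hy
    exact hfield (Submodule.eq_bot_of_le_smul_of_le_jacobson_bot _ _ (IsNoetherian.noetherian _) h
      (maximalIdeal_le_jacobson _))
  obtain ⟨hR', hdim, -⟩ := GrothLib.RegLoc.quotient_isRegularLocalRing hx hx2
  let R' := A ⧸ Ideal.span {x}
  have := GrothLib.CMFree.isDomain_of_isRegularLocalRing R'
  have hx0 : x ≠ 0 := fun e => hx2 (e ▸ Submodule.zero_mem _)
  have hd' : ringKrullDim R' ≤ 1 := by
    rw [← hdim] at hd
    exact (ENat.WithBot.add_le_add_one_right_iff).1 (hd.trans_eq one_add_one_eq_two.symm)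
  let N := QuotSMulTop x M
  have : Module.Finite R' N := Module.Finite.of_restrictScalars_finite A R' N
  have hxp : Prime x :=
    (Ideal.span_singleton_prime hx0).1 ((Ideal.Quotient.isDomain_iff_prime _).1 inferInstance)
  have : Module.IsTorsionFree R' N := .of_smul_eq_zero fun c v h => or_iff_not_imp_left.2 fun hc => by
    obtain ⟨c, rfl⟩ := Ideal.Quotient.mk_surjective c
    obtain ⟨v, rfl⟩ := Submodule.Quotient.mk_surjective _ v
    replace h : (Submodule.Quotient.mk (c • v) : N) = 0 := h
    rw [Submodule.Quotient.mk_eq_zero, Submodule.mem_smul_pointwise_iff_exists] at h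
    obtain ⟨w, -, hw⟩ := h
    rw [Submodule.Quotient.mk_eq_zero, Submodule.mem_smul_pointwise_iff_exists]
    have hdvd : ∀ φ : Module.Dual A M, ∃ e, x * e = φ v := fun φ => by
      have h1 : x ∣ c * φ v := ⟨φ w, by rw [← smul_eq_mul, ← map_smul, ← hw, map_smul, smul_eq_mul]⟩
      rcases hxp.dvd_or_dvd h1 with h2 | h2
      · exact absurd (Ideal.Quotient.eq_zero_iff_mem.2 (Ideal.mem_span_singleton.2 h2)) hc
      · obtain ⟨e, he⟩ := h2
        exact ⟨e, he.symm⟩
    choose e he using hdvd
    let θ : Module.Dual A (Module.Dual A M) :=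
      { toFun := e
        map_add' := fun φ ψ => mul_left_cancel₀ hx0 (by rw [mul_add, he, he, he]; rfl)
        map_smul' := fun r φ => mul_left_cancel₀ hx0 (by
          rw [RingHom.id_apply, smul_eq_mul, mul_left_comm, he, he]; rfl) }
    obtain ⟨m, hm⟩ := (Module.bijective_dual_eval A M).2 θ
    refine ⟨m, trivial, (Module.bijective_dual_eval A M).1 (LinearMap.ext fun φ => ?_)⟩
    rw [Module.Dual.eval_apply, Module.Dual.eval_apply, map_smul, smul_eq_mul, ← he φ,
      show φ m = e φ from LinearMap.congr_fun hm φ]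
  have : Module.FinitePresentation A M := Module.finitePresentation_of_finite A M
  exact (Module.free_quotSMulTop_iff_free A M (maximalIdeal_le_jacobson _ hx)
    (smul_right_injective M hx0)).1 (free_of_isTorsionFree_dim_one (A := R') hd' N)

end GrothLib.Ref1
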