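import Groth.Agent.Lib.Ref1.Bidual
import Groth.Agent.Lib.Ref1.DepthTwo
import Groth.Agent.Lib.Ref1.Divisor
import Groth.Agent.Lib.NormalSerre.Serre
import Groth.Agent.Lib.TorsionFree.Basic
import Groth.Agent.Lib.CurvePoints.Basic

/-!
# Extension of sections across depth two and the characterisation of reflexive modules
-/

set_option autoImplicit false

universe u

open CategoryTheory Opposite AlgebraicGeometry TopologicalSpace IsLocalRing

namespace GrothLib.Ref1

variable {X : Scheme.{u}}

theorem two_le_of_not_le_one {d : WithBot ℕ∞} (h : ¬ d ≤ 1) : (2 : WithBot ℕ∞) ≤ d := by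
  obtain ⟨e, rfl⟩ : ∃ e : ℕ∞, (e : WithBot ℕ∞) = d := WithBot.ne_bot_iff_exists.1 fun hd => h (hd ▸ bot_le)
  have h1 : ¬ e ≤ 1 := fun h' => h (by exact_mod_cast h')
  have h2 : (2 : ℕ∞) ≤ e := one_add_one_eq_two (R := ℕ∞) ▸ Order.add_one_le_of_lt (not_le.1 h1)
  exact WithBot.coe_le_coe.2 h2

theorem not_le_one_of_two_le {d : WithBot ℕ∞} (h : (2 : WithBot ℕ∞) ≤ d) : ¬ d ≤ 1 := fun h' => by
  have : ((2 : ℕ∞) : WithBot ℕ∞) ≤ ((1 : ℕ∞) : WithBot ℕ∞) := h.trans h'
  exact absurd (WithBot.coe_le_coe.1 this) (by decide)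

theorem ringKrullDim_stalk_le_topologicalKrullDim (x : X) :
    ringKrullDim (X.presheaf.stalk x) ≤ topologicalKrullDim X := by
  rw [ringKrullDim_stalk_eq_coheight, ← CurvePoints.krullDim_points_eq]
  exact Order.coheight_le_krullDim x

section Normal

variable [IsLocallyNoetherian X] (hX : Pi1.IsNormalScheme X)
include hX

theorem height_maximalIdeal_eq (x : X) :
    ((maximalIdeal (X.presheaf.stalk x)).height : WithBot ℕ∞) = ringKrullDim (X.presheaf.stalk x) :=
  IsLocalRing.maximalIdeal_height_eq_ringKrullDim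

theorem isRegularLocalRing_of_dim_le_one {x : X} (hd : ringKrullDim (X.presheaf.stalk x) ≤ 1) :
    IsRegularLocalRing (X.presheaf.stalk x) := by
  have : IsDomain (X.presheaf.stalk x) := (hX x).1
  have : IsIntegrallyClosed (X.presheaf.stalk x) := (hX x).2
  refine NormalSerre.isRegularLocalRing_of_isIntegrallyClosed ?_
  rw [← height_maximalIdeal_eq hX x] at hd
  exact WithBot.coe_le_coe.1 hd

theorem two_le_depth_self {x : X} (hd : (2 : WithBot ℕ∞) ≤ ringKrullDim (X.presheaf.stalk x)) :
    2 ≤ LocCoh.depth (X.presheaf.stalk x) (X.presheaf.stalk x) := by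
  have : IsDomain (X.presheaf.stalk x) := (hX x).1
  have : IsIntegrallyClosed (X.presheaf.stalk x) := (hX x).2
  rw [← height_maximalIdeal_eq hX x] at hd
  have h1 : (1 : ℕ∞) < (maximalIdeal (X.presheaf.stalk x)).height :=
    lt_of_lt_of_le (by decide : (1 : ℕ∞) < 2) (WithBot.coe_le_coe.1 hd)
  obtain ⟨a, b, ha, hb, hreg⟩ := NormalSerre.exists_pair_of_isIntegrallyClosed h1
  exact (Depth.le_idealDepth_iff_exists (maximalIdeal (X.presheaf.stalk x))
    (Depth.smul_top_ne_top (maximalIdeal.isMaximal _).ne_top) 2).2 ⟨[a, b], rfl, fun r hr => by rcases List.mem_pair.1 hr with rfl | rfl <;> assumption, hreg⟩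

theorem free_of_dim_le_one {F : X.Modules} (hF : HomSh.HasRel F) {x : X}
    (hd : ringKrullDim (X.presheaf.stalk x) ≤ 1)
    [Module.IsTorsionFree (X.presheaf.stalk x) (F.presheaf.stalk x)] :
    Module.Free (X.presheaf.stalk x) (F.presheaf.stalk x) := by
  have := isRegularLocalRing_of_dim_le_one hX hd
  have := hF.span_stalk x
  exact free_of_isTorsionFree_dim_one hd _

end Normal

variable [IsIntegral X] {F : X.Modules}

/-- An element of the generic stalk lying in all stalks over `W` is a section over `W`. -/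
theorem exists_section_of_forall_sp {W : X.Opens} (hinj : ∀ y ∈ W, Function.Injective (sp F (hη y)))
    (v : F.presheaf.stalk (genericPoint X)) (hv : ∀ y ∈ W, ∃ w, sp F (hη y) w = v) :
    ∃ t : Γ(F, W), ∀ (y : X) (hy : y ∈ W), sp F (hη y) (F.presheaf.germ W y hy t) = v := by
  have hloc : ∀ y : W, ∃ (T : X.Opens) (j : T ⟶ W) (_ : y.1 ∈ T) (s : Γ(F, T)),
      ∀ (z : X) (hz : z ∈ T), sp F (hη z) (F.presheaf.germ T z hz s) = v := by
    intro y
    obtain ⟨w, hw⟩ := hv y.1 y.2
    obtain ⟨U, hU, s, rfl⟩ := TopCat.Presheaf.exists_germ_eq F.presheaf w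
    refine ⟨U ⊓ W, homOfLE inf_le_right, ⟨hU, y.2⟩, F.presheaf.map (homOfLE inf_le_left).op s, fun z hz => ?_⟩
    rw [sp_germ] at hw
    rw [TopCat.Presheaf.germ_res_apply, sp_germ]
    exact hw
  choose T j hyT s hs using hloc
  have hcov : W ≤ iSup T := fun y hy => Opens.mem_iSup.2 ⟨⟨y, hy⟩, hyT ⟨y, hy⟩⟩
  obtain ⟨t, ht, -⟩ := TopCat.Sheaf.existsUnique_gluing' (C := Ab.{u}) (X := X.carrier) ⟨F.presheaf, F.isSheaf⟩
    T W j hcov s (fun a b => by
      refine TopCat.Presheaf.section_ext (C := Ab.{u}) (X := X.carrier) ⟨F.presheaf, F.isSheaf⟩ _ _ _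
        fun z hz => hinj z ((j a).le hz.1) ?_
      change sp F (hη z) (F.presheaf.germ _ z hz (F.presheaf.map _ (s a))) =
        sp F (hη z) (F.presheaf.germ _ z hz (F.presheaf.map _ (s b)))
      rw [TopCat.Presheaf.germ_res_apply, TopCat.Presheaf.germ_res_apply, hs, hs])
  let t' : Γ(F, W) := t
  refine ⟨t', fun y hy => ?_⟩
  have := congrArg (F.presheaf.germ (T ⟨y, hy⟩) y (hyT ⟨y, hy⟩)) (ht ⟨y, hy⟩)
  erw [TopCat.Presheaf.germ_res_apply] at this
  rw [this, hs]

/-- Sections are determined at the generic point. -/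
theorem section_ext_generic {W : X.Opens} (hinj : ∀ y ∈ W, Function.Injective (sp F (hη y))) {s t : Γ(F, W)}
    (h : ∀ (y : X) (hy : y ∈ W), sp F (hη y) (F.presheaf.germ W y hy s) = sp F (hη y) (F.presheaf.germ W y hy t)) :
    s = t :=
  TopCat.Presheaf.section_ext (C := Ab.{u}) (X := X.carrier) ⟨F.presheaf, F.isSheaf⟩ W _ _
    fun y hy => hinj y hy (h y hy)

/-- Injective specialisations mean torsion free stalks. -/
theorem isTorsionFree_of_sp_injective {x : X} (h : Function.Injective (sp F (hη x))) :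
    Module.IsTorsionFree (X.presheaf.stalk x) (F.presheaf.stalk x) :=
  .of_smul_eq_zero fun a v hav => or_iff_not_imp_left.2 fun ha => h <| by
    rw [map_zero]
    refine (isUnit_spR (x := x) ha).smul_left_cancel.1 ?_
    rw [← sp_smul, hav, map_zero, smul_zero]

variable [IsLocallyNoetherian X] [F.IsQuasicoherent]

/-- In depth two the image in the generic stalk is detected at the generisations. -/
theorem exists_sp_eq_of_generisations (hF : HomSh.HasRel F) {x : X}
    (hinj : Function.Injective (sp F (hη x))) (hdep : 2 ≤ LocCoh.depth (X.presheaf.stalk x) (F.presheaf.stalk x))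
    (v : F.presheaf.stalk (genericPoint X))
    (hgen : ∀ y : X, y ⤳ x → ringKrullDim (X.presheaf.stalk y) < ringKrullDim (X.presheaf.stalk x) →
      ∃ w, sp F (hη y) w = v) : ∃ w, sp F (hη x) w = v := by
  have := hF.span_stalk x
  have := isTorsionFree_of_sp_injective hinj
  obtain ⟨a, u, hau, hau'⟩ := exists_sp_smul F (hη x) v
  have ha0 := ne_zero_of_isUnit_spR _ hau
  suffices h : ∃ m, u = a • m by
    obtain ⟨m, rfl⟩ := h
    rw [sp_smul] at hau'
    exact ⟨m, (hau.smul_left_cancel.1 hau').symm⟩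
  by_cases hau2 : IsUnit a
  · obtain ⟨a, rfl⟩ := hau2
    exact ⟨((a⁻¹ : _ˣ) : X.presheaf.stalk x) • u, by rw [← mul_smul, Units.mul_inv, one_smul]⟩
  let J : Ideal (X.presheaf.stalk x) :=
    (LinearMap.range (LinearMap.lsmul (X.presheaf.stalk x) (F.presheaf.stalk x) a)).comap
      (LinearMap.toSpanSingleton (X.presheaf.stalk x) (F.presheaf.stalk x) u)
  have hJ : ∀ p : Ideal (X.presheaf.stalk x), p.IsPrime → p ≠ maximalIdeal _ → ¬ J ≤ p := by
    intro p hp hne hle
    obtain ⟨y, h, hy, hunit⟩ := exists_point_of_prime x p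
    have hlt : p < maximalIdeal _ := lt_of_le_of_ne (le_maximalIdeal hp.ne_top) hne
    have hdim : ringKrullDim (X.presheaf.stalk y) < ringKrullDim (X.presheaf.stalk x) := by
      rw [hy, ← IsLocalRing.maximalIdeal_height_eq_ringKrullDim]
      exact WithBot.coe_lt_coe.2 (Ideal.height_strict_mono_of_isPrime_of_isPrime hlt)
    obtain ⟨w, hw⟩ := hgen y h hdim
    obtain ⟨r, f, hr, hrf⟩ := exists_sp_smul F h w
    have e : spR (hη x) r • v = sp F (hη x) f := by
      have := congrArg (sp F (hη y)) hrf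
      rwa [sp_smul, sp_sp, spR_spR, hw] at this
    refine (hunit r).1 hr (hle ⟨f, hinj ?_⟩)
    change sp F (hη x) (a • f) = sp F (hη x) (r • u)
    rw [sp_smul, sp_smul, ← e, ← hau', smul_comm]
  obtain ⟨k, hk⟩ := exists_pow_le_of_forall_prime hJ
  exact exists_eq_smul_of_depth_two hdep hau2 (smul_right_injective _ ha0) (k := k) fun b hb => by
    obtain ⟨m, hm⟩ := hk hb
    exact ⟨m, hm.symm⟩

/-- Sections extend across points of depth at least two. -/
theorem exists_extend (hF : HomSh.HasRel F) {W V : X.Opens} (hVW : V ≤ W)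
    (hinj : ∀ y ∈ W, Function.Injective (sp F (hη y)))
    (hdep : ∀ y ∈ W, y ∉ V → 2 ≤ LocCoh.depth (X.presheaf.stalk y) (F.presheaf.stalk y)) (s : Γ(F, V)) :
    ∃ t : Γ(F, W), F.presheaf.map (homOfLE hVW).op t = s := by
  obtain ⟨v, hv⟩ : ∃ v, ∀ (y : X) (hy : y ∈ V), sp F (hη y) (F.presheaf.germ V y hy s) = v := by
    by_cases hη' : genericPoint X ∈ V
    · exact ⟨F.presheaf.germ V _ hη' s, fun y hy => sp_germ _ (hη y) hy s⟩
    · exact ⟨0, fun y hy => absurd ((hη y).mem_open V.2 hy) hη'⟩
  have key : ∀ (n : ℕ) (x : X), ringKrullDim (X.presheaf.stalk x) = n → x ∈ W → ∃ w, sp F (hη x) w = v := by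
    intro n
    induction n using Nat.strong_induction_on with
    | _ n ih =>
      intro x hx hxW
      by_cases hxV : x ∈ V
      · exact ⟨_, hv x hxV⟩
      refine exists_sp_eq_of_generisations hF (hinj x hxW) (hdep x hxW hxV) v fun y hy hlt => ?_
      obtain ⟨m, hm, -⟩ := GrothLib.RegLoc.exists_dim_eq (R := X.presheaf.stalk y)
      rw [hm, hx] at hlt
      exact ih m (by exact_mod_cast hlt) y hm (hy.mem_open W.2 hxW)
  obtain ⟨t, ht⟩ := exists_section_of_forall_sp hinj v fun y hy => by
    obtain ⟨m, hm, -⟩ := GrothLib.RegLoc.exists_dim_eq (R := X.presheaf.stalk y)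
    exact key m y hm hy
  refine ⟨t, section_ext_generic (fun y hy => hinj y (hVW hy)) fun y hy => ?_⟩
  rw [TopCat.Presheaf.germ_res_apply, ht, hv]

/-- On a normal scheme sections of a module with reflexive stalks extend across codimension two, uniquely. -/
theorem bijective_res_of_isReflexiveAt (hX : Pi1.IsNormalScheme X) (hF : HomSh.HasRel F) {W V : X.Opens}
    (hVW : V ≤ W) (hR : ∀ y ∈ W, RefHull.IsReflexiveAt F y)
    (hcodim : ∀ y ∈ W, y ∉ V → (2 : WithBot ℕ∞) ≤ ringKrullDim (X.presheaf.stalk y)) :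
    Function.Bijective (F.presheaf.map (homOfLE hVW).op) := by
  have hinj : ∀ y ∈ W, Function.Injective (sp F (hη y)) := fun y hy => by
    have : Module.IsReflexive (X.presheaf.stalk y) (F.presheaf.stalk y) := hR y hy
    have := isTorsionFree_of_isReflexive (X.presheaf.stalk y) (F.presheaf.stalk y)
    exact sp_injective F y
  refine ⟨fun s t hst => ?_, fun s => ?_⟩
  · refine section_ext_generic hinj fun y hy => ?_
    by_cases hη' : genericPoint X ∈ V
    · have := congrArg (F.presheaf.germ V _ hη') hst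
      rw [TopCat.Presheaf.germ_res_apply, TopCat.Presheaf.germ_res_apply] at this
      rw [sp_germ, sp_germ]
      exact this
    · have h0 := hcodim (genericPoint X) ((hη y).mem_open W.2 hy) hη'
      rw [ringKrullDim_stalk_eq_coheight, coheight_genericPoint] at h0
      exact absurd (WithBot.coe_le_coe.1 h0) (by decide)
  · refine exists_extend hF hVW hinj (fun y hy hyV => ?_) s
    have : Module.IsReflexive (X.presheaf.stalk y) (F.presheaf.stalk y) := hR y hy
    have := hF.span_stalk y
    exact two_le_depth_of_isReflexive (two_le_depth_self hX (hcodim y hy hyV))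

omit [F.IsQuasicoherent] in
theorem stalkMap_bidual_injective (hF : HomSh.HasRel F) (x : X)
    [Module.IsTorsionFree (X.presheaf.stalk x) (F.presheaf.stalk x)] :
    Function.Injective (RefHull.stalkMapₗ (RefHull.bidualMap F) x) := by
  refine (injective_iff_map_eq_zero _).2 fun v hv => ?_
  have := hF.span_stalk x
  have h0 : RefHull.bidualAt F x v = 0 := by
    rw [← HomSh.evalStalk_bidual]
    have hlin : RefHull.stalkMapₗ (RefHull.bidualMap F) x v = QCoh.stalkLin (RefHull.bidualMap F) x v := by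
      obtain ⟨U, hU, m, rfl⟩ := TopCat.Presheaf.exists_germ_eq F.presheaf v
      rw [RefHull.stalkMapₗ_germ, QCoh.stalkLin_germ]
    rw [← hlin, hv, map_zero]
  refine (GrothLib.dual_eval_injective_iff_isTorsionFree (X.presheaf.stalk x) (F.presheaf.stalk x)).2
    inferInstance ?_
  rw [map_zero]
  refine LinearMap.ext fun φ => (HomSh.unitStalk x).injective ?_
  obtain ⟨θ, hθ⟩ := (hF.evalStalk_bijective (Coh.structureModule X) x).2
    ((HomSh.unitStalk x).toLinearMap ∘ₗ φ)
  have := LinearMap.congr_fun h0 θ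
  rw [RefHull.bidualAt_apply, hθ] at this
  simp only [LinearMap.zero_apply, LinearMap.comp_apply, LinearEquiv.coe_coe] at this
  rw [LinearMap.zero_apply, map_zero, Module.Dual.eval_apply]
  exact this

/-- A torsion free module, reflexive off codimension two and with sections extending from there, is
reflexive. -/
theorem isReflexiveAt_of_extend (hF : Coh.IsCoh F) {U : X.Opens}
    (htf : ∀ y : X, Module.IsTorsionFree (X.presheaf.stalk y) (F.presheaf.stalk y))
    (hU : ∀ y : X, y ∉ U → (2 : WithBot ℕ∞) ≤ ringKrullDim (X.presheaf.stalk y))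
    (hR : ∀ y ∈ U, RefHull.IsReflexiveAt F y)
    (hext : ∀ W : X.Opens, Function.Surjective (F.presheaf.map (homOfLE (inf_le_left : W ⊓ U ≤ W)).op))
    (x : X) : RefHull.IsReflexiveAt F x := by
  have hrel := HomSh.hasRel_of_isCoh hF
  let φ := RefHull.bidualMap F
  have hlin : ∀ (y : X) v, RefHull.stalkMapₗ φ y v = QCoh.stalkLin φ y v := fun y v => by
    obtain ⟨V, hV, m, rfl⟩ := TopCat.Presheaf.exists_germ_eq F.presheaf v
    rw [RefHull.stalkMapₗ_germ, QCoh.stalkLin_germ]
  rw [← HomSh.bijective_bidual_iff hrel x,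
    show (QCoh.stalkLin φ x : F.presheaf.stalk x → _) = RefHull.stalkMapₗ φ x from funext fun v => (hlin x v).symm]
  have hbij : ∀ y ∈ U, Function.Bijective (RefHull.stalkMapₗ φ y) := fun y hy => by
    rw [show (RefHull.stalkMapₗ φ y : F.presheaf.stalk y → _) = QCoh.stalkLin φ y from funext (hlin y)]
    exact (HomSh.bijective_bidual_iff hrel y).2 (hR y hy)
  refine ⟨stalkMap_bidual_injective hrel x, fun w => ?_⟩
  have hG : Coh.IsCoh (RefHull.ddual F) :=
    HomSh.isCoh_homSh (HomSh.hasRel_dual hrel) (HomSh.isCoh_structureModule X)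
  have := hG.1
  have hGrel := HomSh.hasRel_of_isCoh hG
  have hGR := (HomSh.isReflexive_iff hGrel).1 (HomSh.isReflexive_homSh (HomSh.hasRel_dual hrel)
    (HomSh.isCoh_structureModule X) ((HomSh.isReflexive_iff (HomSh.hasRel_of_isCoh (HomSh.isCoh_structureModule X))).2
      fun y => isReflexiveAt_unit y))
  have hGinj : ∀ y : X, Function.Injective (sp (RefHull.ddual F) (hη y)) := fun y => by
    have : Module.IsReflexive (X.presheaf.stalk y) ((RefHull.ddual F).presheaf.stalk y) := hGR y
    have := isTorsionFree_of_isReflexive (X.presheaf.stalk y) ((RefHull.ddual F).presheaf.stalk y)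
    exact sp_injective _ y
  have hηU : genericPoint X ∈ U := by
    by_contra h
    have h0 := hU _ h
    rw [ringKrullDim_stalk_eq_coheight, coheight_genericPoint] at h0
    exact absurd (WithBot.coe_le_coe.1 h0) (by decide)
  obtain ⟨W, hxW, t, rfl⟩ := TopCat.Presheaf.exists_germ_eq (RefHull.ddual F).presheaf w
  obtain ⟨v, hv⟩ := (hbij _ hηU).2 ((RefHull.ddual F).presheaf.germ W _ ((hη x).mem_open W.2 hxW) t)
  obtain ⟨s, hs⟩ := exists_section_of_forall_sp (F := F) (W := W ⊓ U)
    (fun y _ => have := htf y; sp_injective F y) v fun y hy => by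
      obtain ⟨r, hr⟩ := (hbij y hy.2).2 ((RefHull.ddual F).presheaf.germ W y hy.1 t)
      refine ⟨r, (hbij _ hηU).1 ?_⟩
      rw [hv, stalkMapₗ_sp, hr, sp_germ]
  obtain ⟨s', hs'⟩ := hext W s
  refine ⟨F.presheaf.germ W x hxW s', hGinj x ?_⟩
  rw [← stalkMapₗ_sp, sp_germ, sp_germ]
  have hηWU : genericPoint X ∈ W ⊓ U := ⟨(hη x).mem_open W.2 hxW, hηU⟩
  have h1 := hs (genericPoint X) hηWU
  rw [sp_refl, ← hs', TopCat.Presheaf.germ_res_apply] at h1
  rw [h1, hv]

end GrothLib.Ref1
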