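import Groth.Prelude.Def_Pi1
import Mathlib.AlgebraicGeometry.Noetherian
import Mathlib.AlgebraicGeometry.Properties
import Mathlib.AlgebraicGeometry.Stalk

/-!
# A connected Noetherian scheme with local rings domains is integral
-/

set_option autoImplicit false

universe u

open CategoryTheory AlgebraicGeometry TopologicalSpace

namespace GrothLib.Ref1

variable {X : Scheme.{u}}

theorem isIntegral_of_connected [IsNoetherian X] [ConnectedSpace X]
    (hX : ∀ x : X, IsDomain (X.presheaf.stalk x)) : IsIntegral X := by
  have : IsReduced X := by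
    have : ∀ x : X, _root_.IsReduced (X.presheaf.stalk x) := fun x => by
      have := hX x
      infer_instance
    exact isReduced_of_isReduced_stalk X
  -- two components through a point coincide
  have huniq : ∀ x : X, ∀ Z ∈ irreducibleComponents (X : Type u), x ∈ Z → ∀ W ∈ irreducibleComponents (X : Type u),
      x ∈ W → Z = W := by
    intro x Z hZ hxZ W hW hxW
    obtain ⟨c₁, hc₁⟩ := QuasiSober.sober hZ.1 (isClosed_of_mem_irreducibleComponents Z hZ)
    obtain ⟨c₂, hc₂⟩ := QuasiSober.sober hW.1 (isClosed_of_mem_irreducibleComponents W hW)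
    have := hX x
    let f := X.fromSpecStalk x
    obtain ⟨P, hP⟩ := (Scheme.range_fromSpecStalk (x := x)).ge (hc₁.specializes hxZ)
    obtain ⟨Q, hQ⟩ := (Scheme.range_fromSpecStalk (x := x)).ge (hc₂.specializes hxW)
    let z : PrimeSpectrum (X.presheaf.stalk x) := ⟨⊥, Ideal.isPrime_bot⟩
    have hzP : f z ⤳ c₁ := hP ▸ ((PrimeSpectrum.le_iff_specializes z P).1 bot_le).map f.continuous
    have hzQ : f z ⤳ c₂ := hQ ▸ ((PrimeSpectrum.le_iff_specializes z Q).1 bot_le).map f.continuous
    have e₁ : Z = closure {f z} := hZ.eq_of_le isIrreducible_singleton.closure (by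
      rw [← hc₁.def]; exact hzP.closure_subset)
    have e₂ : W = closure {f z} := hW.eq_of_le isIrreducible_singleton.closure (by
      rw [← hc₂.def]; exact hzQ.closure_subset)
    rw [e₁, e₂]
  have hfin : (irreducibleComponents (X : Type u)).Finite := NoetherianSpace.finite_irreducibleComponents
  obtain ⟨x⟩ := (inferInstance : Nonempty X)
  let Z := irreducibleComponent x
  have hZ : Z ∈ irreducibleComponents (X : Type u) := irreducibleComponent_mem_irreducibleComponents x
  have hcompl : Zᶜ = ⋃₀ (irreducibleComponents (X : Type u) \ {Z}) := by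
    ext y
    constructor
    · intro hy
      exact ⟨irreducibleComponent y, ⟨irreducibleComponent_mem_irreducibleComponents y,
        fun h => hy ((Set.mem_singleton_iff.1 h) ▸ mem_irreducibleComponent)⟩, mem_irreducibleComponent⟩
    · rintro ⟨W, hW, hyW⟩ hyZ
      exact hW.2 (huniq y W hW.1 hyW Z hZ hyZ)
  have hclosed : IsClosed Zᶜ := by
    rw [hcompl, Set.sUnion_eq_biUnion]
    exact (hfin.sdiff).isClosed_biUnion fun W hW => isClosed_of_mem_irreducibleComponents W hW.1
  have huniv : Z = Set.univ :=
    IsClopen.eq_univ ⟨isClosed_irreducibleComponent, isClosed_compl_iff.1 hclosed⟩ ⟨x, mem_irreducibleComponent⟩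
  have : IrreducibleSpace X := irreducibleSpace_def X |>.2 ((show Z = ⊤ from huniv) ▸ hZ.1)
  exact isIntegral_of_irreducibleSpace_of_isReduced X

end GrothLib.Ref1
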