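import Groth.Agent.Lib.Ref1.Divisor
import Groth.Agent.Lib.OX.Exact
import Groth.Prelude.Def_RefPow

/-!
# Reflexive powers of a rank one reflexive module with a section
-/

set_option autoImplicit false

universe u

open CategoryTheory CategoryTheory.Limits Opposite AlgebraicGeometry TopologicalSpace

namespace GrothLib.Ref1

variable {X : Scheme.{u}}

theorem stalkMapₗ_eq_stalkLin {M N : X.Modules} (φ : M ⟶ N) (x : X) :
    RefHull.stalkMapₗ φ x = QCoh.stalkLin φ x := by
  refine LinearMap.ext fun v => ?_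
  obtain ⟨U, hU, m, rfl⟩ := TopCat.Presheaf.exists_germ_eq M.presheaf v
  rw [RefHull.stalkMapₗ_germ, QCoh.stalkLin_germ]

/-- A morphism bijective on the stalks over an open restricts to an isomorphism. -/
theorem isIso_restrict_of_bijective {M N : X.Modules} (φ : M ⟶ N) (U : X.Opens)
    (h : ∀ x ∈ U, Function.Bijective (RefHull.stalkMapₗ φ x)) :
    IsIso ((Scheme.Modules.restrictFunctor U.ι).map φ) := by
  refine (OX.isIso_iff _).2 fun y => (ConcreteCategory.isIso_iff_bijective _).2 ?_
  have hM : IsIso ((TopCat.Presheaf.stalkFunctor Ab (U.ι y)).map ((Scheme.Modules.toPresheaf X).map φ)) :=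
    (ConcreteCategory.isIso_iff_bijective _).2 (h (U.ι y) y.2)
  have : IsIso ((Scheme.Modules.restrictFunctor U.ι ⋙ Scheme.Modules.toPresheaf _ ⋙
      TopCat.Presheaf.stalkFunctor _ y).map φ) :=
    (NatIso.isIso_map_iff (Scheme.Modules.restrictStalkNatIso U.ι y) φ).2 hM
  exact ConcreteCategory.bijective_of_isIso ((Scheme.Modules.restrictFunctor U.ι ⋙ Scheme.Modules.toPresheaf _ ⋙
      TopCat.Presheaf.stalkFunctor _ y).map φ)

/-- The germ of a global section given as a morphism. -/
noncomputable abbrev valGerm {F : X.Modules} (s : Coh.structureModule X ⟶ F) (x : X) : F.presheaf.stalk x :=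
  F.presheaf.germ ⊤ x trivial (SecTwist.val s ⊤)

theorem stalkMapₗ_unit_germ {F : X.Modules} (s : Coh.structureModule X ⟶ F) (x : X) :
    RefHull.stalkMapₗ s x (HomSh.unitStalk x 1) = valGerm s x := by
  change RefHull.stalkMapₗ s x ((1 : X.presheaf.stalk x) • _) = _
  rw [one_smul, RefHull.stalkMapₗ_germ]
  rfl

theorem stalkMapₗ_unitStalk {F : X.Modules} (s : Coh.structureModule X ⟶ F) (x : X) (a : X.presheaf.stalk x) :
    RefHull.stalkMapₗ s x (HomSh.unitStalk x a) = a • valGerm s x := by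
  rw [← stalkMapₗ_unit_germ, ← map_smul (RefHull.stalkMapₗ s x), ← map_smul (HomSh.unitStalk x), smul_eq_mul, mul_one]

theorem bijective_iff_gen {F : X.Modules} (s : Coh.structureModule X ⟶ F) (x : X) :
    Function.Bijective (RefHull.stalkMapₗ s x) ↔ Gen F x (valGerm s x) := by
  have e : (fun a : X.presheaf.stalk x => a • valGerm s x) = RefHull.stalkMapₗ s x ∘ HomSh.unitStalk x :=
    funext fun a => (stalkMapₗ_unitStalk s x a).symm
  rw [Gen, e, (HomSh.unitStalk x).bijective |> fun hb => Function.Bijective.of_comp_iff _ hb]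

theorem valGerm_sp {F : X.Modules} (s : Coh.structureModule X ⟶ F) {x y : X} (h : y ⤳ x) :
    sp F h (valGerm s x) = valGerm s y :=
  sp_germ F h (Opens.mem_top x) _

theorem valGerm_comp {F G : X.Modules} (a : Coh.structureModule X ⟶ F) (b : F ⟶ G) (x : X) :
    valGerm (a ≫ b) x = RefHull.stalkMapₗ b x (valGerm a x) := by
  rw [RefHull.stalkMapₗ_germ]
  rfl

theorem germ_val {F : X.Modules} (s : Coh.structureModule X ⟶ F) (V : X.Opens) (x : X) (hx : x ∈ V) :
    F.presheaf.germ V x hx (SecTwist.val s V) = valGerm s x := by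
  refine Eq.trans ?_ (TopCat.Presheaf.germ_res_apply F.presheaf (homOfLE (le_top : V ≤ ⊤)) x hx (SecTwist.val s ⊤))
  exact congrArg _ (SecTwist.map_val s (homOfLE (le_top : V ≤ ⊤))).symm

variable {F : X.Modules} (s : Coh.structureModule X ⟶ F)

theorem stalkMapₗ_mulBy (n : ℕ) (x : X) (v : (RefPow.refPow F (n + 1)).presheaf.stalk x) :
    RefHull.stalkMapₗ (RefPow.mulBy s (n + 1)) x v =
      RefHull.stalkMapₗ (RefHull.bidualMap (CohB1.tensorMod (RefPow.refPow F (n + 1)) F)) x
        (tmulStalk (RefPow.refPow F (n + 1)) F x v (valGerm s x)) := by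
  obtain ⟨V, hV, m, rfl⟩ := TopCat.Presheaf.exists_germ_eq (RefPow.refPow F (n + 1)).presheaf v
  rw [RefHull.stalkMapₗ_germ, RefPow.mulBy_succ_app, ← germ_val s V x hV, ← germ_tmul, RefHull.stalkMapₗ_germ]
  rfl

theorem sPowGerm_zero (x : X) : RefPow.sPowGerm s 0 x = HomSh.unitStalk x 1 := by
  refine Eq.trans ?_ (one_smul (X.presheaf.stalk x) _).symm
  rfl

theorem sPowGerm_succ (n : ℕ) (x : X) :
    RefPow.sPowGerm s (n + 1) x = RefHull.stalkMapₗ (RefPow.mulBy s n) x (RefPow.sPowGerm s n x) :=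
  valGerm_comp (RefPow.sPow s n) (RefPow.mulBy s n) x

theorem sPowGerm_one (x : X) : RefPow.sPowGerm s 1 x = valGerm s x := by
  change valGerm (RefPow.sPow s 1) x = valGerm s x
  exact congrArg (fun q : Coh.structureModule X ⟶ F => valGerm q x) (RefPow.sPow_one s)

variable [IsLocallyNoetherian X]

theorem hasRel_refPow (hF : HomSh.HasRel F) : ∀ n, HomSh.HasRel (RefPow.refPow F n)
  | 0 => HomSh.hasRel_of_isCoh (HomSh.isCoh_structureModule X)
  | 1 => hF
  | n + 2 => HomSh.hasRel_dual (HomSh.hasRel_dual (hasRel_tensorMod (hasRel_refPow hF (n + 1)) hF))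

/-- Powers of a section at a point where the stalk is free of rank one. -/
theorem exists_gen_sPow (hF : HomSh.HasRel F) {x : X} {e : F.presheaf.stalk x} (he : Gen F x e)
    {φ : X.presheaf.stalk x} (hφ : valGerm s x = φ • e) :
    ∀ n, ∃ g, Gen (RefPow.refPow F n) x g ∧ RefPow.sPowGerm s n x = φ ^ n • g
  | 0 => ⟨HomSh.unitStalk x 1, gen_unitStalk x, by rw [sPowGerm_zero, pow_zero, one_smul]⟩
  | 1 => ⟨e, he, by rw [sPowGerm_one, hφ, pow_one]; rfl⟩
  | n + 2 => by
    obtain ⟨g, hg, hgn⟩ := exists_gen_sPow hF he hφ (n + 1)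
    refine ⟨_, gen_bidual (hasRel_tensorMod (hasRel_refPow hF (n + 1)) hF) (hg.tmulStalk _ F he), ?_⟩
    rw [sPowGerm_succ, stalkMapₗ_mulBy, hgn, hφ]
    simp only [map_smul, LinearMap.smul_apply, ← mul_smul]
    rw [← pow_succ']
    rfl

variable [IsIntegral X]

theorem isRef1_refPow (hF : RefHull.IsRef1 F) : ∀ n, RefHull.IsRef1 (RefPow.refPow F n)
  | 0 => isRef1_structureModule
  | 1 => hF
  | n + 2 => isRef1_refTensor (isRef1_refPow hF (n + 1)) hF

variable (U : X.Opens) (hU : (U : Set X) = RefPow.isoLocus s)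

include hU in
theorem gen_valGerm {x : X} (hx : x ∈ U) : Gen F x (valGerm s x) :=
  (bijective_iff_gen s x).1 (show x ∈ RefPow.isoLocus s from hU ▸ hx)

include hU in
theorem gen_sPowGerm (hF : RefHull.IsRef1 F) (n : ℕ) {x : X} (hx : x ∈ U) :
    Gen (RefPow.refPow F n) x (RefPow.sPowGerm s n x) := by
  obtain ⟨g, hg, h⟩ := exists_gen_sPow s (HomSh.hasRel_of_isCoh hF.1) (gen_valGerm s U hU hx)
    (φ := 1) (one_smul _ _).symm n
  rw [h, one_pow, one_smul]
  exact hg

include hU in
theorem isIso_restrict_sPow (hF : RefHull.IsRef1 F) (n : ℕ) :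
    IsIso ((Scheme.Modules.restrictFunctor U.ι).map (RefPow.sPow s n)) :=
  isIso_restrict_of_bijective _ U fun x hx =>
    (bijective_iff_gen (RefPow.sPow s n) x).2 (gen_sPowGerm s U hU hF n hx)

/-! ### The comparison with `j_* O_U` -/

/-- `j_* (O_X|_U)`. -/
noncomputable abbrev target : X.Modules :=
  (Scheme.Modules.pushforward U.ι).obj ((Coh.structureModule X).restrict U.ι)

/-- The comparison map `F^[n] → j_* O_U`. -/
noncomputable def leg (hF : RefHull.IsRef1 F) (n : ℕ) : RefPow.refPow F n ⟶ target U :=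
  haveI := isIso_restrict_sPow s U hU hF n
  (Scheme.Modules.restrictAdjunction U.ι).unit.app (RefPow.refPow F n) ≫
    (Scheme.Modules.pushforward U.ι).map (inv ((Scheme.Modules.restrictFunctor U.ι).map (RefPow.sPow s n)))

theorem sPow_leg (hF : RefHull.IsRef1 F) (n : ℕ) :
    RefPow.sPow s n ≫ leg s U hU hF n = (Scheme.Modules.restrictAdjunction U.ι).unit.app (Coh.structureModule X) := by
  have := isIso_restrict_sPow s U hU hF n
  rw [leg, ← Category.assoc]
  erw [(Scheme.Modules.restrictAdjunction U.ι).unit.naturality (RefPow.sPow s n)]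
  rw [Category.assoc, Functor.comp_map, ← Functor.map_comp, IsIso.hom_inv_id, CategoryTheory.Functor.map_id]
  exact Category.comp_id _

theorem leg_zero (hF : RefHull.IsRef1 F) :
    leg s U hU hF 0 = (Scheme.Modules.restrictAdjunction U.ι).unit.app (Coh.structureModule X) :=
  (Category.id_comp _).symm.trans (sPow_leg s U hU hF 0)

theorem mulBy_leg (hF : RefHull.IsRef1 F) (n : ℕ) :
    RefPow.mulBy s n ≫ leg s U hU hF (n + 1) = leg s U hU hF n := by
  have := isIso_restrict_sPow s U hU hF n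
  have := isIso_restrict_sPow s U hU hF (n + 1)
  rw [leg, leg, ← Category.assoc]
  erw [(Scheme.Modules.restrictAdjunction U.ι).unit.naturality (RefPow.mulBy s n)]
  rw [Category.assoc, Functor.comp_map, ← Functor.map_comp]
  refine congrArg (fun q => _ ≫ (Scheme.Modules.pushforward U.ι).map q) ?_
  refine (IsIso.comp_inv_eq _).2 ((IsIso.eq_inv_comp _).2 ?_)
  exact ((Scheme.Modules.restrictFunctor U.ι).map_comp _ _).symm

omit [IsLocallyNoetherian X] [IsIntegral X] in
/-- The unit is bijective on stalks over `U`. -/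
theorem unit_stalk_bijective (M : X.Modules) {y : X} (hy : y ∈ U) :
    Function.Bijective (RefHull.stalkMapₗ ((Scheme.Modules.restrictAdjunction U.ι).unit.app M) y) := by
  set ψ := (Scheme.Modules.restrictAdjunction U.ι).unit.app M
  have hbij : ∀ T ≤ U, Function.Bijective (ψ.app T) := by
    intro T hT
    rw [show ψ.app T = M.presheaf.map (homOfLE (U.ι.image_preimage_le T)).op from
      Scheme.Modules.restrictAdjunction_unit_app_app _ M T]
    have key : ∀ (T' : X.Opens) (h : T' ≤ T), T' = T → Function.Bijective (M.presheaf.map (homOfLE h).op) := by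
      rintro _ h rfl
      rw [show (homOfLE h).op = 𝟙 _ from rfl, CategoryTheory.Functor.map_id]
      exact Function.bijective_id
    exact key _ _ (by rw [Scheme.Hom.image_preimage_eq_opensRange_inf, Scheme.Opens.opensRange_ι, inf_eq_right.2 hT])
  refine ⟨(injective_iff_map_eq_zero _).2 fun v hv => ?_, fun v => ?_⟩
  · obtain ⟨T, hT, m, rfl⟩ := TopCat.Presheaf.exists_germ_eq M.presheaf v
    replace hv := (RefHull.stalkMapₗ_germ ψ y hT m).symm.trans hv
    obtain ⟨W, hW, i, i', e⟩ := TopCat.Presheaf.germ_eq _ y hT hT _ 0 (by rw [hv, map_zero])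
    rw [map_zero] at e
    let k : W ⊓ U ⟶ T := homOfLE inf_le_left ≫ i
    have e2 : ψ.app (W ⊓ U) (M.presheaf.map k.op m) = 0 := by
      refine (congr($(ψ.mapPresheaf.naturality k.op) m)).trans ?_
      rw [ConcreteCategory.comp_apply, op_comp, Functor.map_comp, ConcreteCategory.comp_apply]
      exact (congrArg _ e).trans (map_zero _)
    rw [← TopCat.Presheaf.germ_res_apply M.presheaf k y ⟨hW, hy⟩,
      (hbij _ inf_le_right).1 (e2.trans (map_zero _).symm), map_zero]
  · obtain ⟨T, hT, m, rfl⟩ := TopCat.Presheaf.exists_germ_eq _ v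
    obtain ⟨a, ha⟩ := (hbij (T ⊓ U) inf_le_right).2
      (((Scheme.Modules.pushforward U.ι).obj (M.restrict U.ι)).presheaf.map (homOfLE inf_le_left).op m)
    refine ⟨M.presheaf.germ (T ⊓ U) y ⟨hT, hy⟩ a, ?_⟩
    refine (RefHull.stalkMapₗ_germ ψ y (U := T ⊓ U) ⟨hT, hy⟩ a).trans ?_
    rw [ha]
    exact TopCat.Presheaf.germ_res_apply _ _ _ _ _

omit [IsLocallyNoetherian X] [IsIntegral X] in
/-- Sections of a pushforward from `U` are determined on `U`. -/
theorem pushforward_res_injective (L : (U : Scheme.{u}).Modules) (W : X.Opens) :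
    Function.Injective (((Scheme.Modules.pushforward U.ι).obj L).presheaf.map (homOfLE (inf_le_left : W ⊓ U ≤ W)).op) := by
  have key : ∀ (T T' : (U : Scheme.{u}).Opens) (i : T' ⟶ T), T' = T → Function.Injective (L.presheaf.map i.op) := by
    rintro T _ i rfl
    rw [show i.op = 𝟙 _ from rfl, CategoryTheory.Functor.map_id]
    exact fun a b h => h
  exact key _ _ ((Opens.map U.ι.base).map (homOfLE (inf_le_left : W ⊓ U ≤ W)))
    (Opens.ext (Set.ext fun z => ⟨fun hz => hz.1, fun hz => ⟨hz, z.2⟩⟩))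

/-- Germs of `j_* O_U` are determined at the generic point. -/
theorem target_sp_injective (hX : Pi1.IsNormalScheme X) (x : X) : Function.Injective (sp (target U) (hη x)) := by
  rw [injective_iff_map_eq_zero]
  intro v hv
  obtain ⟨W, hW, h, rfl⟩ := TopCat.Presheaf.exists_germ_eq (target U).presheaf v
  rw [sp_germ] at hv
  suffices h = 0 by rw [this, map_zero]
  refine pushforward_res_injective U _ W (Eq.trans ?_ (map_zero _).symm)
  refine QCoh.section_eq_zero_of_germ (target U) _ fun y hy => ?_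
  rw [TopCat.Presheaf.germ_res_apply]
  obtain ⟨a, ha⟩ := (unit_stalk_bijective U (Coh.structureModule X) hy.2).2 ((target U).presheaf.germ W y hy.1 h)
  have h1 := congrArg (sp (target U) (hη y)) ha
  rw [← stalkMapₗ_sp, sp_germ, hv] at h1
  have hηU : genericPoint X ∈ U := (hη y).mem_open U.2 hy.2
  have h2 := (unit_stalk_bijective U (Coh.structureModule X) hηU).1 (h1.trans (map_zero _).symm)
  rw [← map_zero (sp (Coh.structureModule X) (hη y))] at h2
  rw [← ha, injective_sp_of_isRef1 hX isRef1_structureModule y h2, map_zero]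

omit [IsLocallyNoetherian X] [IsIntegral X] in
/-- If `U` is empty, `j_* O_U` vanishes. -/
theorem target_eq_zero (hU0 : ∀ y, y ∉ U) (x : X) (v : (target U).presheaf.stalk x) : v = 0 := by
  obtain ⟨W, hW, h, rfl⟩ := TopCat.Presheaf.exists_germ_eq (target U).presheaf v
  suffices h = 0 by rw [this, map_zero]
  exact pushforward_res_injective U _ W
    ((QCoh.section_eq_zero_of_germ (target U) _ fun y (hy : y ∈ W ⊓ U) => absurd hy.2 (hU0 y)).trans (map_zero _).symm)

omit [IsLocallyNoetherian X] [IsIntegral X] in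
/-- Colimit cocones of sequences of modules, tested on germs. -/
theorem nonempty_isColimit_of_stalk {K : ℕ ⥤ X.Modules} (c : Cocone K)
    (hs : ∀ (x : X) (v : c.pt.presheaf.stalk x), ∃ n w, RefHull.stalkMapₗ (c.ι.app n) x w = v)
    (hi : ∀ (x : X) (n : ℕ) (w : (K.obj n).presheaf.stalk x), RefHull.stalkMapₗ (c.ι.app n) x w = 0 →
      ∃ (m : ℕ) (f : n ⟶ m), RefHull.stalkMapₗ (K.map f) x w = 0) : Nonempty (IsColimit c) := by
  let φ : colimit K ⟶ c.pt := colimit.desc K c
  have hφ : ∀ n x w, RefHull.stalkMapₗ φ x (RefHull.stalkMapₗ (colimit.ι K n) x w) = RefHull.stalkMapₗ (c.ι.app n) x w :=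
    fun n x w => by rw [← LinearMap.comp_apply, ← stalkMapₗ_comp, colimit.ι_desc]
  have : IsIso φ := (OX.isIso_iff φ).2 fun x => (ConcreteCategory.isIso_iff_bijective _).2 <| by
    change Function.Bijective (QCoh.stalkLin φ x)
    rw [← stalkMapₗ_eq_stalkLin]
    refine ⟨(injective_iff_map_eq_zero _).2 fun v hv => ?_, fun v => ?_⟩
    · obtain ⟨n, w, hw⟩ := Concrete.isColimit_exists_rep (K ⋙ OX.stalk x)
        (isColimitOfPreserves (OX.stalk x) (colimit.isColimit K)) v
      have hw' : RefHull.stalkMapₗ (colimit.ι K n) x w = v := by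
        rw [stalkMapₗ_eq_stalkLin]; exact hw
      rw [← hw', hφ] at hv
      obtain ⟨m, f, hf⟩ := hi x n w hv
      rw [← hw', ← colimit.w K f, stalkMapₗ_comp, LinearMap.comp_apply]
      exact (congrArg _ hf).trans (map_zero _)
    · obtain ⟨n, w, rfl⟩ := hs x v
      exact ⟨_, hφ n x w⟩
  exact ⟨IsColimit.ofIsoColimit (colimit.isColimit K) (Cocone.ext (asIso φ) fun n => colimit.ι_desc c n)⟩

theorem leg_sPowGerm (hF : RefHull.IsRef1 F) (n : ℕ) (x : X) :
    RefHull.stalkMapₗ (leg s U hU hF n) x (RefPow.sPowGerm s n x) =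
      valGerm ((Scheme.Modules.restrictAdjunction U.ι).unit.app (Coh.structureModule X)) x := by
  rw [← sPow_leg s U hU hF n]
  exact (valGerm_comp _ _ x).symm

theorem leg_generic_injective (hF : RefHull.IsRef1 F) (n : ℕ) (hηU : genericPoint X ∈ U) :
    Function.Injective (RefHull.stalkMapₗ (leg s U hU hF n) (genericPoint X)) := by
  rw [injective_iff_map_eq_zero]
  intro w hw
  obtain ⟨c, rfl⟩ := (gen_sPowGerm s U hU hF n hηU).2 w
  dsimp only at hw ⊢
  rw [map_smul, leg_sPowGerm] at hw
  have hg := (bijective_iff_gen _ _).1 (unit_stalk_bijective U (Coh.structureModule X) hηU)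
  rw [hg.1 (show c • _ = (0 : X.presheaf.stalk (genericPoint X)) • _ from hw.trans (zero_smul _ _).symm), zero_smul]

theorem exists_pow_mul_mem (hX : Pi1.IsNormalScheme X) {y : X} (hy : ringKrullDim (X.presheaf.stalk y) = 1)
    {φ : X.presheaf.stalk y} (hφ : φ ∈ IsLocalRing.maximalIdeal (X.presheaf.stalk y))
    (c : X.presheaf.stalk (genericPoint X)) :
    ∃ N, ∀ n, N ≤ n → ∃ a, spR (hη y) a = c * spR (hη y) φ ^ n := by
  have : IsDomain (X.presheaf.stalk y) := (hX y).1
  have := isDiscreteValuationRing_of_dim_one hX hy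
  obtain ⟨ϖ, hϖ⟩ := IsDiscreteValuationRing.exists_irreducible (X.presheaf.stalk y)
  obtain ⟨a, b, hb, hab⟩ := exists_spR_div y c
  obtain ⟨q, hq⟩ := IsDiscreteValuationRing.associated_pow_irreducible hb hϖ
  rw [hϖ.maximalIdeal_eq, Ideal.mem_span_singleton] at hφ
  refine ⟨q, fun n hn => ?_⟩
  obtain ⟨d, hd⟩ : b ∣ φ ^ n := hq.dvd.trans ((pow_dvd_pow ϖ hn).trans (pow_dvd_pow_of_dvd hφ n))
  refine ⟨a * d, ?_⟩
  rw [← map_pow, hd, map_mul, map_mul, ← hab]
  ring

include hU in
/-- Every rational function regular on `U` above `x` becomes a germ after multiplying by a high power. -/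
theorem exists_sp_eq_smul_sPowGerm (hX : Pi1.IsNormalScheme X) (hF : RefHull.IsRef1 F)
    (hηU : genericPoint X ∈ U) {x : X} {V : X.Opens} (hV : IsAffineOpen V) (hx : x ∈ V)
    (c : X.presheaf.stalk (genericPoint X))
    (hc : ∀ y, y ⤳ x → y ∈ U → ∃ a, spR (hη y) a = c) :
    ∃ n, ∃ w, sp (RefPow.refPow F n) (hη x) w = c • RefPow.sPowGerm s n (genericPoint X) := by
  have hR := HomSh.hasRel_of_isCoh hF.1
  let B := (V : Set X) ∩ {y ∈ (U : Set X)ᶜ | Order.coheight y = 1}
  have hB : B.Finite := finite_coheight_one U.isOpen.isClosed_compl (fun h => h hηU) hV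
  have hN : ∀ y ∈ B, ∃ N, ∀ n, N ≤ n → ∃ w, sp (RefPow.refPow F n) (hη y) w =
      c • RefPow.sPowGerm s n (genericPoint X) := by
    rintro y ⟨-, hyU, hy⟩
    obtain ⟨e, he⟩ := exists_gen_of_isRef1 hX hF hy
    obtain ⟨φ, hφ⟩ := he.2 (valGerm s y)
    have hm : φ ∈ IsLocalRing.maximalIdeal (X.presheaf.stalk y) := fun hu => hyU <| by
      rw [hU]
      refine (bijective_iff_gen s y).2 ?_
      rw [← hφ]
      have := he.comp (Units.mulRight hu.unit).bijective
      simpa [Gen, Function.comp_def, mul_smul] using this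
    obtain ⟨N, hN⟩ := exists_pow_mul_mem hX (dim_one_of_coheight hy) hm c
    refine ⟨N, fun n hn => ?_⟩
    obtain ⟨g, -, hgn⟩ := exists_gen_sPow s hR he hφ.symm n
    obtain ⟨a, ha⟩ := hN n hn
    refine ⟨a • g, ?_⟩
    rw [show RefPow.sPowGerm s n (genericPoint X) = sp (RefPow.refPow F n) (hη y) (RefPow.sPowGerm s n y) from
      (valGerm_sp (RefPow.sPow s n) (hη y)).symm, hgn, sp_smul, sp_smul, ha, mul_smul, map_pow]
  choose N hN using hN
  let n := hB.toFinset.attach.sup fun y => N y.1 (hB.mem_toFinset.1 y.2)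
  have hn : ∀ y (hy : y ∈ B), N y hy ≤ n := fun y hy =>
    Finset.le_sup (f := fun y : hB.toFinset => N y.1 (hB.mem_toFinset.1 y.2))
      (Finset.mem_attach _ ⟨y, hB.mem_toFinset.2 hy⟩)
  have hP := isRef1_refPow (F := F) hF n
  have := hP.1.1
  refine ⟨n, exists_sp_eq_of_forall_dim_one hX _ x
    ((HomSh.isReflexive_iff (HomSh.hasRel_of_isCoh hP.1)).1 hP.2.1 x) _ fun y hy hd => ?_⟩
  by_cases hyU : y ∈ U
  · obtain ⟨a, rfl⟩ := hc y hy hyU
    exact ⟨a • RefPow.sPowGerm s n y, by rw [sp_smul]; exact congrArg _ (valGerm_sp (RefPow.sPow s n) (hη y))⟩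
  · have hyB : y ∈ B := ⟨hy.mem_open V.2 hx, hyU, coheight_of_dim_one hd⟩
    exact hN y hyB n (hn y hyB)

include hU in
/-- If the generic point is not in the locus, the system is eventually zero. -/
theorem mulBy_eq_zero (hX : Pi1.IsNormalScheme X) (hF : RefHull.IsRef1 F) (hηU : genericPoint X ∉ U) (n : ℕ)
    (x : X) (w : (RefPow.refPow F n).presheaf.stalk x) : RefHull.stalkMapₗ (RefPow.mulBy s n) x w = 0 := by
  have h0 : valGerm s (genericPoint X) = 0 := by
    by_contra hne
    obtain ⟨e, he⟩ := exists_gen_of_genInvertible hF.2.2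
    exact hηU (show genericPoint X ∈ (U : Set X) by rw [hU]; exact (bijective_iff_gen s _).2 (gen_of_ne_zero he hne))
  have hx : valGerm s x = 0 := injective_sp_of_isRef1 hX hF x
    ((valGerm_sp s (hη x)).trans (h0.trans (map_zero _).symm))
  cases n with
  | zero =>
    obtain ⟨a, rfl⟩ := (HomSh.unitStalk x).surjective w
    exact (stalkMapₗ_unitStalk s x a).trans ((congrArg (a • ·) hx).trans (smul_zero a))
  | succ n =>
    rw [stalkMapₗ_mulBy]
    exact (congrArg (fun z => RefHull.stalkMapₗ _ x (tmulStalk _ F x w z)) hx).trans (by simp only [map_zero]; rfl)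

include hU in
theorem isColimit_legs (hX : Pi1.IsNormalScheme X) (hF : RefHull.IsRef1 F) :
    ∃ ι : RefPow.diagram F s ⟶ (Functor.const ℕ).obj (target U),
      ι.app 0 = (Scheme.Modules.restrictAdjunction U.ι).unit.app (Coh.structureModule X) ∧
        Nonempty (IsColimit (Cocone.mk _ ι)) := by
  let ι : RefPow.diagram F s ⟶ (Functor.const ℕ).obj (target U) :=
    NatTrans.ofSequence (fun n => leg s U hU hF n) fun n => by
      erw [RefPow.diagram_map, mulBy_leg, Category.comp_id]
  refine ⟨ι, leg_zero s U hU hF, nonempty_isColimit_of_stalk _ (fun x v => ?_) fun x n w hw => ?_⟩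
  · by_cases hηU : genericPoint X ∈ U
    swap
    · exact ⟨0, 0, (map_zero _).trans
        (target_eq_zero U (fun y hy => hηU ((hη y).mem_open U.2 hy)) x v).symm⟩
    obtain ⟨W, hxW, h, rfl⟩ := TopCat.Presheaf.exists_germ_eq (target U).presheaf v
    obtain ⟨V, hV, hxV, hVW⟩ := Opens.isBasis_iff_nbhd.1 X.isBasis_affineOpens hxW
    set one := valGerm ((Scheme.Modules.restrictAdjunction U.ι).unit.app (Coh.structureModule X))
    have hone : ∀ y ∈ U, Gen (target U) y (one y) := fun y hy =>
      (bijective_iff_gen _ _).1 (unit_stalk_bijective U (Coh.structureModule X) hy)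
    obtain ⟨c, hc⟩ := (hone _ hηU).2 (sp (target U) (hη x) ((target U).presheaf.germ W x hxW h))
    dsimp only at hc
    obtain ⟨n, w, hw⟩ := exists_sp_eq_smul_sPowGerm s U hU hX hF hηU hV hxV c fun y hy hyU => by
      obtain ⟨a, ha⟩ := (hone y hyU).2 (sp (target U) hy ((target U).presheaf.germ W x hxW h))
      refine ⟨a, (hone _ hηU).1 ?_⟩
      dsimp only at ha ⊢
      have := congrArg (sp (target U) (hη y)) ha
      rw [sp_smul, valGerm_sp, sp_sp] at this
      exact this.trans hc.symm
    refine ⟨n, w, target_sp_injective U hX x ?_⟩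
    rw [← hc]
    refine (stalkMapₗ_sp (RefPow.refPow F n) (leg s U hU hF n) (hη x) w).symm.trans ?_
    rw [hw, map_smul, leg_sPowGerm]
  · by_cases hηU : genericPoint X ∈ U
    · refine ⟨n, 𝟙 n, ?_⟩
      have hP := isRef1_refPow (F := F) hF n
      have h0 : w = 0 := by
        refine injective_sp_of_isRef1 hX hP x (Eq.trans ?_ (map_zero (sp (RefPow.refPow F n) (hη x))).symm)
        refine leg_generic_injective s U hU hF n hηU (Eq.trans ?_ (map_zero _).symm)
        refine (stalkMapₗ_sp (RefPow.refPow F n) (leg s U hU hF n) (hη x) w).trans ?_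
        exact (congrArg _ hw).trans (map_zero _)
      rw [h0]
      exact map_zero _
    · refine ⟨n + 1, homOfLE (Nat.le_succ n), ?_⟩
      rw [RefPow.diagram_map]
      exact mulBy_eq_zero s U hU hX hF hηU n x w

end GrothLib.Ref1
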