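import Groth.Agent.Lib.Ref1.Unit

/-! # The dual of a rank one reflexive module has the opposite divisor -/

set_option autoImplicit false

universe u

open CategoryTheory Opposite AlgebraicGeometry TopologicalSpace

namespace GrothLib.Ref1

variable {X : Scheme.{u}} (F G : X.Modules)

theorem evalStalk_sp {x y : X} (h : y ⤳ x) (θ : (RefHull.homSh F G).presheaf.stalk x)
    (v : F.presheaf.stalk x) :
    RefHull.evalStalk F G y (sp (RefHull.homSh F G) h θ) (sp F h v) =
      sp G h (RefHull.evalStalk F G x θ v) := by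
  obtain ⟨U, hU, g, rfl⟩ := TopCat.Presheaf.exists_germ_eq (RefHull.homSh F G).presheaf θ
  obtain ⟨U', hU', m, rfl⟩ := TopCat.Presheaf.exists_germ_eq F.presheaf v
  obtain ⟨W, hW, j, n, hn⟩ := RefHull.isLocSect_of_mem g (U ⊓ U') (homOfLE inf_le_left)
    (F.presheaf.map (homOfLE inf_le_right).op m) ⟨x, hU, hU'⟩
  have h1 := hn ⟨y, h.mem_open W.2 hW⟩
  have h2 := hn ⟨x, hW⟩
  rw [TopCat.Presheaf.germ_res_apply] at h1 h2
  rw [sp_germ, sp_germ, RefHull.evalStalk_germ, RefHull.evalStalk_germ, h1]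
  exact (sp_germ G h hW n).symm.trans (congrArg (sp G h) h2.symm)

variable {F}

/-- The dual of a free generator. -/
theorem exists_dual_gen (hF : HomSh.HasRel F) {x : X} {t : F.presheaf.stalk x} (ht : Gen F x t) :
    ∃ θ, Gen (RefHull.dual F) x θ ∧
      RefHull.evalStalk F (Coh.structureModule X) x θ t = HomSh.unitStalk x 1 := by
  let R := X.presheaf.stalk x
  let φ : R ≃ₗ[R] F.presheaf.stalk x := LinearEquiv.ofBijective (LinearMap.toSpanSingleton R _ t) ht
  let E := LinearEquiv.ofBijective _ (hF.evalStalk_bijective (Coh.structureModule X) x)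
  obtain ⟨θ, hθ⟩ : ∃ θ, E θ = (HomSh.unitStalk x).toLinearMap.comp φ.symm.toLinearMap :=
    ⟨E.symm _, E.apply_symm_apply _⟩
  have hθt : E θ t = HomSh.unitStalk x 1 := by
    rw [hθ]
    exact congrArg (HomSh.unitStalk x) (φ.symm_apply_eq.2 (one_smul R t).symm)
  refine ⟨θ, ⟨fun a b hab => ?_, fun f => ?_⟩, hθt⟩
  · have := LinearMap.congr_fun (congrArg E hab) t
    simp only [map_smul, LinearMap.smul_apply, hθt] at this
    exact (gen_unitStalk x).1 this
  · obtain ⟨a, ha⟩ := (gen_unitStalk x).2 (E f t)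
    refine ⟨a, E.injective (LinearMap.ext fun v => ?_)⟩
    obtain ⟨c, rfl⟩ := ht.2 v
    rw [map_smul E a θ, LinearMap.smul_apply, map_smul (E θ) c t, map_smul (E f) c t, hθt, ← ha, smul_comm]

variable (F) [IsIntegral X] [IsLocallyNoetherian X]

theorem isRef1_dual (hF : RefHull.IsRef1 F) : RefHull.IsRef1 (RefHull.dual F) := by
  have hR := HomSh.hasRel_of_isCoh hF.1
  obtain ⟨e, he⟩ := exists_gen_of_genInvertible hF.2.2
  obtain ⟨θ, hθ, -⟩ := exists_dual_gen hR he
  exact ⟨HomSh.isCoh_dual hR, HomSh.isReflexive_homSh hR (HomSh.isCoh_structureModule X)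
    isRef1_structureModule.2.1, genInvertible_of_gen (HomSh.hasRel_dual hR) hθ⟩

theorem exists_secOrd_dual (hX : Pi1.IsNormalScheme X) (hF : RefHull.IsRef1 F)
    {v : F.presheaf.stalk (genericPoint X)} (hv : v ≠ 0) :
    ∃ θ : (RefHull.dual F).presheaf.stalk (genericPoint X), θ ≠ 0 ∧
      ∀ x : X, Order.coheight x = 1 → secOrd (RefHull.dual F) θ x = -secOrd F v x := by
  have hR := HomSh.hasRel_of_isCoh hF.1
  obtain ⟨e, he⟩ := exists_gen_of_genInvertible hF.2.2
  obtain ⟨θ, hθ, hθv⟩ := exists_dual_gen hR (gen_of_ne_zero he hv)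
  refine ⟨θ, hθ.ne_zero, fun x hx => ?_⟩
  have := hF.1.1
  have := (HomSh.isCoh_dual (X := X) hR).1
  obtain ⟨t, ht⟩ := exists_gen_of_isRef1 hX hF hx
  obtain ⟨η, hη', hηt⟩ := exists_dual_gen hR ht
  obtain ⟨a, ha, rfl⟩ := exists_coeff ht hv
  obtain ⟨b, hb, rfl⟩ := exists_coeff hη' hθ.ne_zero
  rw [secOrd_gen hx hη' hb, secOrd_gen hx ht ha]
  rw [map_smul, map_smul, LinearMap.smul_apply, evalStalk_sp, hηt, sp_unitStalk, smul_comm, ← mul_smul,
    ← map_smul, smul_eq_mul, (HomSh.unitStalk (genericPoint X)).injective.eq_iff, map_one, mul_one] at hθv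
  have h1 := Scheme.ord_mul (x := x) (f := (b : X.functionField)) (g := (a : X.functionField)) hb ha
  rw [show (b : X.functionField) * a = 1 from hθv] at h1
  have h2 := ord_spR_of_isUnit (x := x) (u := 1) isUnit_one
  rw [map_one] at h2
  rw [show Scheme.ord (1 : X.functionField) x = 0 from h2] at h1
  omega

end GrothLib.Ref1
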