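import Groth.Agent.Lib.Ref1.SecOrd
import Groth.Agent.Lib.Ref1.Tensor

/-!
# Rank one reflexive modules are classified by the divisors of their rational sections
-/

set_option autoImplicit false

universe u

open CategoryTheory CategoryTheory.Limits Opposite AlgebraicGeometry TopologicalSpace

namespace GrothLib.Ref1

variable {X : Scheme.{u}} [IsIntegral X] [IsLocallyNoetherian X]

/-! ### Discrete valuation rings -/

theorem associated_of_ord_eq {R : Type*} [CommRing R] [IsDomain R] [IsDiscreteValuationRing R] {a b : R}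
    (ha : a ≠ 0) (hb : b ≠ 0) (h : (Ring.ord R a).toNat = (Ring.ord R b).toNat) : Associated a b := by
  obtain ⟨ϖ, hϖ⟩ := IsDiscreteValuationRing.exists_irreducible R
  have hord : ∀ n : ℕ, Ring.ord R (ϖ ^ n) = n := fun n => by
    rw [Ring.ord_pow (mem_nonZeroDivisors_of_ne_zero hϖ.ne_zero), Ring.ord_of_irreducible hϖ, nsmul_one]
  obtain ⟨p, hp⟩ := IsDiscreteValuationRing.associated_pow_irreducible ha hϖ
  obtain ⟨q, hq⟩ := IsDiscreteValuationRing.associated_pow_irreducible hb hϖ
  rw [Ring.ord_eq_of_associated hp, Ring.ord_eq_of_associated hq, hord, hord, ENat.toNat_natCast,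
    ENat.toNat_natCast] at h
  subst h
  exact hp.trans hq.symm

/-- A rational function of order zero at a codimension one point is a unit there. -/
theorem exists_unit_of_ord_eq_zero (hX : Pi1.IsNormalScheme X) {x : X} (hx : Order.coheight x = 1)
    {φ : X.presheaf.stalk (genericPoint X)} (hφ : φ ≠ 0) (h : Scheme.ord (φ : X.functionField) x = 0) :
    ∃ u : X.presheaf.stalk x, IsUnit u ∧ spR (hη x) u = φ := by
  let A := X.presheaf.stalk x
  have : IsDomain A := (hX x).1
  have := isDiscreteValuationRing_of_dim_one hX (dim_one_of_coheight hx)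
  have : Ring.KrullDimLE 1 A := krullDimLE_of_coheight_le hx.le
  obtain ⟨a, b, hb, hab⟩ := exists_spR_div x φ
  have ha : a ≠ 0 := by
    rintro rfl
    rw [map_zero, mul_eq_zero] at hab
    exact hφ (hab.resolve_left (isUnit_spR hb).ne_zero)
  have hma := mem_nonZeroDivisors_of_ne_zero ha
  have hmb := mem_nonZeroDivisors_of_ne_zero hb
  have hfa : algebraMap A X.functionField a ≠ 0 := (map_ne_zero_iff _ (IsFractionRing.injective A X.functionField)).2 ha
  have hfb : algebraMap A X.functionField b ≠ 0 := (map_ne_zero_iff _ (IsFractionRing.injective A X.functionField)).2 hb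
  have hv : ∀ c : A, c ≠ 0 → Scheme.ord (algebraMap A X.functionField c) x = ((Ring.ord A c).toNat : ℤ) :=
    fun c hc => by
      refine (Scheme.ord_eq_iff hx ((map_ne_zero_iff _ (IsFractionRing.injective A X.functionField)).2 hc)).2 ?_
      change Ring.ordFrac A (algebraMap A X.functionField c) = _
      rw [Ring.ordFrac_eq_ord _ hc, Ring.ordMonoidWithZeroHom_eq_coe _ (mem_nonZeroDivisors_of_ne_zero hc)
        (ENat.natCast_toNat (Ring.ord_ne_top (mem_nonZeroDivisors_of_ne_zero hc))).symm]
  have hφ' : algebraMap A X.functionField b * (φ : X.functionField) = algebraMap A X.functionField a := hab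
  have := congrArg (fun c => Scheme.ord c x) hφ'
  rw [Scheme.ord_mul hfb hφ, h, add_zero, hv b hb, hv a ha] at this
  obtain ⟨u, hu⟩ := associated_of_ord_eq hb ha (by exact_mod_cast this)
  refine ⟨u, u.isUnit, (isUnit_spR hb).mul_left_cancel ?_⟩
  rw [hab, ← map_mul, hu]

/-! ### The divisor of a rational section -/

variable (F : X.Modules)

/-- The order at `x` of a rational section. -/
noncomputable abbrev secOrd (v : F.presheaf.stalk (genericPoint X)) (x : X) : ℤ :=
  Cyc.secOrdAt F (genericPoint X) x (hη x) (Submodule.Quotient.mk v)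

variable {F}

theorem secOrd_gen [F.IsQuasicoherent] {x : X} (hx : Order.coheight x = 1) {t : F.presheaf.stalk x}
    (ht : Gen F x t) {φ : X.presheaf.stalk (genericPoint X)} (hφ : φ ≠ 0) :
    secOrd F (φ • sp F (hη x) t) x = Scheme.ord (φ : X.functionField) x :=
  secOrdAt_eq hx (hη x) ht hφ

theorem exists_coeff [F.IsQuasicoherent] {x : X} {t : F.presheaf.stalk x} (ht : Gen F x t)
    {v : F.presheaf.stalk (genericPoint X)} (hv : v ≠ 0) :
    ∃ φ : X.presheaf.stalk (genericPoint X), φ ≠ 0 ∧ v = φ • sp F (hη x) t := by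
  obtain ⟨φ, rfl⟩ := ht.sp.2 v
  exact ⟨φ, fun h => hv (by dsimp only; rw [h, zero_smul]), rfl⟩

theorem secOrd_smul [F.IsQuasicoherent] {x : X} (hx : Order.coheight x = 1) {t : F.presheaf.stalk x}
    (ht : Gen F x t) {c : X.presheaf.stalk (genericPoint X)} (hc : c ≠ 0)
    {v : F.presheaf.stalk (genericPoint X)} (hv : v ≠ 0) :
    secOrd F (c • v) x = Scheme.ord (c : X.functionField) x + secOrd F v x := by
  obtain ⟨φ, hφ, rfl⟩ := exists_coeff ht hv
  rw [← mul_smul, secOrd_gen hx ht (mul_ne_zero hc hφ), secOrd_gen hx ht hφ, Scheme.ord_mul hc hφ]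

/-- A module with finitely generated torsion free stalks, free of rank one in codimension one. -/
theorem exists_gen_of_isRef1 (hX : Pi1.IsNormalScheme X) (hF : RefHull.IsRef1 F) {x : X}
    (hx : Order.coheight x = 1) : ∃ t, Gen F x t := by
  have := hF.1.1
  have hR := HomSh.hasRel_of_isCoh hF.1
  obtain ⟨e, he⟩ := exists_gen_of_genInvertible hF.2.2
  have := hR.span_stalk x
  have : IsDomain (X.presheaf.stalk x) := (hX x).1
  have := isDiscreteValuationRing_of_dim_one hX (dim_one_of_coheight hx)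
  exact exists_gen_of_pid (injective_sp_of_isReflexive hX hR hF.2.1 x) he

theorem injective_sp_of_isRef1 (hX : Pi1.IsNormalScheme X) (hF : RefHull.IsRef1 F) (x : X) :
    Function.Injective (sp F (hη x)) := by
  have := hF.1.1
  exact injective_sp_of_isReflexive hX (HomSh.hasRel_of_isCoh hF.1) hF.2.1 x

theorem gen_of_ne_zero {F : X.Modules} {e : F.presheaf.stalk (genericPoint X)} (he : Gen F (genericPoint X) e)
    {v : F.presheaf.stalk (genericPoint X)} (hv : v ≠ 0) : Gen F (genericPoint X) v := by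
  obtain ⟨c, rfl⟩ := he.2 v
  have hc : c ≠ 0 := fun h => hv (by dsimp only; rw [h, zero_smul])
  have := he.comp (Units.mulRight (isUnit_of_ne_zero hc).unit).bijective
  simpa [Gen, Function.comp_def, mul_smul] using this

theorem exists_ne_zero_of_isRef1 (hF : RefHull.IsRef1 F) : ∃ v : F.presheaf.stalk (genericPoint X), v ≠ 0 :=
  let ⟨e, he⟩ := exists_gen_of_genInvertible hF.2.2
  ⟨e, he.ne_zero⟩

/-- Equal divisors give isomorphic modules. -/
theorem nonempty_iso_of_secOrd_eq (hX : Pi1.IsNormalScheme X) {F G : X.Modules} (hF : RefHull.IsRef1 F)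
    (hG : RefHull.IsRef1 G) {v : F.presheaf.stalk (genericPoint X)} (hv : v ≠ 0)
    {w : G.presheaf.stalk (genericPoint X)} (hw : w ≠ 0)
    (h : ∀ x : X, Order.coheight x = 1 → secOrd F v x = secOrd G w x) : Nonempty (F ≅ G) := by
  have key : ∀ {F G : X.Modules}, RefHull.IsRef1 F → RefHull.IsRef1 G →
      ∀ {v : F.presheaf.stalk (genericPoint X)}, v ≠ 0 → ∀ {w : G.presheaf.stalk (genericPoint X)}, w ≠ 0 →
      (∀ x : X, Order.coheight x = 1 → secOrd F v x = secOrd G w x) →
      ∃ ψ : F ⟶ G, RefHull.stalkMapₗ ψ (genericPoint X) v = w := by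
    intro F G hF hG v hv w hw h
    have := hF.1.1
    have := hG.1.1
    obtain ⟨e, he⟩ := exists_gen_of_genInvertible hF.2.2
    let φ := LinearEquiv.ofBijective (LinearMap.toSpanSingleton (X.presheaf.stalk (genericPoint X)) _ v)
      (gen_of_ne_zero he hv)
    let T : RefHull.StalkHom F G (genericPoint X) :=
      (LinearMap.toSpanSingleton (X.presheaf.stalk (genericPoint X)) _ w).comp φ.symm.toLinearMap
    have hT : ∀ c : X.presheaf.stalk (genericPoint X), T (c • v) = c • w := fun c => by
      rw [map_smul]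
      refine congrArg (c • ·) ?_
      change φ.symm v • w = w
      rw [show φ.symm v = 1 from φ.symm_apply_eq.2 (one_smul (X.presheaf.stalk (genericPoint X)) v).symm, one_smul]
    obtain ⟨ψ, hψ⟩ := exists_hom_of_dim_one hX (HomSh.hasRel_of_isCoh hG.1) hG.2.1 T fun x hx u => by
      have hx' := coheight_of_dim_one hx
      obtain ⟨t, ht⟩ := exists_gen_of_isRef1 hX hF hx'
      obtain ⟨t', ht'⟩ := exists_gen_of_isRef1 hX hG hx'
      obtain ⟨a, ha, hva⟩ := exists_coeff ht hv
      obtain ⟨b, hb, hwb⟩ := exists_coeff ht' hw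
      obtain ⟨c, rfl⟩ := ht.2 u
      dsimp only
      have hia := isUnit_of_ne_zero ha
      have hord := h x hx'
      rw [hva, hwb, secOrd_gen hx' ht ha, secOrd_gen hx' ht' hb] at hord
      obtain ⟨r, hr⟩ := hia.exists_left_inv
      have hr0 : r ≠ 0 := left_ne_zero_of_mul_eq_one hr
      have h0 : Scheme.ord ((r * b : X.presheaf.stalk (genericPoint X)) : X.functionField) x = 0 := by
        have h1 := Scheme.ord_mul (x := x) (f := (r : X.functionField)) (g := (a : X.functionField)) hr0 ha
        rw [show (r : X.functionField) * a = 1 from hr] at h1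
        have h2 : Scheme.ord (1 : X.functionField) x = 0 := by
          have := ord_spR_of_isUnit (x := x) (u := 1) isUnit_one
          rwa [map_one] at this
        rw [Scheme.ord_mul hr0 hb, ← hord, ← h1, h2]
      obtain ⟨q, -, hq⟩ := exists_unit_of_ord_eq_zero hX hx' (mul_ne_zero hr0 hb) h0
      refine ⟨(c * q) • t', ?_⟩
      have hcomb : sp F (hη x) (c • t) = (spR (hη x) c * r) • v := by
        rw [sp_smul, hva, ← mul_smul, mul_assoc, hr, mul_one]
      rw [hcomb, hT, sp_smul, map_mul, hq, hwb, ← mul_smul, mul_assoc]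
    refine ⟨ψ, ?_⟩
    rw [hψ]
    have := hT 1
    rwa [one_smul, one_smul] at this
  obtain ⟨ψ, hψ⟩ := key hF hG hv hw h
  obtain ⟨χ, hχ⟩ := key hG hF hw hv fun x hx => (h x hx).symm
  obtain ⟨e, he⟩ := exists_gen_of_genInvertible hF.2.2
  obtain ⟨e', he'⟩ := exists_gen_of_genInvertible hG.2.2
  refine ⟨⟨ψ, χ, hom_ext_generic (injective_sp_of_isRef1 hX hF) (LinearMap.ext fun u => ?_),
    hom_ext_generic (injective_sp_of_isRef1 hX hG) (LinearMap.ext fun u => ?_)⟩⟩
  · obtain ⟨c, rfl⟩ := (gen_of_ne_zero he hv).2 u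
    rw [stalkMapₗ_comp, stalkMapₗ_id, LinearMap.comp_apply, map_smul, map_smul, hψ, hχ]
    rfl
  · obtain ⟨c, rfl⟩ := (gen_of_ne_zero he' hw).2 u
    rw [stalkMapₗ_comp, stalkMapₗ_id, LinearMap.comp_apply, map_smul, map_smul, hχ, hψ]
    rfl

/-- An isomorphism preserves the divisor. -/
theorem secOrd_stalkMapₗ {F G : X.Modules} [F.IsQuasicoherent] [G.IsQuasicoherent] (e : F ≅ G) {x : X}
    (hx : Order.coheight x = 1) {t : F.presheaf.stalk x} (ht : Gen F x t)
    {v : F.presheaf.stalk (genericPoint X)} (hv : v ≠ 0) :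
    secOrd G (RefHull.stalkMapₗ e.hom (genericPoint X) v) x = secOrd F v x := by
  obtain ⟨φ, hφ, rfl⟩ := exists_coeff ht hv
  have ht' : Gen G x (RefHull.stalkMapₗ e.hom x t) := by
    have := (stalkMapₗ_bijective e x).comp ht
    simpa [Gen, Function.comp_def] using this
  rw [map_smul, stalkMapₗ_sp, secOrd_gen hx ht' hφ, secOrd_gen hx ht hφ]

/-- Isomorphic iff linearly equivalent divisors. -/
theorem nonempty_iso_iff (hX : Pi1.IsNormalScheme X) {F G : X.Modules} (hF : RefHull.IsRef1 F)
    (hG : RefHull.IsRef1 G) {v : F.presheaf.stalk (genericPoint X)} (hv : v ≠ 0)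
    {w : G.presheaf.stalk (genericPoint X)} (hw : w ≠ 0) :
    Nonempty (F ≅ G) ↔ ∃ f : X.functionField, f ≠ 0 ∧
      ∀ x : X, Order.coheight x = 1 → secOrd F v x = secOrd G w x + Scheme.ord f x := by
  have := hF.1.1
  have := hG.1.1
  constructor
  · rintro ⟨e⟩
    obtain ⟨g, hg⟩ := exists_gen_of_genInvertible hG.2.2
    obtain ⟨f, hf⟩ := (gen_of_ne_zero hg hw).2 (RefHull.stalkMapₗ e.hom (genericPoint X) v)
    dsimp only at hf
    have hne : RefHull.stalkMapₗ e.hom (genericPoint X) v ≠ 0 :=
      fun h => hv ((stalkMapₗ_bijective e _).1 (h.trans (map_zero _).symm))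
    have hf0 : f ≠ 0 := fun h => hne (by rw [← hf, h, zero_smul])
    refine ⟨f, hf0, fun x hx => ?_⟩
    obtain ⟨t, ht⟩ := exists_gen_of_isRef1 hX hF hx
    obtain ⟨t', ht'⟩ := exists_gen_of_isRef1 hX hG hx
    rw [← secOrd_stalkMapₗ e hx ht hv, ← hf, secOrd_smul hx ht' hf0 hw, add_comm]
  · rintro ⟨f, hf, h⟩
    let c : X.presheaf.stalk (genericPoint X) := f
    refine nonempty_iso_of_secOrd_eq hX hF hG hv (w := c • w)
      (fun h0 => hw ((isUnit_of_ne_zero (c := c) hf).smul_eq_zero.1 h0)) fun x hx => ?_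
    obtain ⟨t', ht'⟩ := exists_gen_of_isRef1 hX hG hx
    rw [secOrd_smul hx ht' hf hw, h x hx, add_comm]

/-! ### Reflexive hulls -/

omit [IsIntegral X] in
/-- The biduality map is bijective where the stalk is free of rank one. -/
theorem gen_bidual {F : X.Modules} (hF : HomSh.HasRel F) {x : X} {t : F.presheaf.stalk x} (ht : Gen F x t) :
    Gen (RefHull.ddual F) x (RefHull.stalkMapₗ (RefHull.bidualMap F) x t) := by
  let φ := LinearEquiv.ofBijective (LinearMap.toSpanSingleton (X.presheaf.stalk x) _ t) ht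
  have : Module.Free (X.presheaf.stalk x) (F.presheaf.stalk x) := Module.Free.of_equiv φ
  have : Module.Finite (X.presheaf.stalk x) (F.presheaf.stalk x) := Module.Finite.equiv φ
  have hb : Function.Bijective (GrothLib.QCoh.stalkLin (RefHull.bidualMap F) x) :=
    (HomSh.bijective_bidual_iff hF x).2 (inferInstance : Module.IsReflexive (X.presheaf.stalk x) (F.presheaf.stalk x))
  have he : ∀ v, RefHull.stalkMapₗ (RefHull.bidualMap F) x v = GrothLib.QCoh.stalkLin (RefHull.bidualMap F) x v := by
    intro v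
    obtain ⟨U, hU, m, rfl⟩ := TopCat.Presheaf.exists_germ_eq F.presheaf v
    rw [RefHull.stalkMapₗ_germ, GrothLib.QCoh.stalkLin_germ]
  have hb' : Function.Bijective (RefHull.stalkMapₗ (RefHull.bidualMap F) x) := by rwa [funext he]
  have := hb'.comp ht
  simpa [Gen, Function.comp_def] using this

/-- The reflexive hull of a module of generic rank one is a rank one reflexive module. -/
theorem isRef1_ddual {F : X.Modules} (hF : HomSh.HasRel F) {e : F.presheaf.stalk (genericPoint X)}
    (he : Gen F (genericPoint X) e) : RefHull.IsRef1 (RefHull.ddual F) := by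
  refine ⟨HomSh.isCoh_dual (HomSh.hasRel_dual hF), ?_, ?_⟩
  · exact HomSh.isReflexive_homSh (HomSh.hasRel_dual hF) (HomSh.isCoh_structureModule X)
      ((HomSh.isReflexive_iff (HomSh.hasRel_of_isCoh (HomSh.isCoh_structureModule X))).2 fun x => by
        have : Module.Free (X.presheaf.stalk x) ((Coh.structureModule X).presheaf.stalk x) :=
          Module.Free.of_equiv (HomSh.unitStalk x)
        have : Module.Finite (X.presheaf.stalk x) ((Coh.structureModule X).presheaf.stalk x) :=
          Module.Finite.equiv (HomSh.unitStalk x)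
        exact (inferInstance : Module.IsReflexive (X.presheaf.stalk x) ((Coh.structureModule X).presheaf.stalk x)))
  · exact genInvertible_of_gen (HomSh.hasRel_dual (HomSh.hasRel_dual hF)) (gen_bidual hF he)

theorem isRef1_refTensor {F G : X.Modules} (hF : RefHull.IsRef1 F) (hG : RefHull.IsRef1 G) :
    RefHull.IsRef1 (RefHull.ddual (CohB1.tensorMod F G)) := by
  obtain ⟨e, he⟩ := exists_gen_of_genInvertible hF.2.2
  obtain ⟨e', he'⟩ := exists_gen_of_genInvertible hG.2.2
  exact isRef1_ddual (hasRel_tensorMod (HomSh.hasRel_of_isCoh hF.1) (HomSh.hasRel_of_isCoh hG.1))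
    (he.tmulStalk F G he')

/-- The product of two rational sections in the reflexive tensor product. -/
noncomputable def refMul (F G : X.Modules) (v : F.presheaf.stalk (genericPoint X))
    (w : G.presheaf.stalk (genericPoint X)) :
    (RefHull.ddual (CohB1.tensorMod F G)).presheaf.stalk (genericPoint X) :=
  RefHull.stalkMapₗ (RefHull.bidualMap (CohB1.tensorMod F G)) (genericPoint X) (tmulStalk F G _ v w)

theorem refMul_ne_zero {F G : X.Modules} (hF : RefHull.IsRef1 F) (hG : RefHull.IsRef1 G)
    {v : F.presheaf.stalk (genericPoint X)} (hv : v ≠ 0) {w : G.presheaf.stalk (genericPoint X)} (hw : w ≠ 0) :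
    refMul F G v w ≠ 0 := by
  obtain ⟨e, he⟩ := exists_gen_of_genInvertible hF.2.2
  obtain ⟨e', he'⟩ := exists_gen_of_genInvertible hG.2.2
  exact (gen_bidual (hasRel_tensorMod (HomSh.hasRel_of_isCoh hF.1) (HomSh.hasRel_of_isCoh hG.1))
    ((gen_of_ne_zero he hv).tmulStalk F G (gen_of_ne_zero he' hw))).ne_zero

theorem secOrd_refMul (hX : Pi1.IsNormalScheme X) {F G : X.Modules} (hF : RefHull.IsRef1 F) (hG : RefHull.IsRef1 G)
    {v : F.presheaf.stalk (genericPoint X)} (hv : v ≠ 0) {w : G.presheaf.stalk (genericPoint X)} (hw : w ≠ 0)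
    {x : X} (hx : Order.coheight x = 1) :
    secOrd (RefHull.ddual (CohB1.tensorMod F G)) (refMul F G v w) x = secOrd F v x + secOrd G w x := by
  have := hF.1.1
  have := hG.1.1
  have hR := hasRel_tensorMod (HomSh.hasRel_of_isCoh hF.1) (HomSh.hasRel_of_isCoh hG.1)
  have := (HomSh.isCoh_dual (HomSh.hasRel_dual hR)).1
  obtain ⟨t, ht⟩ := exists_gen_of_isRef1 hX hF hx
  obtain ⟨t', ht'⟩ := exists_gen_of_isRef1 hX hG hx
  obtain ⟨a, ha, rfl⟩ := exists_coeff ht hv
  obtain ⟨b, hb, rfl⟩ := exists_coeff ht' hw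
  simp only [refMul, map_smul, LinearMap.smul_apply, ← mul_smul]
  rw [mul_comm b a, ← sp_tmulStalk, stalkMapₗ_sp,
    secOrd_gen hx (gen_bidual hR (ht.tmulStalk F G ht')) (mul_ne_zero ha hb), secOrd_gen hx ht ha,
    secOrd_gen hx ht' hb, Scheme.ord_mul ha hb]

end GrothLib.Ref1
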