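import Groth.Agent.Lib.HomSh.Criterion
import Groth.Agent.Lib.Ref1.Class

/-! # Surjectivity of biduality on stalks -/

set_option autoImplicit false

universe u

open CategoryTheory Opposite AlgebraicGeometry TopologicalSpace

namespace GrothLib.Ref1

variable {X : Scheme.{u}} [IsLocallyNoetherian X]

/-- The stalk of the biduality map is surjective when the algebraic one is. -/
theorem bidual_stalk_surjective {F : X.Modules} (hF : HomSh.HasRel F) (x : X)
    (h : Function.Surjective (Module.Dual.eval (X.presheaf.stalk x) (F.presheaf.stalk x))) :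
    Function.Surjective (RefHull.stalkMapₗ (RefHull.bidualMap F) x) := by
  let O := X.presheaf.stalk x
  let E : (RefHull.dual F).presheaf.stalk x ≃ₗ[O] Module.Dual O (F.presheaf.stalk x) :=
    (LinearEquiv.ofBijective _ (hF.evalStalk_bijective (Coh.structureModule X) x)).trans
      (LinearEquiv.congrRight (HomSh.unitStalk x).symm)
  let Ψ : Module.Dual O (Module.Dual O (F.presheaf.stalk x)) ≃ₗ[O]
      RefHull.StalkHom (RefHull.dual F) (Coh.structureModule X) x :=
    LinearEquiv.arrowCongr E.symm (HomSh.unitStalk x)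
  intro θ
  obtain ⟨v, hv⟩ := h (Ψ.symm (RefHull.evalStalk (RefHull.dual F) (Coh.structureModule X) x θ))
  refine ⟨v, ((HomSh.hasRel_dual hF).evalStalk_bijective (Coh.structureModule X) x).1 ?_⟩
  have hlin : RefHull.stalkMapₗ (RefHull.bidualMap F) x v = QCoh.stalkLin (RefHull.bidualMap F) x v := by
    obtain ⟨U, hU, m, rfl⟩ := TopCat.Presheaf.exists_germ_eq F.presheaf v
    rw [RefHull.stalkMapₗ_germ, QCoh.stalkLin_germ]
  rw [hlin, HomSh.evalStalk_bidual]
  have h2 := congrArg Ψ hv
  rw [LinearEquiv.apply_symm_apply] at h2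
  rw [← h2]
  refine LinearMap.ext fun φ => ?_
  simp only [Ψ, LinearEquiv.arrowCongr_apply, LinearEquiv.symm_symm, Module.Dual.eval_apply,
    RefHull.bidualAt_apply]
  exact ((HomSh.unitStalk x).apply_symm_apply _).symm

end GrothLib.Ref1
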