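import Groth.Agent.Lib.HomSh.Coherent
import Groth.Agent.Lib.QCoh.Affine
import Groth.Prelude.Def_RefHull
import Mathlib.AlgebraicGeometry.FunctionField

/-!
# Specialisation maps between stalks of quasi-coherent modules

For `y ⤳ x` the stalk of a quasi-coherent module at `y` is a localisation of the stalk at `x`.
-/

set_option autoImplicit false

universe u

open CategoryTheory CategoryTheory.Limits Opposite AlgebraicGeometry TopologicalSpace

namespace GrothLib.Ref1

variable {X : Scheme.{u}} (F : X.Modules) {x y z : X}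

/-- The specialisation map `F_x → F_y`. -/
noncomputable abbrev sp (h : y ⤳ x) : F.presheaf.stalk x →+ F.presheaf.stalk y :=
  (F.presheaf.stalkSpecializes h).hom

/-- The specialisation map `O_x → O_y`. -/
noncomputable abbrev spR (h : y ⤳ x) : X.presheaf.stalk x →+* X.presheaf.stalk y :=
  (X.presheaf.stalkSpecializes h).hom

theorem sp_germ (h : y ⤳ x) {U : X.Opens} (hx : x ∈ U) (m : Γ(F, U)) :
    sp F h (F.presheaf.germ U x hx m) = F.presheaf.germ U y (h.mem_open U.2 hx) m :=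
  TopCat.Presheaf.germ_stalkSpecializes_apply F.presheaf hx h m

theorem spR_germ (h : y ⤳ x) {U : X.Opens} (hx : x ∈ U) (m : Γ(X, U)) :
    spR h (X.presheaf.germ U x hx m) = X.presheaf.germ U y (h.mem_open U.2 hx) m :=
  TopCat.Presheaf.germ_stalkSpecializes_apply X.presheaf hx h m

theorem sp_smul (h : y ⤳ x) (a : X.presheaf.stalk x) (v : F.presheaf.stalk x) :
    sp F h (a • v) = spR h a • sp F h v := by
  obtain ⟨Ua, ha, r, rfl⟩ := TopCat.Presheaf.exists_germ_eq X.presheaf a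
  obtain ⟨Uv, hv, m, rfl⟩ := TopCat.Presheaf.exists_germ_eq F.presheaf v
  rw [← TopCat.Presheaf.germ_res_apply X.presheaf (homOfLE (inf_le_left : Ua ⊓ Uv ≤ Ua)) x ⟨ha, hv⟩,
    ← TopCat.Presheaf.germ_res_apply F.presheaf (homOfLE (inf_le_right : Ua ⊓ Uv ≤ Uv)) x ⟨ha, hv⟩,
    ← Mero.germ_smul, sp_germ, spR_germ, sp_germ, Mero.germ_smul]

theorem sp_sp (h : z ⤳ y) (h' : y ⤳ x) (v : F.presheaf.stalk x) :
    sp F h (sp F h' v) = sp F (h.trans h') v :=
  TopCat.Presheaf.stalkSpecializes_comp_apply F.presheaf h h' v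

theorem spR_spR (h : z ⤳ y) (h' : y ⤳ x) (a : X.presheaf.stalk x) :
    spR h (spR h' a) = spR (h.trans h') a :=
  TopCat.Presheaf.stalkSpecializes_comp_apply X.presheaf h h' a

theorem sp_refl (h : x ⤳ x) (v : F.presheaf.stalk x) : sp F h v = v := by
  change (F.presheaf.stalkSpecializes (specializes_refl x)).hom v = v
  rw [TopCat.Presheaf.stalkSpecializes_refl]
  rfl

theorem stalkMapₗ_sp {G : X.Modules} (φ : F ⟶ G) (h : y ⤳ x) (v : F.presheaf.stalk x) :
    RefHull.stalkMapₗ φ y (sp F h v) = sp G h (RefHull.stalkMapₗ φ x v) := by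
  obtain ⟨U, hU, m, rfl⟩ := TopCat.Presheaf.exists_germ_eq F.presheaf v
  rw [sp_germ, RefHull.stalkMapₗ_germ, RefHull.stalkMapₗ_germ, sp_germ]

/-- Every germ at `y` is, up to a unit, the image of a germ at `x`. -/
theorem exists_sp_smul [F.IsQuasicoherent] (h : y ⤳ x) (w : F.presheaf.stalk y) :
    ∃ (a : X.presheaf.stalk x) (v : F.presheaf.stalk x), IsUnit (spR h a) ∧ spR h a • w = sp F h v := by
  obtain ⟨W, hyW, m, rfl⟩ := TopCat.Presheaf.exists_germ_eq F.presheaf w
  obtain ⟨V, hV, hxV, -⟩ := Opens.isBasis_iff_nbhd.1 X.isBasis_affineOpens (Opens.mem_top x)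
  have hyV : y ∈ V := h.mem_open V.2 hxV
  obtain ⟨f, hf, hyf⟩ := hV.exists_basicOpen_le (V := W) ⟨y, hyW⟩ hyV
  obtain ⟨n, t, ht⟩ := (QCoh.smulLift_and_smulSep_of_isAffineOpen hV F f).1
    (F.presheaf.map (homOfLE hf).op m)
  refine ⟨X.presheaf.germ V x hxV (f ^ n), F.presheaf.germ V x hxV t, ?_, ?_⟩
  · rw [spR_germ, map_pow]
    exact ((Scheme.mem_basicOpen _ f y hyV).1 hyf).pow n
  · rw [spR_germ, sp_germ]
    have := congrArg (F.presheaf.germ (X.basicOpen f) y hyf) ht
    rw [TopCat.Presheaf.germ_res_apply] at this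
    erw [this]
    rw [Mero.germ_smul, TopCat.Presheaf.germ_res_apply, ← map_pow, TopCat.Presheaf.germ_res_apply]

/-- A germ at `x` dying at `y` is killed by a function which is a unit at `y`. -/
theorem exists_smul_eq_zero_of_sp [F.IsQuasicoherent] (h : y ⤳ x) (v : F.presheaf.stalk x)
    (hv : sp F h v = 0) : ∃ a : X.presheaf.stalk x, IsUnit (spR h a) ∧ a • v = 0 := by
  obtain ⟨U, hxU, t, rfl⟩ := TopCat.Presheaf.exists_germ_eq F.presheaf v
  obtain ⟨V, hV, hxV, hVU⟩ := Opens.isBasis_iff_nbhd.1 X.isBasis_affineOpens hxU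
  have hyV : y ∈ V := h.mem_open V.2 hxV
  rw [sp_germ] at hv
  obtain ⟨W, hyW, i, i', e⟩ := TopCat.Presheaf.germ_eq F.presheaf y (h.mem_open U.2 hxU)
    (h.mem_open U.2 hxU) t 0 (by rw [hv, map_zero])
  rw [map_zero] at e
  obtain ⟨f, hf, hyf⟩ := hV.exists_basicOpen_le (V := W) ⟨y, hyW⟩ hyV
  have h0 : F.presheaf.map (homOfLE (X.basicOpen_le f)).op (F.presheaf.map (homOfLE hVU).op t) = 0 := by
    rw [← map_zero (F.presheaf.map (homOfLE hf).op).hom, ← e, ← ConcreteCategory.comp_apply,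
      ← ConcreteCategory.comp_apply, ← Functor.map_comp, ← Functor.map_comp]
    rfl
  obtain ⟨n, hn⟩ := (QCoh.smulLift_and_smulSep_of_isAffineOpen hV F f).2 _ h0
  refine ⟨X.presheaf.germ V x hxV (f ^ n), ?_, ?_⟩
  · rw [spR_germ, map_pow]
    exact ((Scheme.mem_basicOpen _ f y hyV).1 hyf).pow n
  · rw [← TopCat.Presheaf.germ_res_apply F.presheaf (homOfLE hVU) x hxV, ← Mero.germ_smul, hn, map_zero]

/-- A prime of `O_x` comes from a point specialising to `x`, of the same height. -/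
theorem exists_point_of_prime (x : X) (p : Ideal (X.presheaf.stalk x)) [p.IsPrime] :
    ∃ (y : X) (h : y ⤳ x), ringKrullDim (X.presheaf.stalk y) = p.height ∧
      ∀ a : X.presheaf.stalk x, IsUnit (spR h a) ↔ a ∉ p := by
  obtain ⟨V, hV, hxV, -⟩ := Opens.isBasis_iff_nbhd.1 X.isBasis_affineOpens (Opens.mem_top x)
  let algX := TopCat.Presheaf.algebra_section_stalk X.presheaf (⟨x, hxV⟩ : V)
  have := hV.isLocalization_stalk ⟨x, hxV⟩
  let q : PrimeSpectrum Γ(X, V) := ⟨p.comap (X.presheaf.germ V x hxV).hom, Ideal.comap_isPrime _ _⟩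
  have hqx : q ≤ hV.primeIdealOf ⟨x, hxV⟩ := by
    rw [← QCoh.primeAt_eq_primeIdealOf hV hxV]
    exact Ideal.comap_mono (IsLocalRing.le_maximalIdeal Ideal.IsPrime.ne_top')
  obtain ⟨y, hy⟩ : ∃ y, hV.fromSpec q = y := ⟨_, rfl⟩
  have h : y ⤳ x := by
    have := ((PrimeSpectrum.le_iff_specializes _ _).1 hqx).map hV.fromSpec.continuous
    rwa [hV.fromSpec_primeIdealOf, hy] at this
  have hyV : y ∈ V := h.mem_open V.2 hxV
  have hq : q.asIdeal = WeakAss.primeAt y hyV := by
    subst hy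
    exact (WeakAss.primeAt_fromSpec hV q hyV).symm
  refine ⟨y, h, ?_, fun a => ?_⟩
  · let algY := TopCat.Presheaf.algebra_section_stalk X.presheaf (⟨y, hyV⟩ : V)
    have := hV.isLocalization_stalk ⟨y, hyV⟩
    rw [IsLocalization.AtPrime.ringKrullDim_eq_height (hV.primeIdealOf ⟨y, hyV⟩).asIdeal
      (X.presheaf.stalk y), ← QCoh.primeAt_eq_primeIdealOf hV hyV]
    change ((WeakAss.primeAt y hyV).height : WithBot ℕ∞) = _
    rw [← hq, ← IsLocalization.height_under (hV.primeIdealOf ⟨x, hxV⟩).asIdeal.primeCompl p]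
    rfl
  · obtain ⟨c, z, hc, hz⟩ := HomSh.exists_mul_eq_germ hV hxV a
    have hcu : IsUnit (X.presheaf.germ V x hxV c) := HomSh.isUnit_germ hxV hc
    have hz' := congrArg (spR h) hz
    rw [smul_eq_mul, map_mul, spR_germ, spR_germ] at hz'
    have hcy : IsUnit (X.presheaf.germ V y hyV c) := by
      rw [← spR_germ h hxV]
      exact hcu.map _
    calc IsUnit (spR h a) ↔ IsUnit (X.presheaf.germ V y hyV z) := by
            rw [← hz', IsUnit.mul_iff, and_iff_right hcy]
      _ ↔ z ∉ WeakAss.primeAt y hyV := by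
            rw [WeakAss.notMem_primeAt_iff, Scheme.mem_basicOpen _ z y hyV]
      _ ↔ X.presheaf.germ V x hxV z ∉ p := by rw [← hq]; rfl
      _ ↔ a ∉ p := by
            rw [← hz, smul_eq_mul]
            exact not_congr (p.unit_mul_mem_iff_mem hcu)

end GrothLib.Ref1
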