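import Groth.Agent.Lib.Ref1.Powers
import Mathlib.AlgebraicGeometry.Morphisms.Affine

/-!
# When is the locus where a section generates affine over the scheme
-/

set_option autoImplicit false

universe u

open CategoryTheory CategoryTheory.Limits Opposite AlgebraicGeometry TopologicalSpace GrothLib.InvExt

namespace GrothLib.Ref1

variable {X : Scheme.{u}} [IsIntegral X] [IsLocallyNoetherian X] {F : X.Modules}
  (s : Coh.structureModule X ⟶ F) (U : X.Opens) (hU : (U : Set X) = RefPow.isoLocus s)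

theorem exists_sp_eq_smul_mono (n : ℕ) {x : X} (c : X.presheaf.stalk (genericPoint X))
    (h : ∃ w, sp (RefPow.refPow F n) (hη x) w = c • RefPow.sPowGerm s n (genericPoint X)) :
    ∀ m, n ≤ m → ∃ w, sp (RefPow.refPow F m) (hη x) w = c • RefPow.sPowGerm s m (genericPoint X) := by
  intro m hm
  induction m, hm using Nat.le_induction with
  | base => exact h
  | succ m _ ih =>
    obtain ⟨w, hw⟩ := ih
    refine ⟨RefHull.stalkMapₗ (RefPow.mulBy s m) x w, ?_⟩
    rw [← stalkMapₗ_sp, hw, map_smul, ← sPowGerm_succ]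

include hU in
theorem isAffineHom_of_forall_mem (hF : RefHull.IsRef1 F)
    (h : ∀ x : X, x ∉ U → ∃ n : ℕ, RefPow.sPowGerm s n x ∈ IsLocalRing.maximalIdeal (X.presheaf.stalk x) •
      (⊤ : Submodule (X.presheaf.stalk x) ((RefPow.refPow F n).presheaf.stalk x))) :
    IsAffineHom U.ι := by
  refine isAffineHom_of_forall_exists_isAffineOpen _ fun x => ?_
  obtain ⟨V, hV, hxV, -⟩ := Opens.isBasis_iff_nbhd.1 X.isBasis_affineOpens (Opens.mem_top x)
  refine ⟨V, hxV, hV, ?_⟩
  rw [← U.ι.isAffineOpen_iff_of_isOpenImmersion, Scheme.Hom.image_preimage_eq_opensRange_inf,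
    Scheme.Opens.opensRange_ι]
  set ρ : Γ(X, V) →+* Γ(X, U ⊓ V) := (X.presheaf.map (homOfLE (inf_le_right : U ⊓ V ≤ V)).op).hom with hρ
  refine isAffineOpen_of_isAffineOpen_basicOpen (U ⊓ V) (ρ '' {a : Γ(X, V) | X.basicOpen a ≤ U}) ?_ ?_
  · by_contra hne
    obtain ⟨M, hM, hle⟩ := Ideal.exists_le_maximal _ hne
    let q : PrimeSpectrum Γ(X, V) := ⟨M.comap ρ, Ideal.comap_isPrime _ _⟩
    obtain ⟨y, hy⟩ : ∃ y, hV.fromSpec q = y := ⟨_, rfl⟩
    have hyV : y ∈ V := hy ▸ WeakAss.fromSpec_mem hV q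
    have hq : WeakAss.primeAt y hyV = q.asIdeal := by
      subst hy; exact WeakAss.primeAt_fromSpec hV q hyV
    have hyU : y ∉ U := fun hyU => by
      obtain ⟨a, ha, hya⟩ := hV.exists_basicOpen_le (V := U ⊓ V) ⟨y, hyU, hyV⟩ hyV
      have hna : a ∉ WeakAss.primeAt y hyV := WeakAss.notMem_primeAt_iff.2 hya
      refine hna ?_
      rw [hq]
      exact hle (Ideal.subset_span ⟨a, ha.trans inf_le_left, rfl⟩)
    obtain ⟨n, hn⟩ := h y hyU
    have hP := isRef1_refPow (F := F) hF n
    have := hP.1.1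
    let σ : Γ(RefPow.refPow F n, U ⊓ V) := SecTwist.val (RefPow.sPow s n) (U ⊓ V)
    have hgen : IsGen (RefPow.refPow F n) (U ⊓ V) σ := isGen_of_gen fun z hz => by
      rw [germ_val]
      exact gen_sPowGerm s U hU hF n hz.1
    -- the sections of `F^[n]` over `V` congruent to multiples of the power of the section
    let S : Ideal Γ(X, V) := RingHom.ker ((Ideal.Quotient.mk M).comp ρ)
    have key : ∀ m : Γ(RefPow.refPow F n, V), ∃ c : Γ(X, U ⊓ V),
        (RefPow.refPow F n).presheaf.map (homOfLE (inf_le_right : U ⊓ V ≤ V)).op m = c • σ := fun m => by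
      obtain ⟨c, hc⟩ := hgen.exists_smul_eq le_rfl ((RefPow.refPow F n).presheaf.map (homOfLE inf_le_right).op m)
      exact ⟨c, by rw [hc, mres_self]⟩
    have hmem : ∀ v ∈ (IsLocalRing.maximalIdeal (X.presheaf.stalk y) •
        (⊤ : Submodule (X.presheaf.stalk y) ((RefPow.refPow F n).presheaf.stalk y))),
        ∃ (b : Γ(X, V)) (m : Γ(RefPow.refPow F n, V)) (c : Γ(X, U ⊓ V)), b ∉ WeakAss.primeAt y hyV ∧
          X.presheaf.germ V y hyV b • v = (RefPow.refPow F n).presheaf.germ V y hyV m ∧ c ∈ M ∧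
          (RefPow.refPow F n).presheaf.map (homOfLE (inf_le_right : U ⊓ V ≤ V)).op m = c • σ := by
      intro v hv
      refine Submodule.smul_induction_on hv (fun r hr w _ => ?_) ?_
      · obtain ⟨b₁, r₁, hb₁, hr₁⟩ := HomSh.exists_mul_eq_germ hV hyV r
        obtain ⟨b₂, m₂, hb₂, hm₂⟩ := WeakAss.exists_smul_eq_germ (F := RefPow.refPow F n) hV hyV w
        obtain ⟨c, hc⟩ := key m₂
        have hr₁' : r₁ ∈ q.asIdeal := by
          rw [← hq]
          refine Ideal.mem_comap.2 ?_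
          change X.presheaf.germ V y hyV r₁ ∈ _
          rw [← hr₁]
          exact Ideal.mul_mem_left _ _ hr
        refine ⟨b₁ * b₂, r₁ • m₂, ρ r₁ * c, (WeakAss.primeAt y hyV).primeCompl.mul_mem hb₁ hb₂, ?_,
          Ideal.mul_mem_right _ _ hr₁', ?_⟩
        · rw [map_mul, mul_smul, smul_comm (X.presheaf.germ V y hyV b₂) r w, hm₂, ← mul_smul, Mero.germ_smul,
            ← hr₁, smul_eq_mul]
        · rw [Scheme.Modules.map_smul, hc, mul_smul]
      · rintro v v' ⟨b, m, c, hb, hbv, hcM, hmc⟩ ⟨b', m', c', hb', hbv', hcM', hmc'⟩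
        refine ⟨b * b', b' • m + b • m', ρ b' * c + ρ b * c', (WeakAss.primeAt y hyV).primeCompl.mul_mem hb hb', ?_,
          M.add_mem (M.mul_mem_left _ hcM) (M.mul_mem_left _ hcM'), ?_⟩
        · rw [map_mul, smul_add, map_add, Mero.germ_smul, Mero.germ_smul, ← hbv, ← hbv', smul_smul, smul_smul,
            mul_comm (X.presheaf.germ V y hyV b')]
        · rw [map_add, Scheme.Modules.map_smul, Scheme.Modules.map_smul, hmc, hmc', add_smul, mul_smul, mul_smul]
    obtain ⟨b, m, c, hb, hbm, hcM, hmc⟩ := hmem _ hn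
    let σV : Γ(RefPow.refPow F n, V) := SecTwist.val (RefPow.sPow s n) V
    obtain ⟨g, hg, hgm⟩ : ∃ g : Γ(X, V), g ∉ WeakAss.primeAt y hyV ∧ g • (m - b • σV) = 0 := by
      refine (WeakAss.germ_eq_zero_iff hV hyV _).1 ?_
      rw [map_sub, Mero.germ_smul, show (RefPow.refPow F n).presheaf.germ V y hyV σV = RefPow.sPowGerm s n y from germ_val _ _ _ _, ← hbm, sub_self]
    have e := congrArg ((RefPow.refPow F n).presheaf.map (homOfLE (inf_le_right : U ⊓ V ≤ V)).op) hgm
    rw [Scheme.Modules.map_smul, map_sub, map_zero, Scheme.Modules.map_smul, hmc,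
      show (RefPow.refPow F n).presheaf.map (homOfLE (inf_le_right : U ⊓ V ≤ V)).op σV = σ from
        SecTwist.map_val (RefPow.sPow s n) (homOfLE (inf_le_right : U ⊓ V ≤ V)), ← sub_smul, ← mul_smul] at e
    have e' : ρ g * (c - ρ b) = 0 := by
      have := hgen.smul_left_injective le_rfl (c := ρ g * (c - ρ b)) (d := 0)
        (by rw [mres_self, zero_smul]; exact e)
      exact this
    have hgb : g * b ∈ q.asIdeal := by
      have : ρ g * ρ b = ρ g * c := by linear_combination -e'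
      change ρ (g * b) ∈ M
      rw [map_mul, this]
      exact M.mul_mem_left _ hcM
    rw [hq] at hg hb
    exact (q.isPrime.mem_or_mem hgb).elim hg hb
  · rintro _ ⟨a, ha, rfl⟩
    rw [hρ]
    erw [Scheme.basicOpen_res]
    rw [inf_eq_right.2 (le_inf ha (X.basicOpen_le a))]
    exact hV.basicOpen a

include hU in
theorem forall_mem_of_isAffineHom (hX : Pi1.IsNormalScheme X) (hF : RefHull.IsRef1 F) [IsAffineHom U.ι]
    (x : X) (hxU : x ∉ U) :
    ∃ n : ℕ, 0 < n ∧ RefPow.sPowGerm s n x ∈ IsLocalRing.maximalIdeal (X.presheaf.stalk x) •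
      (⊤ : Submodule (X.presheaf.stalk x) ((RefPow.refPow F n).presheaf.stalk x)) := by
  classical
  by_cases hηU : genericPoint X ∈ U
  swap
  · refine ⟨1, one_pos, ?_⟩
    have h0 : valGerm s (genericPoint X) = 0 := by
      by_contra hne
      obtain ⟨e, he⟩ := exists_gen_of_genInvertible hF.2.2
      exact hηU (show genericPoint X ∈ (U : Set X) by rw [hU]; exact (bijective_iff_gen s _).2 (gen_of_ne_zero he hne))
    have hx : valGerm s x = 0 := injective_sp_of_isRef1 hX hF x
      ((valGerm_sp s (hη x)).trans (h0.trans (map_zero _).symm))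
    rw [sPowGerm_one, hx]
    exact Submodule.zero_mem _
  obtain ⟨V, hV, hxV, -⟩ := Opens.isBasis_iff_nbhd.1 X.isBasis_affineOpens (Opens.mem_top x)
  have hW : IsAffineOpen (U ⊓ V) := by
    have := (IsAffineHom.isAffine_preimage (f := U.ι) V hV).image_of_isOpenImmersion U.ι
    rwa [Scheme.Hom.image_preimage_eq_opensRange_inf, Scheme.Opens.opensRange_ι] at this
  set ρ : Γ(X, V) →+* Γ(X, U ⊓ V) := (X.presheaf.map (homOfLE (inf_le_right : U ⊓ V ≤ V)).op).hom with hρ
  have htop : Ideal.map ρ (WeakAss.primeAt x hxV) = ⊤ := by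
    by_contra hne
    obtain ⟨M, hM, hle⟩ := Ideal.exists_le_maximal _ hne
    obtain ⟨y, hy⟩ : ∃ y, hW.fromSpec ⟨M, hM.isPrime⟩ = y := ⟨_, rfl⟩
    have hyW : y ∈ U ⊓ V := hy ▸ WeakAss.fromSpec_mem hW _
    have hq : WeakAss.primeAt y hyW = M := by
      subst hy; exact WeakAss.primeAt_fromSpec hW _ hyW
    have hle' : WeakAss.primeAt x hxV ≤ WeakAss.primeAt y hyW.2 := fun a ha => by
      have h1 : ρ a ∈ WeakAss.primeAt y hyW := by rw [hq]; exact hle (Ideal.mem_map_of_mem _ ha)
      have h2 : X.presheaf.germ (U ⊓ V) y hyW (ρ a) = X.presheaf.germ V y hyW.2 a :=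
        TopCat.Presheaf.germ_res_apply _ _ _ _ _
      change X.presheaf.germ V y hyW.2 a ∈ IsLocalRing.maximalIdeal (X.presheaf.stalk y)
      rw [← h2]
      exact h1
    have hspec : x ⤳ y := by
      have hle'' : hV.primeIdealOf ⟨x, hxV⟩ ≤ hV.primeIdealOf ⟨y, hyW.2⟩ := by
        rw [← QCoh.primeAt_eq_primeIdealOf hV hxV, ← QCoh.primeAt_eq_primeIdealOf hV hyW.2]
        exact hle'
      have := ((PrimeSpectrum.le_iff_specializes _ _).1 hle'').map hV.fromSpec.continuous
      rwa [hV.fromSpec_primeIdealOf, hV.fromSpec_primeIdealOf] at this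
    exact hxU (hspec.mem_open U.2 hyW.1)
  obtain ⟨k, r, b, hrb⟩ := Submodule.mem_span_set'.1 (show (1 : Γ(X, U ⊓ V)) ∈
    Submodule.span Γ(X, U ⊓ V) (ρ '' (WeakAss.primeAt x hxV : Set Γ(X, V))) by
      change (1 : Γ(X, U ⊓ V)) ∈ Ideal.map ρ (WeakAss.primeAt x hxV)
      rw [htop]
      trivial)
  choose a ha hab using fun i => (b i).2
  have hηW : genericPoint X ∈ U ⊓ V := ⟨hηU, (hη x).mem_open V.2 hxV⟩
  have hext : ∀ i, ∃ n, ∃ w, sp (RefPow.refPow F n) (hη x) w =
      X.presheaf.germ (U ⊓ V) (genericPoint X) hηW (r i) • RefPow.sPowGerm s n (genericPoint X) := fun i =>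
    exists_sp_eq_smul_sPowGerm s U hU hX hF hηU hV hxV _ fun y hy hyU =>
      ⟨X.presheaf.germ (U ⊓ V) y ⟨hyU, hy.mem_open V.2 hxV⟩ (r i), spR_germ _ _ _⟩
  choose n hn using hext
  let N := Finset.univ.sup n + 1
  choose w hw using fun i => exists_sp_eq_smul_mono s (n i) _ (hn i) N
    ((Finset.le_sup (Finset.mem_univ i)).trans (Nat.le_succ _))
  refine ⟨N, Nat.succ_pos _, ?_⟩
  have hP := isRef1_refPow (F := F) hF N
  have key : RefPow.sPowGerm s N x = ∑ i, X.presheaf.germ V x hxV (a i) • w i := by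
    refine injective_sp_of_isRef1 hX hP x ?_
    rw [map_sum, show sp (RefPow.refPow F N) (hη x) (RefPow.sPowGerm s N x) = RefPow.sPowGerm s N (genericPoint X) from
      valGerm_sp (RefPow.sPow s N) (hη x)]
    refine Eq.symm (Eq.trans ?_ (one_smul (X.presheaf.stalk (genericPoint X)) _))
    simp only [sp_smul, hw, ← mul_smul, ← Finset.sum_smul]
    congr 1
    rw [← map_one (X.presheaf.germ (U ⊓ V) (genericPoint X) hηW).hom, ← hrb, map_sum]
    refine Finset.sum_congr rfl fun i _ => ?_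
    rw [smul_eq_mul, map_mul, mul_comm, spR_germ]
    congr 1
    rw [← hab i]
    exact (TopCat.Presheaf.germ_res_apply X.presheaf _ _ _ _).symm
  rw [key]
  refine Submodule.sum_mem _ fun i _ => Submodule.smul_mem_smul ?_ trivial
  exact ha i

end GrothLib.Ref1
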