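import Groth.Agent.Lib.Ref1.Specialize
import Groth.Agent.Lib.Ref1.DepthTwo
import Groth.Agent.Lib.HomSh.Coherent
import Groth.Agent.Lib.HomSh.Criterion
import Groth.Prelude.Def_CurvBase

/-!
# Isomorphisms detected off points of depth two
-/

set_option autoImplicit false

universe u

open CategoryTheory Opposite AlgebraicGeometry TopologicalSpace IsLocalRing

namespace GrothLib.Ref1

variable {X : Scheme.{u}} [IsLocallyNoetherian X] {F G : X.Modules}

theorem isIso_of_stalk_or_depth_two (hF : Coh.IsCoh F) [G.IsQuasicoherent] (φ : F ⟶ G)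
    (h : ∀ x : X, Function.Bijective (RefHull.stalkMapₗ φ x) ∨
      ((2 : ℕ∞) ≤ LocCoh.depth (X.presheaf.stalk x) (F.presheaf.stalk x) ∧ ¬ Curv2.IsAssPoint G x)) :
    IsIso φ := by
  have := hF.1
  have hrel := HomSh.hasRel_of_isCoh hF
  have key : ∀ (n : ℕ) (x : X), ringKrullDim (X.presheaf.stalk x) = n →
      Function.Bijective (RefHull.stalkMapₗ φ x) := by
    intro n
    induction n using Nat.strong_induction_on with
    | _ n ih =>
      intro x hx
      rcases h x with hb | ⟨hd, hass⟩
      · exact hb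
      have := hrel.span_stalk x
      have hgen : ∀ p : Ideal (X.presheaf.stalk x), p.IsPrime → p ≠ maximalIdeal _ →
          ∃ (y : X) (h : y ⤳ x), Function.Bijective (RefHull.stalkMapₗ φ y) ∧
            ∀ a : X.presheaf.stalk x, IsUnit (spR h a) ↔ a ∉ p := by
        intro p hp hne
        obtain ⟨y, hyx, hy, hunit⟩ := exists_point_of_prime x p
        obtain ⟨m, hm, -⟩ := GrothLib.RegLoc.exists_dim_eq (R := X.presheaf.stalk y)
        refine ⟨y, hyx, ih m ?_ y hm, hunit⟩
        have : ringKrullDim (X.presheaf.stalk y) < ringKrullDim (X.presheaf.stalk x) := by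
          rw [hy, ← IsLocalRing.maximalIdeal_height_eq_ringKrullDim]
          exact WithBot.coe_lt_coe.2 (Ideal.height_strict_mono_of_isPrime_of_isPrime
            (lt_of_le_of_ne (le_maximalIdeal hp.ne_top) hne))
        rw [hm, hx] at this
        exact_mod_cast this
      refine bijective_of_depth_two (RefHull.stalkMapₗ φ x) hd (fun v hv => ?_) (fun w => ?_) hass
      · have hJ : ∀ p : Ideal (X.presheaf.stalk x), p.IsPrime → p ≠ maximalIdeal _ →
            ¬ LinearMap.ker (LinearMap.toSpanSingleton (X.presheaf.stalk x) (F.presheaf.stalk x) v) ≤ p := by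
          intro p hp hne hle
          obtain ⟨y, hyx, hb, hunit⟩ := hgen p hp hne
          have h0 : sp F hyx v = 0 := hb.1 (by rw [stalkMapₗ_sp, hv, map_zero, map_zero])
          obtain ⟨a, ha, hav⟩ := exists_smul_eq_zero_of_sp F hyx v h0
          exact (hunit a).1 ha (hle hav)
        obtain ⟨k, hk⟩ := exists_pow_le_of_forall_prime hJ
        exact ⟨k, fun b hb => hk hb⟩
      · have hJ : ∀ p : Ideal (X.presheaf.stalk x), p.IsPrime → p ≠ maximalIdeal _ →
            ¬ (LinearMap.range (RefHull.stalkMapₗ φ x)).comap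
              (LinearMap.toSpanSingleton (X.presheaf.stalk x) (G.presheaf.stalk x) w) ≤ p := by
          intro p hp hne hle
          obtain ⟨y, hyx, hb, hunit⟩ := hgen p hp hne
          obtain ⟨z, hz⟩ := hb.2 (sp G hyx w)
          obtain ⟨a, f, ha, haf⟩ := exists_sp_smul F hyx z
          have h0 : sp G hyx (RefHull.stalkMapₗ φ x f - a • w) = 0 := by
            rw [map_sub, ← stalkMapₗ_sp, ← haf, map_smul, hz, ← sp_smul, sub_self]
          obtain ⟨c, hc, hcw⟩ := exists_smul_eq_zero_of_sp G hyx _ h0
          rw [smul_sub, sub_eq_zero, ← map_smul, ← mul_smul] at hcw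
          have hu : IsUnit (spR hyx (c * a)) := by rw [map_mul]; exact hc.mul ha
          exact (hunit _).1 hu (hle ⟨c • f, hcw⟩)
        obtain ⟨k, hk⟩ := exists_pow_le_of_forall_prime hJ
        exact ⟨k, fun b hb => hk hb⟩
  rw [GrothLib.OX.isIso_iff]
  intro x
  rw [ConcreteCategory.isIso_iff_bijective]
  obtain ⟨m, hm, -⟩ := GrothLib.RegLoc.exists_dim_eq (R := X.presheaf.stalk x)
  refine Eq.mpr (congrArg Function.Bijective (funext fun v => ?_)) (key m x hm)
  obtain ⟨U, hU, s, rfl⟩ := TopCat.Presheaf.exists_germ_eq F.presheaf v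
  exact (QCoh.stalkLin_germ φ hU s).trans (RefHull.stalkMapₗ_germ φ x hU s).symm

end GrothLib.Ref1
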